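import Mathlib

/-!
Combinatorics of the prime graph: `Adj G r s` = there is an element of order `r * s`;
`Five G` = at most six prime divisors, and five pairwise non-adjacent ones.
-/

set_option autoImplicit false

namespace Cfsg.Agent.H423.PG

universe u v

/-- there is an element of order `r * s` -/
def Adj (G : Type u) [Group G] (r s : ℕ) : Prop := ∃ g : G, orderOf g = r * s

/-- at most six prime divisors, five of them pairwise non-adjacent -/
def Five (G : Type u) [Group G] : Prop :=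
  (Nat.card G).primeFactors.card ≤ 6 ∧ ∃ ρ ⊆ (Nat.card G).primeFactors, ρ.card = 5 ∧
    ∀ r ∈ ρ, ∀ s ∈ ρ, r ≠ s → ¬ Adj G r s

section
variable {G : Type u} [Group G] {H : Type v} [Group H]

theorem Adj.symm {r s : ℕ} (h : Adj G r s) : Adj G s r := by
  obtain ⟨g, hg⟩ := h
  exact ⟨g, by rw [hg, mul_comm]⟩

theorem Adj.map {r s : ℕ} (h : Adj G r s) (f : G →* H) (hf : Function.Injective f) : Adj H r s := by
  obtain ⟨g, hg⟩ := h
  exact ⟨f g, by rw [orderOf_injective f hf, hg]⟩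

theorem Adj.of_subgroup {K : Subgroup G} {r s : ℕ} (h : Adj K r s) : Adj G r s :=
  h.map K.subtype K.subtype_injective

theorem adj_congr (e : G ≃* H) {r s : ℕ} : Adj G r s ↔ Adj H r s :=
  ⟨fun h => h.map e.toMonoidHom e.injective, fun h => h.map e.symm.toMonoidHom e.symm.injective⟩

/-- an element whose order is divisible by `m` has a power of order `m` -/
theorem exists_pow_orderOf [Finite G] {g : G} {m : ℕ} (h : m ∣ orderOf g) : ∃ k : ℕ, orderOf (g ^ k) = m := by
  obtain ⟨k, hk⟩ := h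
  have hpos : 0 < orderOf g := orderOf_pos g
  have hk0 : k ≠ 0 := by
    rintro rfl
    rw [mul_zero] at hk
    omega
  refine ⟨k, ?_⟩
  rw [orderOf_pow_of_dvd hk0 (by rw [hk]; exact Dvd.intro_left _ rfl), hk]
  exact Nat.mul_div_cancel _ (Nat.pos_of_ne_zero hk0)

/-- adjacency in a homomorphic image lifts -/
theorem Adj.of_surjective [Finite G] {r s : ℕ} (h : Adj H r s) (f : G →* H) (hf : Function.Surjective f) :
    Adj G r s := by
  obtain ⟨y, hy⟩ := h
  obtain ⟨x, rfl⟩ := hf y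
  obtain ⟨k, hk⟩ := exists_pow_orderOf (G := G) (g := x) (m := r * s) (hy ▸ orderOf_map_dvd f x)
  exact ⟨x ^ k, hk⟩

theorem Adj.of_quotient [Finite G] {N : Subgroup G} [N.Normal] {r s : ℕ} (h : Adj (G ⧸ N) r s) : Adj G r s :=
  h.of_surjective (QuotientGroup.mk' N) (QuotientGroup.mk'_surjective N)

theorem adj_of_commute {x y : G} {r s : ℕ} (hr : r.Prime) (hs : s.Prime) (hrs : r ≠ s) (hx : orderOf x = r)
    (hy : orderOf y = s) (h : Commute x y) : Adj G r s :=
  ⟨x * y, by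
    rw [h.orderOf_mul_eq_mul_orderOf_of_coprime, hx, hy]
    rw [hx, hy]
    exact (Nat.coprime_primes hr hs).2 hrs⟩

theorem adj_of_commute_subgroups [Finite G] {A B : Subgroup G} (h : ∀ a ∈ A, ∀ b ∈ B, a * b = b * a) {r s : ℕ}
    (hr : r.Prime) (hs : s.Prime) (hrs : r ≠ s) (hA : r ∣ Nat.card A) (hB : s ∣ Nat.card B) : Adj G r s := by
  have : Fact r.Prime := ⟨hr⟩
  have : Fact s.Prime := ⟨hs⟩
  obtain ⟨x, hx⟩ := exists_prime_orderOf_dvd_card' r hA
  obtain ⟨y, hy⟩ := exists_prime_orderOf_dvd_card' s hB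
  refine adj_of_commute hr hs hrs (x := (x : G)) (y := (y : G)) ?_ ?_ (h x x.2 y y.2)
  · rw [Subgroup.orderOf_coe, hx]
  · rw [Subgroup.orderOf_coe, hy]

theorem Adj.left_dvd [Finite G] {r s : ℕ} (h : Adj G r s) : r ∣ Nat.card G := by
  obtain ⟨g, hg⟩ := h
  exact (Dvd.intro _ rfl).trans (hg ▸ orderOf_dvd_natCard g)

theorem Adj.right_dvd [Finite G] {r s : ℕ} (h : Adj G r s) : s ∣ Nat.card G := h.symm.left_dvd

theorem mem_pf [Finite G] {r : ℕ} (hr : r.Prime) (h : r ∣ Nat.card G) : r ∈ (Nat.card G).primeFactors :=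
  Nat.mem_primeFactors.2 ⟨hr, h, Nat.card_pos.ne'⟩

theorem five_congr (e : G ≃* H) : Five G ↔ Five H := by
  unfold Five
  rw [Nat.card_congr e.toEquiv]
  simp only [adj_congr e]

end

section
variable {G : Type u} [Group G] [Finite G]

theorem not_five_of_triangle {r s t : ℕ} (hr : r.Prime) (hs : s.Prime) (ht : t.Prime) (hrs : r ≠ s) (hrt : r ≠ t)
    (hst : s ≠ t) (h1 : Adj G r s) (h2 : Adj G r t) (h3 : Adj G s t) : ¬ Five G := by
  rintro ⟨h6, ρ, hρ, h5, hco⟩
  have hr' := mem_pf hr h1.left_dvd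
  have hs' := mem_pf hs h1.right_dvd
  have ht' := mem_pf ht h2.right_dvd
  have key : ∀ a b, a ≠ b → Adj G a b → a ∉ ρ ∨ b ∉ ρ := by
    intro a b hab h
    by_contra hcon
    push Not at hcon
    exact hco a hcon.1 b hcon.2 hab h
  -- two of the three are outside
  have hsub : ∀ a b, a ≠ b → a ∈ (Nat.card G).primeFactors → b ∈ (Nat.card G).primeFactors → a ∉ ρ → b ∉ ρ → False := by
    intro a b hab ha hb ha' hb'
    have h7 : (insert a (insert b ρ)).card ≤ (Nat.card G).primeFactors.card := by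
      apply Finset.card_le_card
      intro x hx
      rw [Finset.mem_insert, Finset.mem_insert] at hx
      rcases hx with rfl | rfl | hx
      · exact ha
      · exact hb
      · exact hρ hx
    rw [Finset.card_insert_of_notMem, Finset.card_insert_of_notMem hb'] at h7
    · omega
    · rw [Finset.mem_insert, not_or]
      exact ⟨hab, ha'⟩
  rcases key r s hrs h1 with h | h
  · rcases key s t hst h3 with h' | h'
    · exact hsub r s hrs hr' hs' h h'
    · exact hsub r t hrt hr' ht' h h'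
  · rcases key r t hrt h2 with h' | h'
    · exact hsub r s hrs hr' hs' h' h
    · exact hsub s t hst hs' ht' h h'

theorem not_five_of_edges {r s t w : ℕ} (hr : r.Prime) (hs : s.Prime) (ht : t.Prime) (hw : w.Prime)
    (hrs : r ≠ s) (htw : t ≠ w) (hrt : r ≠ t) (hrw : r ≠ w) (hst : s ≠ t) (hsw : s ≠ w)
    (h1 : Adj G r s) (h2 : Adj G t w) : ¬ Five G := by
  rintro ⟨h6, ρ, hρ, h5, hco⟩
  have hr' := mem_pf hr h1.left_dvd
  have hs' := mem_pf hs h1.right_dvd
  have ht' := mem_pf ht h2.left_dvd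
  have hw' := mem_pf hw h2.right_dvd
  have key : ∀ a b, a ≠ b → Adj G a b → a ∉ ρ ∨ b ∉ ρ := by
    intro a b hab h
    by_contra hcon
    push Not at hcon
    exact hco a hcon.1 b hcon.2 hab h
  have hsub : ∀ a b, a ≠ b → a ∈ (Nat.card G).primeFactors → b ∈ (Nat.card G).primeFactors → a ∉ ρ → b ∉ ρ → False := by
    intro a b hab ha hb ha' hb'
    have h7 : (insert a (insert b ρ)).card ≤ (Nat.card G).primeFactors.card := by
      apply Finset.card_le_card
      intro x hx
      rw [Finset.mem_insert, Finset.mem_insert] at hx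
      rcases hx with rfl | rfl | hx
      · exact ha
      · exact hb
      · exact hρ hx
    rw [Finset.card_insert_of_notMem, Finset.card_insert_of_notMem hb'] at h7
    · omega
    · rw [Finset.mem_insert, not_or]
      exact ⟨hab, ha'⟩
  rcases key r s hrs h1 with h | h <;> rcases key t w htw h2 with h' | h'
  · exact hsub r t hrt hr' ht' h h'
  · exact hsub r w hrw hr' hw' h h'
  · exact hsub s t hst hs' ht' h h'
  · exact hsub s w hsw hs' hw' h h'

omit [Finite G] in
theorem not_five_of_le_four (h : (Nat.card G).primeFactors.card ≤ 4) : ¬ Five G := by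
  rintro ⟨-, ρ, hρ, h5, -⟩
  have := Finset.card_le_card hρ
  omega

omit [Finite G] in
theorem not_five_of_seven_le (h : 7 ≤ (Nat.card G).primeFactors.card) : ¬ Five G := by
  rintro ⟨h6, -⟩
  omega

theorem not_five_of_le_five (h : (Nat.card G).primeFactors.card ≤ 5) {r s : ℕ} (hr : r.Prime) (hs : s.Prime)
    (hrs : r ≠ s) (h1 : Adj G r s) : ¬ Five G := by
  rintro ⟨-, ρ, hρ, h5, hco⟩
  have : ρ = (Nat.card G).primeFactors := Finset.eq_of_subset_of_card_le hρ (by omega)
  subst this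
  exact hco r (mem_pf hr h1.left_dvd) s (mem_pf hs h1.right_dvd) hrs h1

omit [Finite G] in
theorem not_five_of_cover (f : ℕ → Fin 4)
    (h : ∀ r ∈ (Nat.card G).primeFactors, ∀ s ∈ (Nat.card G).primeFactors, r ≠ s → f r = f s → Adj G r s) :
    ¬ Five G := by
  rintro ⟨-, ρ, hρ, h5, hco⟩
  have hc : (Finset.univ : Finset (Fin 4)).card < ρ.card := by
    rw [h5, Finset.card_univ, Fintype.card_fin]; norm_num
  obtain ⟨r, hr, s, hs, hrs, hf⟩ := Finset.exists_ne_map_eq_of_card_lt_of_maps_to hc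
    (f := f) (fun _ _ => Finset.mem_coe.2 (Finset.mem_univ _))
  exact hco r hr s hs hrs (h r (hρ hr) s (hρ hs) hrs hf)

/-- commuting subgroups `A ∋ r, s`, `B ∋ r, s, t` -/
theorem not_five_of_commute {A B : Subgroup G} (h : ∀ a ∈ A, ∀ b ∈ B, a * b = b * a) {r s t : ℕ}
    (hr : r.Prime) (hs : s.Prime) (ht : t.Prime) (hrs : r ≠ s) (hrt : r ≠ t) (hst : s ≠ t)
    (hAr : r ∣ Nat.card A) (hAs : s ∣ Nat.card A) (hBs : s ∣ Nat.card B) (hBt : t ∣ Nat.card B) : ¬ Five G :=
  not_five_of_triangle hr hs ht hrs hrt hst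
    (adj_of_commute_subgroups h hr hs hrs hAr hBs) (adj_of_commute_subgroups h hr ht hrt hAr hBt)
    (adj_of_commute_subgroups h hs ht hst hAs hBt)

end

/-! ### numbers of prime factors -/

theorem card_primeFactors_le_of_dvd {n : ℕ} {L : Finset ℕ} (hn : ∀ p, p.Prime → p ∣ n → p ∈ L) :
    n.primeFactors.card ≤ L.card := by
  apply Finset.card_le_card
  intro p hp
  exact hn p (Nat.prime_of_mem_primeFactors hp) (Nat.dvd_of_mem_primeFactors hp)

theorem le_card_primeFactors {n : ℕ} (hn : n ≠ 0) {L : Finset ℕ} (h : ∀ p ∈ L, p.Prime ∧ p ∣ n) :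
    L.card ≤ n.primeFactors.card := by
  apply Finset.card_le_card
  intro p hp
  exact Nat.mem_primeFactors.2 ⟨(h p hp).1, (h p hp).2, hn⟩

/-- a prime power `q ≥ 4`: `q (q² - 1)` has three prime divisors -/
theorem three_primes {p f q : ℕ} (hp : p.Prime) (hq : q = p ^ f) (h4 : 4 ≤ q) :
    ∃ r s t : ℕ, r.Prime ∧ s.Prime ∧ t.Prime ∧ r ≠ s ∧ r ≠ t ∧ s ≠ t ∧ r ∣ q ∧ s ∣ q ^ 2 - 1 ∧ t ∣ q ^ 2 - 1 := by
  have hf : f ≠ 0 := by
    rintro rfl
    rw [pow_zero] at hq
    omega
  have hpq : p ∣ q := hq ▸ dvd_pow_self p hf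
  have hfac : q ^ 2 - 1 = (q - 1) * (q + 1) := by
    obtain ⟨k, rfl⟩ : ∃ k, q = k + 1 := ⟨q - 1, by omega⟩
    rw [Nat.add_sub_cancel]
    have : (k + 1) ^ 2 = k * (k + 1 + 1) + 1 := by ring
    omega
  have hp1 : ¬ p ∣ q ^ 2 - 1 := by
    intro h
    have h1 : p ∣ q ^ 2 := dvd_pow hpq (by norm_num)
    have h2 : p ∣ q ^ 2 - (q ^ 2 - 1) := Nat.dvd_sub h1 h
    have h3 : q ^ 2 - (q ^ 2 - 1) = 1 := by
      have : 1 ≤ q ^ 2 := Nat.one_le_pow _ _ (by omega)
      omega
    rw [h3] at h2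
    exact hp.one_lt.ne' (Nat.dvd_one.1 h2)
  have key : ∃ s t : ℕ, s.Prime ∧ t.Prime ∧ s ≠ t ∧ s ∣ q ^ 2 - 1 ∧ t ∣ q ^ 2 - 1 := by
    rcases Nat.even_or_odd q with he | ho
    · -- q even: coprime odd factors
      obtain ⟨s, hs, hs1⟩ := Nat.exists_prime_and_dvd (n := q - 1) (by omega)
      obtain ⟨t, ht, ht1⟩ := Nat.exists_prime_and_dvd (n := q + 1) (by omega)
      refine ⟨s, t, hs, ht, ?_, ?_, ?_⟩
      · rintro rfl
        have h2 : s ∣ (q + 1) - (q - 1) := Nat.dvd_sub ht1 hs1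
        have h3 : (q + 1) - (q - 1) = 2 := by omega
        rw [h3] at h2
        have h4' := (Nat.prime_dvd_prime_iff_eq hs Nat.prime_two).1 h2
        subst h4'
        obtain ⟨k, hk⟩ := he
        omega
      · rw [hfac]; exact hs1.mul_right _
      · rw [hfac]; exact ht1.mul_left _
    · -- q odd: 2 and an odd prime
      by_contra hcon
      push Not at hcon
      have h2 : 2 ∣ q ^ 2 - 1 := by
        rw [hfac]
        obtain ⟨k, hk⟩ := ho
        exact Dvd.dvd.mul_right ⟨k, by omega⟩ _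
      have hpow : ∀ m, m ∣ q ^ 2 - 1 → ∃ k, m = 2 ^ k := by
        intro m hm
        refine ⟨m.primeFactorsList.length, Nat.eq_prime_pow_of_unique_prime_dvd ?_ ?_⟩
        · rintro rfl
          rw [zero_dvd_iff] at hm
          have : 16 ≤ q ^ 2 := by nlinarith
          omega
        · intro d hd hdm
          by_contra hne
          exact hcon d 2 hd Nat.prime_two hne (hdm.trans hm) h2
      obtain ⟨a, ha⟩ := hpow (q - 1) (by rw [hfac]; exact Dvd.intro _ rfl)
      obtain ⟨b, hb⟩ := hpow (q + 1) (by rw [hfac]; exact Dvd.intro_left _ rfl)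
      have h1 : 2 ^ b = 2 ^ a + 2 := by omega
      have ha2 : 2 ≤ a := by
        by_contra h
        have h' : a ≤ 1 := by omega
        have : 2 ^ a ≤ 2 ^ 1 := Nat.pow_le_pow_right (by norm_num) h'
        have h5 : q = 3 ∨ q ≤ 3 := by omega
        omega
      have hb2 : 2 ≤ b := by
        by_contra h
        have h' : b ≤ 1 := by omega
        have : 2 ^ b ≤ 2 ^ 1 := Nat.pow_le_pow_right (by norm_num) h'
        omega
      have h4a : 4 ∣ 2 ^ a := (pow_dvd_pow 2 ha2 : 2 ^ 2 ∣ 2 ^ a)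
      have h4b : 4 ∣ 2 ^ b := (pow_dvd_pow 2 hb2 : 2 ^ 2 ∣ 2 ^ b)
      omega
  obtain ⟨s, t, hs, ht, hst, hs1, ht1⟩ := key
  refine ⟨p, s, t, hp, hs, ht, ?_, ?_, hst, hpq, hs1, ht1⟩
  · rintro rfl; exact hp1 hs1
  · rintro rfl; exact hp1 ht1

end Cfsg.Agent.H423.PG
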