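import Mathlib
import Cfsg.Agent.H423.PG
import Cfsg.Agent.TwoFusion.SLTwoFacts
import Cfsg.Agent.LieClassical.SLGen
import Cfsg.Agent.ClassicalGeometry.PSL2Basic

/-!
Homomorphisms from perfect groups (`SL(2,q)`, `SL(3,q)`) and the prime graph.
-/

set_option autoImplicit false

namespace Cfsg.Agent.H423.PGPerf

open Cfsg.Agent.H423.PG

universe u v w

section
variable {P : Type u} [Group P] {X : Type v} [Group X]

/-- a homomorphism from a perfect group lands in the commutator subgroup -/
theorem exists_lift (hP : commutator P = ⊤) (f : P →* X) :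
    ∃ f' : P →* ↥(commutator X), ∀ a, (f' a : X) = f a := by
  have h : ∀ a, f a ∈ commutator X := by
    intro a
    have h1 : a ∈ commutator P := hP ▸ Subgroup.mem_top a
    have h2 : (commutator P).map f ≤ commutator X := by
      rw [commutator_def, commutator_def, Subgroup.map_commutator]
      exact Subgroup.commutator_mono le_top le_top
    exact h2 (Subgroup.mem_map_of_mem f h1)
  exact ⟨f.codRestrict _ h, fun a => rfl⟩

/-- a non-trivial homomorphism from a perfect group stays non-trivial modulo a central subgroup -/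
theorem quot_ne_one (hP : commutator P = ⊤) (f : P →* X) (hf : f ≠ 1) (Z : Subgroup X) [Z.Normal]
    (hZ : Z ≤ Subgroup.center X) : (QuotientGroup.mk' Z).comp f ≠ 1 := by
  intro h
  apply hf
  have h1 : ∀ a, f a ∈ Z := by
    intro a
    have := DFunLike.congr_fun h a
    simpa using this
  have h2 : commutator P ≤ f.ker := by
    rw [commutator_def, Subgroup.commutator_le]
    intro a _ b _
    rw [MonoidHom.mem_ker, map_commutatorElement, commutatorElement_eq_one_iff_mul_comm]
    exact (Subgroup.mem_center_iff.1 (hZ (h1 b)) (f a))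
  ext a
  have : a ∈ f.ker := h2 (hP ▸ Subgroup.mem_top a)
  simpa using this

/-- `P` perfect with `P / Z(P)` simple: the kernel of a non-trivial homomorphism is central. -/
theorem ker_le_center (hP : commutator P = ⊤) (hs : IsSimpleGroup (P ⧸ Subgroup.center P))
    (f : P →* X) (hf : f ≠ 1) : f.ker ≤ Subgroup.center P := by
  set π := QuotientGroup.mk' (Subgroup.center P) with hπ
  have hsurj : Function.Surjective π := QuotientGroup.mk'_surjective _
  have hn : (f.ker.map π).Normal := (inferInstance : f.ker.Normal).map π hsurj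
  rcases hn.eq_bot_or_eq_top with h | h
  · rw [Subgroup.map_eq_bot_iff, hπ, QuotientGroup.ker_mk'] at h
    exact h
  · exfalso
    apply hf
    have h1 : ∀ a : P, ∃ k ∈ f.ker, ∃ z ∈ Subgroup.center P, a = k * z := by
      intro a
      have h2 : π a ∈ f.ker.map π := h ▸ Subgroup.mem_top _
      obtain ⟨k, hk, hka⟩ := h2
      refine ⟨k, hk, k⁻¹ * a, ?_, by group⟩
      rw [← QuotientGroup.eq]
      exact hka
    have h2 : commutator P ≤ f.ker := by
      rw [commutator_def, Subgroup.commutator_le]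
      intro a _ b _
      obtain ⟨k, hk, z, hz, rfl⟩ := h1 b
      rw [MonoidHom.mem_ker, map_commutatorElement, commutatorElement_eq_one_iff_mul_comm, map_mul,
        MonoidHom.mem_ker.1 hk, one_mul, ← map_mul, ← map_mul, Subgroup.mem_center_iff.1 hz a]
    ext a
    have : a ∈ f.ker := h2 (hP ▸ Subgroup.mem_top a)
    simpa using this

/-- `P` perfect with `P / Z(P)` simple: the order of `P / Z(P)` divides the order of every non-trivial image. -/
theorem card_dvd_range [Finite P] (hP : commutator P = ⊤) (hs : IsSimpleGroup (P ⧸ Subgroup.center P))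
    (f : P →* X) (hf : f ≠ 1) : Nat.card (P ⧸ Subgroup.center P) ∣ Nat.card f.range := by
  have h1 : Nat.card f.range = f.ker.index := by
    rw [Subgroup.index, ← Nat.card_congr (QuotientGroup.quotientKerEquivRange f).toEquiv]
  rw [h1]
  exact Subgroup.index_dvd_of_le (ker_le_center hP hs f hf)

end

section SL2
variable {K : Type u} [Field K] [Fintype K] {X : Type v} [Group X]

/-- the primes of `q (q² - 1)` divide the order of `PSL(2, q)`, `q ≥ 4` -/
theorem dvd_card_psl2 (h4 : 4 ≤ Fintype.card K) {r : ℕ} (hr : r.Prime)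
    (h : r ∣ Fintype.card K * (Fintype.card K ^ 2 - 1)) :
    r ∣ Nat.card (Matrix.ProjectiveSpecialLinearGroup (Fin 2) K) := by
  have hc := Cfsg.Agent.ClassicalGeometry.PSL2Basic.card_PSL2_gcd (F := K)
  have hd : Nat.gcd 2 (Fintype.card K - 1) ∣ 2 := Nat.gcd_dvd_left _ _
  rcases (Nat.dvd_prime Nat.prime_two).1 hd with h1 | h1
  · rw [h1, mul_one] at hc
    rw [hc]
    exact h
  · rw [h1] at hc
    by_cases hr2 : r = 2
    · subst hr2
      -- 8 divides q² - 1
      have h2 : 2 ∣ Fintype.card K - 1 := h1 ▸ Nat.gcd_dvd_right 2 (Fintype.card K - 1)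
      obtain ⟨k, hk⟩ := h2
      have hq : Fintype.card K = 2 * k + 1 := by omega
      have h5 : Fintype.card K ^ 2 - 1 = 4 * (k * (k + 1)) := by
        rw [hq]
        have : (2 * k + 1) ^ 2 = 4 * (k * (k + 1)) + 1 := by ring
        omega
      rw [h5] at hc
      refine ⟨Fintype.card K * (k * (k + 1)), ?_⟩
      have : Nat.card (Matrix.ProjectiveSpecialLinearGroup (Fin 2) K) * 2 =
        2 * (Fintype.card K * (k * (k + 1))) * 2 := by rw [hc]; ring
      exact Nat.eq_of_mul_eq_mul_right (by norm_num) this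
    · rw [← hc] at h
      rcases hr.dvd_mul.1 h with h3 | h3
      · exact h3
      · exact absurd ((Nat.prime_dvd_prime_iff_eq hr Nat.prime_two).1 h3) hr2

theorem dvd_card_range_SL2 (h4 : 4 ≤ Fintype.card K) (f : Matrix.SpecialLinearGroup (Fin 2) K →* X) (hf : f ≠ 1)
    {r : ℕ} (hr : r.Prime) (h : r ∣ Fintype.card K * (Fintype.card K ^ 2 - 1)) : r ∣ Nat.card f.range :=
  (dvd_card_psl2 h4 hr h).trans
    (card_dvd_range (Cfsg.Agent.TwoFusion.SLTwoFacts.commutator_eq_top (by omega))
      (Cfsg.Agent.TwoFusion.SLTwoFacts.isSimpleGroup_psl (by omega)) f hf)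

/-- **two commuting non-trivial homomorphisms of `SL(2, q)`, `q ≥ 4`** -/
theorem not_five_of_SL2 [Finite X] (h4 : 4 ≤ Fintype.card K) (f g : Matrix.SpecialLinearGroup (Fin 2) K →* X)
    (hf : f ≠ 1) (hg : g ≠ 1) (hc : ∀ a b, f a * g b = g b * f a) : ¬ Five X := by
  obtain ⟨p, hp⟩ := CharP.exists K
  obtain ⟨n, hpp, hn⟩ := FiniteField.card K p
  obtain ⟨r, s, t, hr, hs, ht, hrs, hrt, hst, hrq, hsq, htq⟩ := three_primes hpp hn h4
  refine not_five_of_commute (A := f.range) (B := g.range) ?_ hr hs ht hrs hrt hst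
    (dvd_card_range_SL2 h4 f hf hr (hrq.mul_right _)) (dvd_card_range_SL2 h4 f hf hs (hsq.mul_left _))
    (dvd_card_range_SL2 h4 g hg hs (hsq.mul_left _)) (dvd_card_range_SL2 h4 g hg ht (htq.mul_left _))
  rintro _ ⟨a, rfl⟩ _ ⟨b, rfl⟩
  exact hc a b

/-- the same for `X`, `X'` or `X' / Z(X')`, `X/Z` : the target is any image of `commutator X` -/
theorem not_five_quot_commutator [Finite X] (h4 : 4 ≤ Fintype.card K)
    (f g : Matrix.SpecialLinearGroup (Fin 2) K →* X)
    (hf : f ≠ 1) (hg : g ≠ 1) (hc : ∀ a b, f a * g b = g b * f a) :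
    ¬ Five (↥(commutator X) ⧸ Subgroup.center ↥(commutator X)) := by
  have hP := Cfsg.Agent.TwoFusion.SLTwoFacts.commutator_eq_top (F := K) (by omega)
  obtain ⟨f', hf'⟩ := exists_lift hP f
  obtain ⟨g', hg'⟩ := exists_lift hP g
  have hf1 : f' ≠ 1 := by
    rintro rfl
    apply hf
    ext a
    rw [← hf' a]; rfl
  have hg1 : g' ≠ 1 := by
    rintro rfl
    apply hg
    ext a
    rw [← hg' a]; rfl
  refine not_five_of_SL2 h4 _ _ (quot_ne_one hP f' hf1 _ le_rfl) (quot_ne_one hP g' hg1 _ le_rfl) ?_
  intro a b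
  have : f' a * g' b = g' b * f' a := by
    apply Subtype.ext
    rw [Subgroup.coe_mul, Subgroup.coe_mul, hf', hg', hc]
  simp only [MonoidHom.comp_apply]
  rw [← map_mul, ← map_mul, this]

theorem not_five_quot_center [Finite X] (h4 : 4 ≤ Fintype.card K)
    (f g : Matrix.SpecialLinearGroup (Fin 2) K →* X)
    (hf : f ≠ 1) (hg : g ≠ 1) (hc : ∀ a b, f a * g b = g b * f a) :
    ¬ Five (X ⧸ Subgroup.center X) := by
  have hP := Cfsg.Agent.TwoFusion.SLTwoFacts.commutator_eq_top (F := K) (by omega)
  refine not_five_of_SL2 h4 _ _ (quot_ne_one hP f hf _ le_rfl) (quot_ne_one hP g hg _ le_rfl) ?_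
  intro a b
  simp only [MonoidHom.comp_apply]
  rw [← map_mul, ← map_mul, hc]

end SL2

end Cfsg.Agent.H423.PGPerf
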