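import Mathlib
import Cfsg.Agent.H423.PGOrth
import Cfsg.Agent.LieClassical.OmegaCenter
import Cfsg.Agent.ClassicalGeometry.OmegaIndex
import Cfsg.Agent.ClassicalGeometry.OrthDickson
import Cfsg.Agent.OddHalf.NI.OmegaEnd
import Cfsg.Agent.S0300
import Cfsg.Agent.S0301
import Cfsg.Agent.S0245
import Cfsg.Agent.S0246
import Cfsg.Agent.S0243

/-!
`PΩ` over the fields with 2 and 3 elements.
-/

set_option autoImplicit false

namespace Cfsg.Agent.H423.PGOrthS

open Cfsg.Agent.H423.PG Cfsg.Agent.H423.PGPerf Cfsg.Agent.H423.PGBlk Cfsg.Agent.H423.PGOrth Matrix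
open Cfsg.Agent.LieClassical.OmegaCenter Cfsg.Agent.LieClassical.OrthForms
open scoped commutatorElement

universe u

/-- elements of odd order lie in normal subgroups of 2-power index -/
theorem mem_of_odd {G : Type*} [Group G] {N : Subgroup G} [N.Normal] {k m : ℕ} (hN : N.index = 2 ^ k) (hm : Odd m)
    {g : G} (hg : g ^ m = 1) : g ∈ N := by
  rw [← QuotientGroup.eq_one_iff]
  have h1 : (g : G ⧸ N) ^ (2 ^ k) = 1 := by
    rw [← hN, Subgroup.index_eq_card]
    exact pow_card_eq_one'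
  have h2 : (g : G ⧸ N) ^ m = 1 := by rw [← QuotientGroup.mk_pow, hg, QuotientGroup.mk_one]
  have h3 : Nat.gcd (2 ^ k) m = 1 := Nat.Coprime.pow_left k (by
    rcases (Nat.coprime_or_dvd_of_prime Nat.prime_two) m with h | h
    · exact h
    · exact absurd h (by rw [← even_iff_two_dvd, Nat.not_even_iff_odd]; exact hm))
  have h4 : (g : G ⧸ N) ^ Nat.gcd (2 ^ k) m = 1 := pow_gcd_eq_one.2 ⟨h1, h2⟩
  rwa [h3, pow_one] at h4

section
variable {F : Type u} [Field F]

/-- the involution: a commutator -/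
theorem exists_z (h23 : (2 : F) = 0 ∨ (3 : F) = 0) (h22 : (3 : F) = 0 → (2 : F) ≠ 0) :
    ∃ z ∈ commutator ↥(Cfsg.isometryGroup F (Cfsg.quadFormPlus 2 F)), z ^ 2 = 1 ∧ z ≠ 1 := by
  rcases h23 with h2 | h3
  · -- `[swap, lev t]`
    let t : SpecialLinearGroup (Fin 2) F := ⟨!![1, 1; 0, 1], by rw [Matrix.det_fin_two_of]; ring⟩
    have ht : t * t = 1 := by
      apply Subtype.ext
      show !![(1 : F), 1; 0, 1] * !![1, 1; 0, 1] = 1
      rw [Matrix.mul_fin_two, Matrix.one_fin_two]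
      have : (1 : F) + 1 = 0 := by rw [← h2]; norm_num
      simp [this]
    have ht' : t⁻¹ = t := inv_eq_of_mul_eq_one_right ht
    refine ⟨⁅refl, lev 2 t⁆, Subgroup.commutator_mem_commutator (Subgroup.mem_top _) (Subgroup.mem_top _), ?_, ?_⟩
    · have e : ⁅refl (F := F), lev 2 t⁆ = left t * lev 2 t := by
        rw [commutatorElement_def]
        show refl (F := F) * lev 2 t * (refl (F := F))⁻¹ * (lev 2 t)⁻¹ =
          refl (F := F) * lev 2 t * (refl (F := F))⁻¹ * lev 2 t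
        rw [← map_inv, ht']
      rw [e, pow_two]
      have e2 : left t * lev 2 t * (left t * lev 2 t) = (left t * left t) * (lev 2 t * lev 2 t) := by
        rw [mul_assoc, ← mul_assoc (lev 2 t), left_comm, mul_assoc, mul_assoc]
      rw [e2, ← map_mul, ← map_mul, ht, map_one, map_one, mul_one]
    · intro h
      rw [commutatorElement_eq_one_iff_mul_comm] at h
      have h1 := congrArg (fun x : ↥(Cfsg.isometryGroup F (Cfsg.quadFormPlus 2 F)) =>
        ((x : GL (Fin 2 ⊕ Fin 2) F) : Matrix (Fin 2 ⊕ Fin 2) (Fin 2 ⊕ Fin 2) F)) h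
      have h2' : swM * Matrix.fromBlocks t.1 0 0 (t⁻¹).1ᵀ = Matrix.fromBlocks t.1 0 0 (t⁻¹).1ᵀ * swM := h1
      rw [ht'] at h2'
      rw [swM, Matrix.fromBlocks_multiply, Matrix.fromBlocks_multiply, Matrix.fromBlocks_inj] at h2'
      have h3 := congrFun (congrFun h2'.1 0) 1
      simp [t] at h3
  · have h2 := h22 h3
    let i : SpecialLinearGroup (Fin 2) F := ⟨!![0, 1; -1, 0], by rw [Matrix.det_fin_two_of]; ring⟩
    let j : SpecialLinearGroup (Fin 2) F := ⟨!![1, 1; 1, -1], by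
      rw [Matrix.det_fin_two_of]
      have : (1 : F) * -1 - 1 * 1 - 1 = -3 := by ring
      rw [h3] at this
      have h5 : (1 : F) * -1 - 1 * 1 - 1 = 0 := by rw [this]; simp
      exact sub_eq_zero.1 h5⟩
    have hij : i * j = -(j * i) := by
      apply Subtype.ext
      show !![(0 : F), 1; -1, 0] * !![1, 1; 1, -1] = -(!![1, 1; 1, -1] * !![0, 1; -1, 0])
      rw [Matrix.mul_fin_two, Matrix.mul_fin_two]
      ext a b
      fin_cases a <;> fin_cases b <;> simp
    have hc : ⁅lev 2 i, lev 2 j⁆ = lev 2 (-1) := by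
      rw [← map_commutatorElement, commutatorElement_def, hij]
      congr 1
      have : -(j * i) = (-1) * (j * i) := by rw [neg_one_mul]
      rw [this]
      group
    refine ⟨⁅lev 2 i, lev 2 j⁆, Subgroup.commutator_mem_commutator (Subgroup.mem_top _) (Subgroup.mem_top _), ?_, ?_⟩
    · rw [hc, ← map_pow, neg_one_sq, map_one]
    · rw [hc, ← map_one (lev 2)]
      intro h
      have h1 := lev_injective 2 h
      have h4 := congrFun (congrFun (congrArg Subtype.val h1) 0) 0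
      have h5 : (-1 : F) = 1 := h4
      exact h2 (by
        have : (2 : F) = 1 - (-1) := by ring
        rw [this, h5, sub_self])

/-- the element of order three -/
theorem exists_c (h23 : (2 : F) = 0 ∨ (3 : F) = 0) :
    ∃ c : ↥(Cfsg.isometryGroup F (Cfsg.quadFormPlus 2 F)), c ^ 3 = 1 ∧ c ≠ 1 := by
  have key : ∃ t : SpecialLinearGroup (Fin 2) F, t ^ 3 = 1 ∧ t ≠ 1 := by
    rcases h23 with h2 | h3
    · refine ⟨⟨!![0, 1; 1, 1], by
        rw [Matrix.det_fin_two_of]
        have : (0 : F) * 1 - 1 * 1 - 1 = -2 := by ring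
        rw [h2] at this
        have h5 : (0 : F) * 1 - 1 * 1 - 1 = 0 := by rw [this]; simp
        exact sub_eq_zero.1 h5⟩, ?_, ?_⟩
      · apply Subtype.ext
        show !![(0 : F), 1; 1, 1] ^ 3 = 1
        rw [pow_succ, pow_two, Matrix.mul_fin_two, Matrix.mul_fin_two, Matrix.one_fin_two]
        have h1 : (1 : F) + 1 = 0 := by rw [← h2]; norm_num
        simp [h1]
      · intro h
        have h4 : (0 : F) = 1 := congrFun (congrFun (congrArg Subtype.val h) 0) 0
        exact zero_ne_one h4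
    · refine ⟨⟨!![1, 1; 0, 1], by rw [Matrix.det_fin_two_of]; ring⟩, ?_, ?_⟩
      · apply Subtype.ext
        show !![(1 : F), 1; 0, 1] ^ 3 = 1
        rw [pow_succ, pow_two, Matrix.mul_fin_two, Matrix.mul_fin_two, Matrix.one_fin_two]
        have h1 : (1 : F) + (1 + 1) = 0 := by rw [← h3]; norm_num
        simp [h1]
      · intro h
        have h4 : (1 : F) = 0 := congrFun (congrFun (congrArg Subtype.val h) 0) 1
        exact one_ne_zero h4
  obtain ⟨t, h1, h2⟩ := key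
  refine ⟨lev 2 t, by rw [← map_pow, h1, map_one], fun h => h2 ?_⟩
  rw [← map_one (lev 2)] at h
  exact lev_injective 2 h

/-- **the special case** -/
theorem pomega_special {β ι : Type} [Fintype β] [Fintype ι] [DecidableEq β] [DecidableEq ι]
    [Finite F] (Q : QuadraticForm F (ι → F)) (hQ : (QuadraticMap.polarBilin Q).Nondegenerate)
    (hn : 3 ≤ Fintype.card ι) (hs : ∃ u : ι → F, u ≠ 0 ∧ Q u = 0) {k : ℕ} (hidx : (Cfsg.Omega F ⇑Q).index = 2 ^ k)
    (e : (Fin 2 ⊕ Fin 2) ⊕ β ≃ ι) {R : (β → F) → F} (hspl : Spl e (Cfsg.quadFormPlus 2 F) R ⇑Q) (j₀ : β)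
    (h23 : (2 : F) = 0 ∨ (3 : F) = 0) (h22 : (3 : F) = 0 → (2 : F) ≠ 0)
    (h3 : 3 ∣ Nat.card ↥(Cfsg.isometryGroup F R)) (h5 : 5 ∣ Nat.card ↥(Cfsg.isometryGroup F R)) :
    ¬ Five (Cfsg.POmega F ⇑Q) := by
  classical
  set Φ := isoBlk e hspl with hΦ
  have hΦi := isoBlk_injective e hspl
  set π := QuotientGroup.mk' (Subgroup.center (Cfsg.Omega F ⇑Q)) with hπ
  -- central elements
  have hcen : ∀ g : Cfsg.Omega F ⇑Q, g ∈ Subgroup.center (Cfsg.Omega F ⇑Q) →
      omegaMat g = 1 ∨ omegaMat g = -1 := fun g => (mem_center_omega_iff Q hQ hn hs g).1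
  have key1 : ∀ (a : ↥(Cfsg.isometryGroup F (Cfsg.quadFormPlus 2 F))) (ha : Φ (a, 1) ∈ Cfsg.Omega F ⇑Q),
      (⟨Φ (a, 1), ha⟩ : Cfsg.Omega F ⇑Q) ∈ Subgroup.center (Cfsg.Omega F ⇑Q) → a = 1 := by
    intro a ha hc
    have h1 : blkM e (a.1.1, (1 : Matrix β β F)) = 1 ∨ blkM e (a.1.1, (1 : Matrix β β F)) = -1 := hcen _ hc
    have h2 : blkM e (a.1.1, (1 : Matrix β β F)) = 1 := by
      rcases h1 with h | h
      · exact h
      · have h4 := congrFun (congrFun h (e (Sum.inr j₀))) (e (Sum.inr j₀))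
        have h6 : (blkM e (a.1.1, (1 : Matrix β β F))) (e (Sum.inr j₀)) (e (Sum.inr j₀)) = 1 := by
          show (Matrix.fromBlocks a.1.1 0 0 1) (e.symm (e (Sum.inr j₀))) (e.symm (e (Sum.inr j₀))) = 1
          simp
        rw [h6, Matrix.neg_apply, Matrix.one_apply_eq] at h4
        rw [h]
        ext x y
        rw [Matrix.neg_apply, Matrix.one_apply]
        split_ifs
        · exact h4.symm
        · simp
    have h7 : Φ (a, 1) = Φ 1 := by
      apply Subtype.ext
      apply Units.ext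
      show blkM e (a.1.1, (1 : Matrix β β F)) = blkM e 1
      rw [h2, map_one]
    exact (Prod.ext_iff.1 (hΦi h7)).1
  have key2 : ∀ (b : ↥(Cfsg.isometryGroup F R)) (hb : Φ (1, b) ∈ Cfsg.Omega F ⇑Q),
      (⟨Φ (1, b), hb⟩ : Cfsg.Omega F ⇑Q) ∈ Subgroup.center (Cfsg.Omega F ⇑Q) → b = 1 := by
    intro b hb hc
    have h1 : blkM e ((1 : Matrix (Fin 2 ⊕ Fin 2) (Fin 2 ⊕ Fin 2) F), b.1.1) = 1 ∨
      blkM e ((1 : Matrix (Fin 2 ⊕ Fin 2) (Fin 2 ⊕ Fin 2) F), b.1.1) = -1 := hcen _ hc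
    have h2 : blkM e ((1 : Matrix (Fin 2 ⊕ Fin 2) (Fin 2 ⊕ Fin 2) F), b.1.1) = 1 := by
      rcases h1 with h | h
      · exact h
      · have h4 := congrFun (congrFun h (e (Sum.inl (Sum.inl 0)))) (e (Sum.inl (Sum.inl 0)))
        have h6 : (blkM e ((1 : Matrix (Fin 2 ⊕ Fin 2) (Fin 2 ⊕ Fin 2) F), b.1.1)) (e (Sum.inl (Sum.inl 0)))
            (e (Sum.inl (Sum.inl 0))) = 1 := by
          show (Matrix.fromBlocks 1 0 0 b.1.1) (e.symm (e (Sum.inl (Sum.inl 0))))
            (e.symm (e (Sum.inl (Sum.inl 0)))) = 1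
          simp
        rw [h6, Matrix.neg_apply, Matrix.one_apply_eq] at h4
        rw [h]
        ext x y
        rw [Matrix.neg_apply, Matrix.one_apply]
        split_ifs
        · exact h4.symm
        · simp
    have h7 : Φ (1, b) = Φ 1 := by
      apply Subtype.ext
      apply Units.ext
      show blkM e ((1 : Matrix (Fin 2 ⊕ Fin 2) (Fin 2 ⊕ Fin 2) F), b.1.1) = blkM e 1
      rw [h2, map_one]
    exact (Prod.ext_iff.1 (hΦi h7)).2
  -- the elements
  obtain ⟨z, hz, hz2, hz1⟩ := exists_z (F := F) h23 h22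
  obtain ⟨c, hc3, hc1⟩ := exists_c (F := F) h23
  have : Finite ↥(Cfsg.isometryGroup F R) := inferInstance
  have f3 : Fact (Nat.Prime 3) := ⟨Nat.prime_three⟩
  have f5 : Fact (Nat.Prime 5) := ⟨Nat.prime_five⟩
  obtain ⟨y, hy⟩ := exists_prime_orderOf_dvd_card' 3 h3
  obtain ⟨x, hx⟩ := exists_prime_orderOf_dvd_card' 5 h5
  have hzm : Φ (z, 1) ∈ Cfsg.Omega F ⇑Q := by
    have h1 : (commutator ↥(Cfsg.isometryGroup F (Cfsg.quadFormPlus 2 F))).map (Φ.comp (MonoidHom.inl _ _)) ≤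
        commutator _ := by
      rw [commutator_def, commutator_def, Subgroup.map_commutator]
      exact Subgroup.commutator_mono le_top le_top
    exact h1 (Subgroup.mem_map_of_mem _ hz)
  have hcm : Φ (c, 1) ∈ Cfsg.Omega F ⇑Q := by
    refine mem_of_odd (m := 3) hidx (by decide) ?_
    rw [← map_pow]
    have : ((c, 1) : ↥(Cfsg.isometryGroup F (Cfsg.quadFormPlus 2 F)) × ↥(Cfsg.isometryGroup F R)) ^ 3 = 1 := by
      rw [Prod.pow_mk, hc3, one_pow]; rfl
    rw [this, map_one]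
  have hym : Φ (1, y) ∈ Cfsg.Omega F ⇑Q := by
    refine mem_of_odd (m := 3) hidx (by decide) ?_
    rw [← map_pow]
    have : ((1, y) : ↥(Cfsg.isometryGroup F (Cfsg.quadFormPlus 2 F)) × ↥(Cfsg.isometryGroup F R)) ^ 3 = 1 := by
      rw [Prod.pow_mk, one_pow, ← hy, pow_orderOf_eq_one]; rfl
    rw [this, map_one]
  have hxm : Φ (1, x) ∈ Cfsg.Omega F ⇑Q := by
    refine mem_of_odd (m := 5) hidx (by decide) ?_
    rw [← map_pow]
    have : ((1, x) : ↥(Cfsg.isometryGroup F (Cfsg.quadFormPlus 2 F)) × ↥(Cfsg.isometryGroup F R)) ^ 5 = 1 := by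
      rw [Prod.pow_mk, one_pow, ← hx, pow_orderOf_eq_one]; rfl
    rw [this, map_one]
  have hZ : orderOf (π ⟨Φ (z, 1), hzm⟩) = 2 := by
    have f2 : Fact (Nat.Prime 2) := ⟨Nat.prime_two⟩
    apply orderOf_eq_prime
    · rw [← map_pow]
      have : (⟨Φ (z, 1), hzm⟩ : Cfsg.Omega F ⇑Q) ^ 2 = 1 := by
        apply Subtype.ext
        show (Φ (z, 1)) ^ 2 = 1
        rw [← map_pow, Prod.pow_mk, hz2, one_pow]
        exact map_one Φ
      rw [this, map_one]
    · intro h
      exact hz1 (key1 z hzm ((QuotientGroup.eq_one_iff _).1 h))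
  have hC : orderOf (π ⟨Φ (c, 1), hcm⟩) = 3 := by
    apply orderOf_eq_prime
    · rw [← map_pow]
      have : (⟨Φ (c, 1), hcm⟩ : Cfsg.Omega F ⇑Q) ^ 3 = 1 := by
        apply Subtype.ext
        show (Φ (c, 1)) ^ 3 = 1
        rw [← map_pow, Prod.pow_mk, hc3, one_pow]
        exact map_one Φ
      rw [this, map_one]
    · intro h
      exact hc1 (key1 c hcm ((QuotientGroup.eq_one_iff _).1 h))
  have hY : orderOf (π ⟨Φ (1, y), hym⟩) = 3 := by
    apply orderOf_eq_prime
    · rw [← map_pow]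
      have : (⟨Φ (1, y), hym⟩ : Cfsg.Omega F ⇑Q) ^ 3 = 1 := by
        apply Subtype.ext
        show (Φ (1, y)) ^ 3 = 1
        rw [← map_pow, Prod.pow_mk, one_pow, ← hy, pow_orderOf_eq_one]
        exact map_one Φ
      rw [this, map_one]
    · intro h
      have := key2 y hym ((QuotientGroup.eq_one_iff _).1 h)
      rw [this, orderOf_one] at hy
      omega
  have hX : orderOf (π ⟨Φ (1, x), hxm⟩) = 5 := by
    apply orderOf_eq_prime
    · rw [← map_pow]
      have : (⟨Φ (1, x), hxm⟩ : Cfsg.Omega F ⇑Q) ^ 5 = 1 := by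
        apply Subtype.ext
        show (Φ (1, x)) ^ 5 = 1
        rw [← map_pow, Prod.pow_mk, one_pow, ← hx, pow_orderOf_eq_one]
        exact map_one Φ
      rw [this, map_one]
    · intro h
      have := key2 x hxm ((QuotientGroup.eq_one_iff _).1 h)
      rw [this, orderOf_one] at hx
      omega
  have hcomm : ∀ (a : ↥(Cfsg.isometryGroup F (Cfsg.quadFormPlus 2 F))) (ha : Φ (a, 1) ∈ Cfsg.Omega F ⇑Q)
      (b : ↥(Cfsg.isometryGroup F R)) (hb : Φ (1, b) ∈ Cfsg.Omega F ⇑Q),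
      Commute (π ⟨Φ (a, 1), ha⟩) (π ⟨Φ (1, b), hb⟩) := by
    intro a ha b hb
    have : Commute (⟨Φ (a, 1), ha⟩ : Cfsg.Omega F ⇑Q) ⟨Φ (1, b), hb⟩ := by
      apply Subtype.ext
      show Φ (a, 1) * Φ (1, b) = Φ (1, b) * Φ (a, 1)
      rw [← map_mul, ← map_mul]
      congr 1
      simp
    exact this.map π
  exact not_five_of_triangle (G := Cfsg.POmega F ⇑Q) Nat.prime_two Nat.prime_three Nat.prime_five (by norm_num)
    (by norm_num) (by norm_num)
    (adj_of_commute Nat.prime_two Nat.prime_three (by norm_num) hZ hY (hcomm z hzm y hym))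
    (adj_of_commute Nat.prime_two Nat.prime_five (by norm_num) hZ hX (hcomm z hzm x hxm))
    (adj_of_commute Nat.prime_three Nat.prime_five (by norm_num) hC hX (hcomm c hcm x hxm))

end

section
variable {F : Type u} [Field F]

/-- the index equivalence -/
def eM (k l : ℕ) : (Fin k ⊕ Fin k) ⊕ ((Fin l ⊕ Fin l) ⊕ Fin 2) ≃ (Fin (k + l) ⊕ Fin (k + l)) ⊕ Fin 2 :=
  (Equiv.sumAssoc _ _ _).symm.trans (Equiv.sumCongr (spE k l) (Equiv.refl _))

theorem spl_minus' (k l : ℕ) (a b : F) : Spl (eM k l) (Cfsg.quadFormPlus k F) (Cfsg.quadFormMinus l F a b)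
    (Cfsg.quadFormMinus (k + l) F a b) := by
  intro v
  have h := spl_plus (F := F) k l (fun i => v (Sum.inl i))
  simp only [Cfsg.quadFormPlus] at h
  simp only [Cfsg.quadFormPlus, Cfsg.quadFormMinus]
  rw [h, add_assoc]
  rfl

/-- the index equivalence -/
def eO (k l : ℕ) : (Fin k ⊕ Fin k) ⊕ (Unit ⊕ (Fin l ⊕ Fin l)) ≃ Unit ⊕ (Fin (k + l) ⊕ Fin (k + l)) :=
  (Equiv.sumAssoc _ _ _).symm.trans ((Equiv.sumCongr (Equiv.sumComm _ _) (Equiv.refl _)).trans
    ((Equiv.sumAssoc _ _ _).trans (Equiv.sumCongr (Equiv.refl _) (spE k l))))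

theorem spl_odd' (k l : ℕ) : Spl (eO k l) (Cfsg.quadFormPlus k F) (Cfsg.quadFormOdd l F)
    (Cfsg.quadFormOdd (k + l) F) := by
  intro v
  have h := spl_plus (F := F) k l (fun i => v (Sum.inr i))
  simp only [Cfsg.quadFormPlus] at h
  simp only [Cfsg.quadFormPlus, Cfsg.quadFormOdd]
  rw [h, add_left_comm]
  rfl

theorem card_dvd_of_spl {α β ι : Type} [Fintype α] [Fintype β] [Fintype ι] [DecidableEq α] [DecidableEq β]
    [DecidableEq ι] {e : α ⊕ β ≃ ι} {Qα : (α → F) → F} {R : (β → F) → F} {Q : (ι → F) → F}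
    (h : Spl e Qα R Q) : Nat.card ↥(Cfsg.isometryGroup F R) ∣ Nat.card ↥(Cfsg.isometryGroup F Q) := by
  have hi : Function.Injective ((isoBlk e h).comp (MonoidHom.inr _ _)) := by
    intro x y hxy
    exact (Prod.ext_iff.1 (isoBlk_injective e h hxy)).2
  exact Subgroup.card_dvd_of_injective _ hi

theorem card_pomega_dvd {ι : Type} [Fintype ι] [DecidableEq ι] (Q : (ι → F) → F) :
    Nat.card (Cfsg.POmega F Q) ∣ Nat.card ↥(Cfsg.isometryGroup F Q) :=
  (Subgroup.card_quotient_dvd_card _).trans (Subgroup.card_subgroup_dvd_card _)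

theorem card_minus_one [Fintype F] (h23 : Fintype.card F = 2 ∨ Fintype.card F = 3) (a b : F)
    (hab : ∀ z₁ z₂ : F, z₁ ^ 2 + a * z₁ * z₂ + b * z₂ ^ 2 = 0 → z₁ = 0 ∧ z₂ = 0) :
    3 ∣ Nat.card ↥(Cfsg.isometryGroup F (Cfsg.quadFormMinus 1 F a b)) ∧
      5 ∣ Nat.card ↥(Cfsg.isometryGroup F (Cfsg.quadFormMinus 1 F a b)) := by
  have key : ∃ (K : Type) (_ : Field K) (_ : Fintype K), Fintype.card K = Fintype.card F ^ 2 := by
    rcases h23 with h | h
    · have : Fact (Nat.Prime 2) := ⟨Nat.prime_two⟩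
      have hf : Fintype (GaloisField 2 2) := Fintype.ofFinite _
      refine ⟨GaloisField 2 2, inferInstance, hf, ?_⟩
      rw [h, ← Nat.card_eq_fintype_card, GaloisField.card 2 2 (by norm_num)]
    · have : Fact (Nat.Prime 3) := ⟨Nat.prime_three⟩
      have hf : Fintype (GaloisField 3 2) := Fintype.ofFinite _
      refine ⟨GaloisField 3 2, inferInstance, hf, ?_⟩
      rw [h, ← Nat.card_eq_fintype_card, GaloisField.card 3 2 (by norm_num)]
  obtain ⟨K, _, _, hK⟩ := key
  obtain ⟨e⟩ := Cfsg.Agent.S0300.result (F := F) (K := K) rfl hK a b hab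
  have h4 : 4 ≤ Fintype.card K := by
    rw [hK]
    rcases h23 with h | h <;> rw [h] <;> norm_num
  have h1 : ∀ r, r.Prime → r ∣ Fintype.card K * (Fintype.card K ^ 2 - 1) →
      r ∣ Nat.card ↥(Cfsg.isometryGroup F (Cfsg.quadFormMinus 1 F a b)) := by
    intro r hr h
    refine (dvd_card_psl2 h4 hr h).trans ?_
    rw [← Nat.card_congr e.toEquiv]
    exact card_pomega_dvd _
  constructor
  · refine h1 3 Nat.prime_three ?_
    rw [hK]
    rcases h23 with h | h <;> rw [h] <;> norm_num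
  · refine h1 5 Nat.prime_five ?_
    rw [hK]
    rcases h23 with h | h <;> rw [h] <;> norm_num

theorem card_odd_two [Fintype F] (h3 : Fintype.card F = 3) :
    3 ∣ Nat.card ↥(Cfsg.isometryGroup F (Cfsg.quadFormOdd 2 F)) ∧
      5 ∣ Nat.card ↥(Cfsg.isometryGroup F (Cfsg.quadFormOdd 2 F)) := by
  obtain ⟨e⟩ := Cfsg.Agent.S0301.result (F := F) (by rw [h3]; decide)
  have h1 := Subgroup.card_eq_card_quotient_mul_card_subgroup
    (Subgroup.center (Matrix.symplecticGroup (Fin 2) F))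
  rw [Cfsg.Agent.S0245.result h3 2, Cfsg.Agent.S0246.result h3 2 (by norm_num)] at h1
  norm_num [Finset.prod_range_succ] at h1
  have h2 : Nat.card (Cfsg.PSp 2 F) = 25920 := by
    show Nat.card (Matrix.symplecticGroup (Fin 2) F ⧸ Subgroup.center (Matrix.symplecticGroup (Fin 2) F)) = 25920
    omega
  have h5 : 25920 ∣ Nat.card ↥(Cfsg.isometryGroup F (Cfsg.quadFormOdd 2 F)) := by
    rw [← h2, ← Nat.card_congr e.toEquiv]
    exact card_pomega_dvd _
  exact ⟨dvd_trans (by norm_num) h5, dvd_trans (by norm_num) h5⟩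

theorem two_or_three [Fintype F] (h23 : Fintype.card F = 2 ∨ Fintype.card F = 3) :
    ((2 : F) = 0 ∨ (3 : F) = 0) ∧ ((3 : F) = 0 → (2 : F) ≠ 0) := by
  constructor
  · rcases h23 with h | h
    · left
      have := FiniteField.cast_card_eq_zero F
      rw [h] at this
      exact_mod_cast this
    · right
      have := FiniteField.cast_card_eq_zero F
      rw [h] at this
      exact_mod_cast this
  · intro h3 h2
    have : (1 : F) = 3 - 2 := by norm_num
    rw [h3, h2, sub_self] at this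
    exact one_ne_zero this

/-- **`PΩ⁻`, `q = 2, 3`** -/
theorem pomega_minus [Fintype F] (h23 : Fintype.card F = 2 ∨ Fintype.card F = 3) {m : ℕ} (hm : 3 ≤ m) (a b : F)
    (hab : ∀ z₁ z₂ : F, z₁ ^ 2 + a * z₁ * z₂ + b * z₂ ^ 2 = 0 → z₁ = 0 ∧ z₂ = 0) :
    ¬ Five (Cfsg.POmega F (Cfsg.quadFormMinus m F a b)) := by
  obtain ⟨j, rfl⟩ : ∃ j, m = 2 + (j + 1) := ⟨m - 3, by omega⟩
  obtain ⟨h1, h2⟩ := card_minus_one h23 a b hab
  have h3 := card_dvd_of_spl (spl_minus' (F := F) j 1 a b)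
  obtain ⟨c1, c2⟩ := two_or_three (F := F) h23
  rw [← coe_minusForm]
  have hspl := spl_minus' (F := F) 2 (j + 1) a b
  rw [← coe_minusForm (m := 2 + (j + 1))] at hspl
  have hidx : ∃ k, (Cfsg.Omega F ⇑(minusForm (2 + (j + 1)) F a b)).index = 2 ^ k := by
    by_cases h0 : (2 : F) = 0
    · refine ⟨1, ?_⟩
      exact Cfsg.Agent.ClassicalGeometry.OrthDickson.index_commutator_two
        (Q := minusForm (2 + (j + 1)) F a b) h0 (Cfsg.Agent.OddHalf.NI.OmegaEnd.nondeg_minus _ a b hab)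
        (Or.inr (by simp only [Fintype.card_sum, Fintype.card_fin]; omega))
    · refine ⟨2, ?_⟩
      exact Cfsg.Agent.ClassicalGeometry.OmegaIndex.index_Omega h0
        (by simp only [Fintype.card_sum, Fintype.card_fin]; omega) (minusForm (2 + (j + 1)) F a b)
        (Cfsg.Agent.OddHalf.NI.OmegaEnd.nondeg_minus _ a b hab)
  obtain ⟨k, hk⟩ := hidx
  refine pomega_special (minusForm (2 + (j + 1)) F a b) (Cfsg.Agent.OddHalf.NI.OmegaEnd.nondeg_minus _ a b hab)
    (by simp only [Fintype.card_sum, Fintype.card_fin]; omega) ?_ hk (eM 2 (j + 1)) hspl (Sum.inr 0) c1 c2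
    (h1.trans h3) (h2.trans h3)
  refine ⟨Pi.single (Sum.inl (Sum.inl ⟨0, by omega⟩)) 1, ?_, ?_⟩
  · intro h
    have := congrFun h (Sum.inl (Sum.inl ⟨0, by omega⟩))
    simp at this
  · rw [coe_minusForm]
    simp [Cfsg.quadFormMinus, Pi.single_apply]

/-- **`PΩ` in odd dimension, `q = 3`** -/
theorem pomega_odd [Fintype F] (h3 : Fintype.card F = 3) {m : ℕ} (hm : 4 ≤ m) :
    ¬ Five (Cfsg.POmega F (Cfsg.quadFormOdd m F)) := by
  obtain ⟨j, rfl⟩ : ∃ j, m = 2 + (j + 2) := ⟨m - 4, by omega⟩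
  obtain ⟨h1, h2⟩ := card_odd_two h3
  have h4 := card_dvd_of_spl (spl_odd' (F := F) j 2)
  obtain ⟨c1, c2⟩ := two_or_three (F := F) (Or.inr h3)
  have h20 : (2 : F) ≠ 0 := by
    rcases c1 with h | h
    · intro _
      have := FiniteField.cast_card_eq_zero F
      rw [h3] at this
      exact c2 (by exact_mod_cast this) h
    · exact c2 h
  rw [← coe_oddForm]
  have hspl := spl_odd' (F := F) 2 (j + 2)
  rw [← coe_oddForm (m := 2 + (j + 2))] at hspl
  have hnd : (QuadraticMap.polarBilin (oddForm (2 + (j + 2)) F)).Nondegenerate :=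
    Cfsg.Agent.LieClassical.OmegaReindex.nondegenerate_of_left _ (fun x hx => nondeg_oddForm _ F h20 x hx)
  refine pomega_special (oddForm (2 + (j + 2)) F) hnd
    (by simp only [Fintype.card_sum, Fintype.card_fin, Fintype.card_unit]; omega) ?_
    (k := 2) (Cfsg.Agent.ClassicalGeometry.OmegaIndex.index_Omega h20
        (by simp only [Fintype.card_sum, Fintype.card_fin, Fintype.card_unit]; omega) _ hnd)
    (eO 2 (j + 2)) hspl (Sum.inl ()) c1 c2
    (h1.trans h4) (h2.trans h4)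
  refine ⟨Pi.single (Sum.inr (Sum.inl ⟨0, by omega⟩)) 1, ?_, ?_⟩
  · intro h
    have := congrFun h (Sum.inr (Sum.inl ⟨0, by omega⟩))
    simp at this
  · rw [coe_oddForm]
    simp [Cfsg.quadFormOdd, Pi.single_apply]

end

end Cfsg.Agent.H423.PGOrthS
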