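import Mathlib
import Cfsg.Agent.LieRecognition.SzMatrix

set_option autoImplicit false

namespace Cfsg.Agent.H423.SzEight

open Cfsg.Agent.LieRecognition.SzMatrix
open scoped Matrix

variable {K : Type*} [Field K]

theorem JgJ (g : Matrix (Fin 4) (Fin 4) K) : J K * gᵀ * J K =
    !![g 3 3, g 2 3, g 1 3, g 0 3; g 3 2, g 2 2, g 1 2, g 0 2; g 3 1, g 2 1, g 1 1, g 0 1;
      g 3 0, g 2 0, g 1 0, g 0 0] := by
  ext i j
  fin_cases i <;> fin_cases j <;> simp [J, Matrix.mul_apply, Matrix.vecMul, dotProduct, Fin.sum_univ_four]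

/-- the quadratic relation satisfied by `m = g + g⁻¹`, as an identity valid for every matrix -/
theorem quad (h0 : (2 : K) = 0) (g : Matrix (Fin 4) (Fin 4) K) :
    (g + J K * gᵀ * J K) * (g + J K * gᵀ * J K) + g.trace • (g + J K * gᵀ * J K) +
      ((g 0 0 + g 3 3) * (g 1 1 + g 2 2) + (g 0 1 + g 2 3) * (g 1 0 + g 3 2) +
        (g 0 2 + g 1 3) * (g 2 0 + g 3 1)) • (1 : Matrix (Fin 4) (Fin 4) K) = 0 := by
  rw [JgJ]
  ext i j
  fin_cases i <;> fin_cases j <;>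
    simp [Matrix.mul_apply, Fin.sum_univ_four, Matrix.trace] <;> grind

theorem pf_eq {θ : K →+* K} {e : ℕ} (H : Good K θ e) {g : GL (Fin 4) K} (hg : g ∈ Cfsg.Lie.Sz K e) :
    (g.1 0 0 + g.1 3 3) * (g.1 1 1 + g.1 2 2) + (g.1 0 1 + g.1 2 3) * (g.1 1 0 + g.1 3 2) +
        (g.1 0 2 + g.1 1 3) * (g.1 2 0 + g.1 3 1) = θ g.1.trace := by
  obtain ⟨h1, h2⟩ := H.mem_Sz.1 hg
  have h0 := H.two
  have r03 := row_rel h1 0 3
  have r12 := row_rel h1 1 2
  have c03 := col_rel h1 0 3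
  rw [star4_explicit] at h2
  have e0 := congrFun (congrFun h2 0) 0
  have e1 := congrFun (congrFun h2 1) 1
  have e2 := congrFun (congrFun h2 2) 2
  have e3 := congrFun (congrFun h2 3) 3
  simp [Matrix.map_apply] at e0 e1 e2 e3
  simp [J] at r03 r12 c03
  rw [Matrix.trace, Fin.sum_univ_four]
  simp only [Matrix.diag_apply, map_add, ← e0, ← e1, ← e2, ← e3]
  grind

theorem cayley {θ : K →+* K} {e : ℕ} (H : Good K θ e) {g : GL (Fin 4) K} (hg : g ∈ Cfsg.Lie.Sz K e) :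
    g.1 ^ 4 + g.1.trace • g.1 ^ 3 + θ g.1.trace • g.1 ^ 2 + g.1.trace • g.1 + 1 = 0 := by
  obtain ⟨h1, h2⟩ := H.mem_Sz.1 hg
  have h0 := H.two
  rw [mem_Sp4_iff] at h1
  have h3 : (J K * g.1ᵀ * J K) * g.1 = 1 := by
    rw [Matrix.mul_assoc (J K * g.1ᵀ), Matrix.mul_assoc (J K), ← Matrix.mul_assoc (g.1ᵀ), h1, J_mul_J]
  have h4 := mul_eq_one_comm.mp h3
  have hq := quad h0 g.1
  rw [pf_eq H hg] at hq
  set N := J K * g.1ᵀ * J K with hN
  set M := g.1 with hM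
  have h2M : M ^ 2 + M ^ 2 = 0 := by
    rw [← two_smul K, h0, zero_smul]
  have e1 : M ^ 2 * ((M + N) * (M + N)) = M ^ 4 + (M ^ 2 + M ^ 2) + 1 := by
    have : M ^ 2 * ((M + N) * (M + N)) = M ^ 4 + M ^ 2 * (M * N) + M ^ 2 * (N * M) + M * (M * N) * N := by
      noncomm_ring
    rw [this, h3, h4]
    rw [mul_one, mul_one, h4]
    abel
  have e2 : M ^ 2 * (M.trace • (M + N)) = M.trace • M ^ 3 + M.trace • M := by
    rw [mul_smul_comm, mul_add, smul_add]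
    congr 2
    · rw [sq, mul_assoc, h4, mul_one]
  have h5 : M ^ 2 * ((M + N) * (M + N) + M.trace • (M + N) + θ M.trace • 1) = 0 := by rw [hq, mul_zero]
  rw [mul_add, mul_add, e1, e2, mul_smul_comm, mul_one, h2M, add_zero] at h5
  rw [← h5]
  abel

theorem id5 {R : Type*} [CommRing R] (h0 : (2 : R) = 0) (x : R) :
    (x ^ 4 + x ^ 3 + x ^ 2 + x + 1) * (x + 1) = x ^ 5 + 1 := by
  linear_combination (x ^ 4 + x ^ 3 + x ^ 2 + x) * h0

theorem id7 {R : Type*} [CommRing R] (h0 : (2 : R) = 0) (x a : R) (ha : a ^ 3 = a + 1) :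
    (x ^ 4 + a * x ^ 3 + a ^ 4 * x ^ 2 + a * x + 1) * (1 + a * x + a * x ^ 2 + x ^ 3) = x ^ 7 + 1 := by
  grind

theorem id13 {R : Type*} [CommRing R] (h0 : (2 : R) = 0) (x a : R) (ha : a ^ 3 = a ^ 2 + 1) :
    (x ^ 4 + a * x ^ 3 + a ^ 4 * x ^ 2 + a * x + 1) *
      (1 + a * x + (a + 1) * x ^ 2 + (a ^ 2 + a + 1) * x ^ 3 + a * x ^ 4 + a * x ^ 5 + (a ^ 2 + a + 1) * x ^ 6
        + (a + 1) * x ^ 7 + a * x ^ 8 + x ^ 9) = x ^ 13 + 1 := by
  grind

/-- `x ↦ x⁴` -/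
def th (K : Type*) [Field K] [CharP K 2] : K →+* K := iterateFrobenius K 2 2

theorem th_apply [CharP K 2] (x : K) : th K x = x ^ 4 := by
  rw [th, iterateFrobenius_def]
  norm_num

theorem two_eq_zero [CharP K 2] : (2 : K) = 0 := by
  have := CharP.cast_eq_zero K 2
  exact_mod_cast this

theorem good [CharP K 2] (h8 : ∀ x : K, x ^ 8 = x) : Good K (th K) 4 where
  two := two_eq_zero
  sq x := by
    rw [th_apply, th_apply]
    calc (x ^ 4) ^ 4 = x ^ 8 * x ^ 8 := by ring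
      _ = x ^ 2 := by rw [h8]; ring
  pow x := by rw [th_apply]

theorem aeval_of {R : Type*} [Ring R] [Algebra K R] (M : R) (P Q : Polynomial K) (n : ℕ)
    (h : Polynomial.aeval M P = 0) (hPQ : P * Q = Polynomial.X ^ n + 1) : M ^ n + 1 = 0 := by
  have := congrArg (Polynomial.aeval M) hPQ
  rw [map_mul, h, zero_mul] at this
  simpa using this.symm

theorem pow_of (h0 : (2 : K) = 0) (M : Matrix (Fin 4) (Fin 4) K) (n : ℕ) (h : M ^ n + 1 = 0) : M ^ n = 1 := by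
  have h2 : (1 : Matrix (Fin 4) (Fin 4) K) + 1 = 0 := by
    have := two_smul K (1 : Matrix (Fin 4) (Fin 4) K)
    rw [h0, zero_smul] at this
    exact this.symm
  calc M ^ n = (M ^ n + 1) + (1 + 1) - 1 - 1 - 1 := by abel
    _ = 1 := by rw [h, h2]; rw [← h2]; abel

open Polynomial in
/-- the polynomial -/
noncomputable def poly (a : K) : Polynomial K := X ^ 4 + C a * X ^ 3 + C a ^ 4 * X ^ 2 + C a * X + 1

theorem aeval_poly [CharP K 2] (h8 : ∀ x : K, x ^ 8 = x) {g : GL (Fin 4) K} (hg : g ∈ Cfsg.Lie.Sz K 4) :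
    Polynomial.aeval g.1 (poly g.1.trace) = 0 := by
  have h := cayley (good h8) hg
  rw [th_apply] at h
  rw [← h, poly]
  simp [Algebra.smul_def]

theorem pow_zero_case [CharP K 2] (h8 : ∀ x : K, x ^ 8 = x) {g : GL (Fin 4) K} (hg : g ∈ Cfsg.Lie.Sz K 4)
    (ha : g.1.trace = 0) : g ^ 4 = 1 := by
  have h := aeval_poly h8 hg
  rw [ha] at h
  have h1 : g.1 ^ 4 + 1 = 0 := by
    rw [← h, poly]
    simp
  apply Units.ext
  rw [Units.val_pow_eq_pow_val]
  exact pow_of two_eq_zero _ _ h1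

theorem poly_two [CharP K 2] : (2 : Polynomial K) = 0 := by
  rw [← map_ofNat (Polynomial.C : K →+* Polynomial K) 2, two_eq_zero, map_zero]

theorem pow_one_case [CharP K 2] (h8 : ∀ x : K, x ^ 8 = x) {g : GL (Fin 4) K} (hg : g ∈ Cfsg.Lie.Sz K 4)
    (ha : g.1.trace = 1) : g ^ 5 = 1 := by
  have h := aeval_poly h8 hg
  rw [ha] at h
  apply Units.ext
  rw [Units.val_pow_eq_pow_val]
  refine pow_of two_eq_zero _ _ (aeval_of _ _ (Polynomial.X + 1) 5 h ?_)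
  rw [poly, Polynomial.C_1, one_pow, one_mul, one_mul, one_mul]
  exact id5 poly_two _

open Polynomial in
theorem pow_seven_case [CharP K 2] (h8 : ∀ x : K, x ^ 8 = x) {g : GL (Fin 4) K} (hg : g ∈ Cfsg.Lie.Sz K 4)
    (ha : g.1.trace ^ 3 = g.1.trace + 1) : g ^ 7 = 1 := by
  have h := aeval_poly h8 hg
  apply Units.ext
  rw [Units.val_pow_eq_pow_val]
  refine pow_of two_eq_zero _ _ (aeval_of _ _ _ 7 h (id7 poly_two X (C g.1.trace) ?_))
  rw [← C_pow, ha, C_add, C_1]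

open Polynomial in
theorem pow_thirteen_case [CharP K 2] (h8 : ∀ x : K, x ^ 8 = x) {g : GL (Fin 4) K} (hg : g ∈ Cfsg.Lie.Sz K 4)
    (ha : g.1.trace ^ 3 = g.1.trace ^ 2 + 1) : g ^ 13 = 1 := by
  have h := aeval_poly h8 hg
  apply Units.ext
  rw [Units.val_pow_eq_pow_val]
  refine pow_of two_eq_zero _ _ (aeval_of _ _ _ 13 h (id13 poly_two X (C g.1.trace) ?_))
  rw [← C_pow, ha, C_add, C_1, C_pow]

theorem cases8 [CharP K 2] (h8 : ∀ x : K, x ^ 8 = x) (a : K) :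
    a = 0 ∨ a = 1 ∨ a ^ 3 = a + 1 ∨ a ^ 3 = a ^ 2 + 1 := by
  have h0 : (2 : K) = 0 := two_eq_zero
  have h : a * (a - 1) * (a ^ 3 - (a + 1)) * (a ^ 3 - (a ^ 2 + 1)) = 0 := by
    have := h8 a
    grind
  rcases mul_eq_zero.1 h with h | h
  · rcases mul_eq_zero.1 h with h | h
    · rcases mul_eq_zero.1 h with h | h
      · exact Or.inl h
      · exact Or.inr (Or.inl (sub_eq_zero.1 h))
    · exact Or.inr (Or.inr (Or.inl (sub_eq_zero.1 h)))
  · exact Or.inr (Or.inr (Or.inr (sub_eq_zero.1 h)))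

/-- the element orders of `Sz(8)` -/
theorem pow_cases [CharP K 2] (h8 : ∀ x : K, x ^ 8 = x) {g : GL (Fin 4) K} (hg : g ∈ Cfsg.Lie.Sz K 4) :
    g ^ 4 = 1 ∨ g ^ 5 = 1 ∨ g ^ 7 = 1 ∨ g ^ 13 = 1 := by
  rcases cases8 h8 g.1.trace with h | h | h | h
  · exact Or.inl (pow_zero_case h8 hg h)
  · exact Or.inr (Or.inl (pow_one_case h8 hg h))
  · exact Or.inr (Or.inr (Or.inl (pow_seven_case h8 hg h)))
  · exact Or.inr (Or.inr (Or.inr (pow_thirteen_case h8 hg h)))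

theorem bezout {R : Type*} [CommRing R] (h0 : (2 : R) = 0) (x a : R) (ha : a ^ 3 = a ^ 2 + 1) :
    ((a ^ 2 + a + 1) + (a ^ 2 + a + 1) * x ^ 2 + (a + 1) * x ^ 3) *
      (x ^ 4 + a * x ^ 3 + a ^ 4 * x ^ 2 + a * x + 1) +
    ((a ^ 2 + a) + x + (a + 1) * x ^ 3) *
      (x ^ 4 + (a ^ 2) * x ^ 3 + (a ^ 2) ^ 4 * x ^ 2 + a ^ 2 * x + 1) = 1 := by
  grind

theorem aeval_poly_eq {R : Type*} [Ring R] [Algebra K R] (S : R) (a : K) :
    Polynomial.aeval S (poly a) = S ^ 4 + a • S ^ 3 + a ^ 4 • S ^ 2 + a • S + 1 := by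
  rw [poly]
  simp [Algebra.smul_def]

theorem transfer {R : Type*} [Ring R] [Algebra K R] (M Y S : R) (hY : M * Y * S = Y) (a : K)
    (h : M ^ 4 + a • M ^ 3 + a ^ 4 • M ^ 2 + a • M + 1 = 0) : Y * Polynomial.aeval S (poly a) = 0 := by
  have hk : ∀ k : ℕ, M ^ k * Y * S ^ k = Y := by
    intro k
    induction k with
    | zero => simp
    | succ k ih =>
      calc M ^ (k + 1) * Y * S ^ (k + 1) = M ^ k * (M * Y * S) * S ^ k := by
            rw [pow_succ, pow_succ']; simp only [mul_assoc]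
        _ = Y := by rw [hY, ih]
  have e : ∀ i j : ℕ, M ^ i * Y * S ^ (i + j) = Y * S ^ j := by
    intro i j
    rw [pow_add, ← mul_assoc, hk]
  have e4 : M ^ 4 * Y * S ^ 4 = Y := hk 4
  have e3 : M ^ 3 * Y * S ^ 4 = Y * S := by simpa using e 3 1
  have e2 : M ^ 2 * Y * S ^ 4 = Y * S ^ 2 := e 2 2
  have e1 : M * Y * S ^ 4 = Y * S ^ 3 := by simpa using e 1 3
  have h2 : (M ^ 4 + a • M ^ 3 + a ^ 4 • M ^ 2 + a • M + 1) * Y * S ^ 4 = 0 := by rw [h, zero_mul, zero_mul]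
  simp only [add_mul, smul_mul_assoc, one_mul] at h2
  rw [e4, e3, e2, e1] at h2
  rw [aeval_poly_eq, ← h2]
  simp only [mul_add, mul_smul_comm, mul_one]
  abel

open Polynomial in
theorem eq_zero_of {R : Type*} [Ring R] [Algebra K R] (Y S : R) [CharP K 2] (a : K) (ha : a ^ 3 = a ^ 2 + 1)
    (h1 : Y * aeval S (poly a) = 0) (h2 : Y * aeval S (poly (a ^ 2)) = 0) : Y = 0 := by
  have hb := bezout (R := K[X]) poly_two X (C a) (by rw [← C_pow, ha, C_add, C_1, C_pow])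
  have h5 := congrArg (fun p : K[X] => Y * aeval S p) hb
  have e1 : (X ^ 4 + C a * X ^ 3 + C a ^ 4 * X ^ 2 + C a * X + 1 : K[X]) = poly a := rfl
  have e2 : (X ^ 4 + C a ^ 2 * X ^ 3 + (C a ^ 2) ^ 4 * X ^ 2 + C a ^ 2 * X + 1 : K[X]) = poly (a ^ 2) := by
    rw [poly, C_pow]
  rw [e1, e2] at h5
  rw [mul_comm _ (poly a), mul_comm _ (poly (a ^ 2)), map_add, map_mul, map_mul, mul_add, ← mul_assoc,
    ← mul_assoc, h1, h2, zero_mul, zero_mul, add_zero, map_one, mul_one] at h5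
  exact h5.symm

/-- an element of order 13 has no fixed point on `V ⊗ V^(2)` -/
theorem no_fixed [CharP K 2] (h8 : ∀ x : K, x ^ 8 = x) {g : GL (Fin 4) K} (hg : g ∈ Cfsg.Lie.Sz K 4)
    (ha : g.1.trace ^ 3 = g.1.trace ^ 2 + 1) (Y : Matrix (Fin 4) (Fin 4) K)
    (hY : g.1 * Y * (g.1.map (frobenius K 2))ᵀ = Y) : Y = 0 := by
  have h := cayley (good h8) hg
  rw [th_apply] at h
  refine eq_zero_of Y _ _ ha (transfer _ _ _ hY _ h) ?_
  have h3 := congrArg (frobenius K 2).mapMatrix h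
  have hs : ∀ (c : K) (A : Matrix (Fin 4) (Fin 4) K),
      (frobenius K 2).mapMatrix (c • A) = (c ^ 2) • (frobenius K 2).mapMatrix A := by
    intro c A
    ext i j
    simp [frobenius_def]
    ring
  rw [map_add, map_add, map_add, map_add, hs, hs, hs, map_pow, map_pow, map_pow, map_one, map_zero] at h3
  have h4 := congrArg Matrix.transpose h3
  rw [Matrix.transpose_add, Matrix.transpose_add, Matrix.transpose_add, Matrix.transpose_add,
    Matrix.transpose_smul, Matrix.transpose_smul, Matrix.transpose_smul, Matrix.transpose_pow,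
    Matrix.transpose_pow, Matrix.transpose_pow, Matrix.transpose_one, Matrix.transpose_zero] at h4
  have e1 : (frobenius K 2).mapMatrix g.1 = g.1.map (frobenius K 2) := rfl
  rw [e1] at h4
  rw [aeval_poly_eq]
  have e2 : (g.1.trace ^ 4) ^ 2 = (g.1.trace ^ 2) ^ 4 := by ring
  rw [e2] at h4
  rw [h4, mul_zero]

end Cfsg.Agent.H423.SzEight
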