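import Mathlib
import Cfsg.Agent.H423.PG
import Cfsg.Agent.S2475
import Cfsg.Agent.S2476
import Cfsg.Agent.S0243
import Cfsg.Agent.S0280
import Cfsg.Agent.H127.PSUThreeEx
import Cfsg.Agent.S0324
import Cfsg.Agent.S0328
import Cfsg.Agent.S0333
import Cfsg.Agent.OddCyclic.ClaimC.SzIso

/-!
`PSL(2,q)`, `PSL(3,q)`, `PSU(3,q)`, `Sz(q)`: the prime graph is covered by four cliques.
-/

set_option autoImplicit false

namespace Cfsg.Agent.H423.PGRankOne

open Cfsg.Agent.H423.PG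

universe u

theorem not_five_of_three {G : Type*} [Group G] (p n₁ n₂ n₃ : ℕ)
    (h : ∀ r, r.Prime → r ∣ Nat.card G → r = p ∨ r ∣ n₁ ∨ r ∣ n₂ ∨ r ∣ n₃)
    (h1 : ∀ s, s ∣ n₁ → ∃ g : G, orderOf g = s) (h2 : ∀ s, s ∣ n₂ → ∃ g : G, orderOf g = s)
    (h3 : ∀ s, s ∣ n₃ → ∃ g : G, orderOf g = s) : ¬ Five G := by
  classical
  refine not_five_of_cover (fun r => if r = p then 0 else if r ∣ n₁ then 1 else if r ∣ n₂ then 2 else 3) ?_
  intro r hr s hs hrs hf
  have hr1 := Nat.prime_of_mem_primeFactors hr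
  have hs1 := Nat.prime_of_mem_primeFactors hs
  have hcop : Nat.Coprime r s := (Nat.coprime_primes hr1 hs1).2 hrs
  have h4 := h r hr1 (Nat.dvd_of_mem_primeFactors hr)
  have h5 := h s hs1 (Nat.dvd_of_mem_primeFactors hs)
  by_cases hrp : r = p
  · by_cases hsp : s = p
    · exact absurd (hrp.trans hsp.symm) hrs
    · simp only [if_pos hrp, if_neg hsp] at hf
      split_ifs at hf <;> exact absurd hf (by decide)
  · by_cases hsp : s = p
    · simp only [if_neg hrp, if_pos hsp] at hf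
      split_ifs at hf <;> exact absurd hf (by decide)
    · simp only [if_neg hrp, if_neg hsp] at hf
      by_cases hr2 : r ∣ n₁
      · by_cases hs2 : s ∣ n₁
        · exact h1 _ (hcop.mul_dvd_of_dvd_of_dvd hr2 hs2)
        · rw [if_pos hr2, if_neg hs2] at hf
          split_ifs at hf <;> exact absurd hf (by decide)
      · by_cases hs2 : s ∣ n₁
        · rw [if_neg hr2, if_pos hs2] at hf
          split_ifs at hf <;> exact absurd hf (by decide)
        · rw [if_neg hr2, if_neg hs2] at hf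
          by_cases hr3 : r ∣ n₂
          · by_cases hs3 : s ∣ n₂
            · exact h2 _ (hcop.mul_dvd_of_dvd_of_dvd hr3 hs3)
            · rw [if_pos hr3, if_neg hs3] at hf
              exact absurd hf (by decide)
          · by_cases hs3 : s ∣ n₂
            · rw [if_neg hr3, if_pos hs3] at hf
              exact absurd hf (by decide)
            · refine h3 _ (hcop.mul_dvd_of_dvd_of_dvd ?_ ?_)
              · tauto
              · tauto

/-- a prime dividing `m * (m' / d)`-like quotients -/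
theorem dvd_div_of {r a b d : ℕ} (hda : d ∣ a) (hr : r ∣ b) : r ∣ a * b / d := by
  obtain ⟨k, rfl⟩ := hda
  rcases Nat.eq_zero_or_pos d with h | h
  · subst h; simp
  · rw [mul_assoc, Nat.mul_div_cancel_left _ h]
    exact hr.mul_left _

theorem psl_two {K : Type u} [Field K] [Fintype K] (h4 : 4 ≤ Fintype.card K) :
    ¬ Five (Matrix.ProjectiveSpecialLinearGroup (Fin 2) K) := by
  obtain ⟨p, hp⟩ := CharP.exists K
  obtain ⟨n, hpp, hn⟩ := FiniteField.card K p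
  have : Fact p.Prime := ⟨hpp⟩
  set q := Fintype.card K with hq
  have hs := Cfsg.Agent.S2475.result (F := K) p h4
  have hc := Cfsg.Agent.S0243.result (F := K) hq.symm 2 le_rfl
  simp only [Fin.prod_univ_two, Fin.val_zero, Fin.val_one, pow_zero, pow_one] at hc
  have hmem : ∀ s : ℕ, (s ∣ p ∨ s ∣ (q - 1) / Nat.gcd 2 (q - 1) ∨ s ∣ (q + 1) / Nat.gcd 2 (q - 1)) →
      ∃ g : Matrix.ProjectiveSpecialLinearGroup (Fin 2) K, orderOf g = s := by
    intro s h
    have : s ∈ Set.range (orderOf : Matrix.ProjectiveSpecialLinearGroup (Fin 2) K → ℕ) := by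
      rw [hs]; exact h
    exact this
  refine not_five_of_three p ((q - 1) / Nat.gcd 2 (q - 1)) ((q + 1) / Nat.gcd 2 (q - 1)) 1 ?_
    (fun s h => hmem s (Or.inr (Or.inl h))) (fun s h => hmem s (Or.inr (Or.inr h)))
    (fun s h => ⟨1, by rw [orderOf_one, Nat.dvd_one.1 h]⟩)
  intro r hr hrc
  -- |PSL| = q * (q-1)/d * (q+1)
  have hd1 : Nat.gcd 2 (q - 1) ∣ q - 1 := Nat.gcd_dvd_right _ _
  have hd0 : 0 < Nat.gcd 2 (q - 1) := Nat.gcd_pos_of_pos_left _ (by norm_num)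
  have hd2 : Nat.gcd 2 (q - 1) ∣ q + 1 := by
    have h1 : Nat.gcd 2 (q - 1) ∣ 2 := Nat.gcd_dvd_left _ _
    have h2 : q + 1 = (q - 1) + 2 := by omega
    rw [h2]
    exact (Nat.dvd_add_right hd1).2 h1
  obtain ⟨a, ha⟩ := hd1
  obtain ⟨b, hb⟩ := hd2
  have ha' : (q - 1) / Nat.gcd 2 (q - 1) = a := Nat.div_eq_of_eq_mul_right hd0 ha
  have hb' : (q + 1) / Nat.gcd 2 (q - 1) = b := Nat.div_eq_of_eq_mul_right hd0 hb
  have hcard : Nat.card (Matrix.ProjectiveSpecialLinearGroup (Fin 2) K) = q * (Nat.gcd 2 (q - 1) * (a * b)) := by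
    have h1 : (q ^ 2 - 1) * (q ^ 2 - q) = Nat.gcd 2 (q - 1) * ((q - 1) * (q * (Nat.gcd 2 (q - 1) * (a * b)))) := by
      have e1 : q ^ 2 - 1 = (q + 1) * (q - 1) := by
        have := Nat.sq_sub_sq q 1
        simpa using this
      have e2 : q ^ 2 - q = q * (q - 1) := by rw [Nat.mul_sub_one, pow_two]
      rw [e1, e2]
      have e3 : (q + 1) * (q - 1) = (Nat.gcd 2 (q - 1) * b) * (Nat.gcd 2 (q - 1) * a) := by rw [← ha, ← hb]
      rw [e3]
      ring
    rw [h1] at hc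
    have h2 := Nat.eq_of_mul_eq_mul_left hd0 hc
    exact Nat.eq_of_mul_eq_mul_left (by omega) h2
  rw [hcard] at hrc
  rw [ha', hb']
  have hd : Nat.gcd 2 (q - 1) ∣ 2 := Nat.gcd_dvd_left _ _
  rcases hr.dvd_mul.1 hrc with h | h
  · left
    rw [hn] at h
    exact (Nat.prime_dvd_prime_iff_eq hr hpp).1 (hr.dvd_of_dvd_pow h)
  · rcases hr.dvd_mul.1 h with h | h
    · -- r = 2
      have hr2 : r = 2 := (Nat.prime_dvd_prime_iff_eq hr Nat.prime_two).1 (h.trans hd)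
      rw [hr2] at h ⊢
      have hg : Nat.gcd 2 (q - 1) = 2 := Nat.dvd_antisymm hd h
      rw [hg] at ha hb
      rcases Nat.even_or_odd a with he | ho
      · right; left; exact he.two_dvd
      · right; right; left
        obtain ⟨k, hk⟩ := ho
        exact ⟨k + 1, by omega⟩
    · rcases hr.dvd_mul.1 h with h | h
      · right; left; exact h
      · right; right; left; exact h

theorem psl_three {K : Type u} [Field K] [Fintype K] :
    ¬ Five (Matrix.ProjectiveSpecialLinearGroup (Fin 3) K) := by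
  obtain ⟨p, hp⟩ := CharP.exists K
  obtain ⟨n, hpp, hn⟩ := FiniteField.card K p
  have : Fact p.Prime := ⟨hpp⟩
  set q := Fintype.card K with hq
  have hq2 : 2 ≤ q := Fintype.one_lt_card
  have hs := Cfsg.Agent.S2476.result (F := K) p
  have hc := Cfsg.Agent.S0243.result (F := K) hq.symm 3 (by norm_num)
  simp only [Fin.prod_univ_succ, Fin.val_zero, Fin.val_succ, pow_zero, Finset.univ_eq_empty, Finset.prod_empty,
    mul_one, zero_add, pow_one] at hc
  have hmem : ∀ s : ℕ, (s ∣ (q ^ 2 + q + 1) / Nat.gcd 3 (q - 1) ∨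
        s ∣ (q ^ 2 - 1) / Nat.gcd 3 (q - 1) ∨ s ∣ q - 1) →
      ∃ g : Matrix.ProjectiveSpecialLinearGroup (Fin 3) K, orderOf g = s := by
    intro s h
    have : s ∈ Set.range (orderOf : Matrix.ProjectiveSpecialLinearGroup (Fin 3) K → ℕ) := by
      rw [hs]
      rcases h with h | h | h
      · exact Or.inl h
      · exact Or.inr (Or.inl h)
      · exact Or.inr (Or.inr (Or.inl h))
    exact this
  refine not_five_of_three p (q - 1) ((q ^ 2 - 1) / Nat.gcd 3 (q - 1)) ((q ^ 2 + q + 1) / Nat.gcd 3 (q - 1)) ?_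
    (fun s h => hmem s (Or.inr (Or.inr h))) (fun s h => hmem s (Or.inr (Or.inl h)))
    (fun s h => hmem s (Or.inl h))
  intro r hr hrc
  have hd1 : Nat.gcd 3 (q - 1) ∣ q - 1 := Nat.gcd_dvd_right _ _
  have hd0 : 0 < Nat.gcd 3 (q - 1) := Nat.gcd_pos_of_pos_left _ (by norm_num)
  have hd2 : Nat.gcd 3 (q - 1) ∣ q ^ 2 + q + 1 := by
    have h1 : Nat.gcd 3 (q - 1) ∣ 3 := Nat.gcd_dvd_left _ _
    have h2 : q ^ 2 + q + 1 = (q - 1) * (q + 2) + 3 := by
      obtain ⟨k, hk⟩ : ∃ k, q = k + 1 := ⟨q - 1, by omega⟩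
      rw [hk, Nat.add_sub_cancel]
      ring
    rw [h2]
    exact (Nat.dvd_add_right (hd1.mul_right _)).2 h1
  have e1 : q ^ 2 - 1 = (q - 1) * (q + 1) := by
    have := Nat.sq_sub_sq q 1
    rw [mul_comm]
    simpa using this
  have e2 : q ^ 3 - 1 = (q - 1) * (q ^ 2 + q + 1) := by
    obtain ⟨k, hk⟩ : ∃ k, q = k + 1 := ⟨q - 1, by omega⟩
    rw [hk, Nat.add_sub_cancel]
    have : (k + 1) ^ 3 = k * ((k + 1) ^ 2 + (k + 1) + 1) + 1 := by ring
    omega
  have e3 : q ^ 3 - q = q * ((q - 1) * (q + 1)) := by rw [← e1, Nat.mul_sub_one]; ring_nf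
  have e4 : q ^ 3 - q ^ 2 = q ^ 2 * (q - 1) := by rw [Nat.mul_sub_one]; ring_nf
  -- r divides q³ (q-1)² (q+1) ((q²+q+1)/d)
  obtain ⟨b, hb⟩ := hd2
  have hb' : (q ^ 2 + q + 1) / Nat.gcd 3 (q - 1) = b := by
    conv_lhs => rw [hb]
    exact Nat.mul_div_cancel_left _ hd0
  have hcard : Nat.card (Matrix.ProjectiveSpecialLinearGroup (Fin 3) K) =
      b * (q ^ 3 * ((q - 1) * (q - 1) * (q + 1))) := by
    have h1 : (q ^ 3 - 1) * ((q ^ 3 - q) * (q ^ 3 - q ^ 2)) =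
        Nat.gcd 3 (q - 1) * ((q - 1) * (b * (q ^ 3 * ((q - 1) * (q - 1) * (q + 1))))) := by
      rw [e2, e3, e4, hb]
      ring
    have hc' : Nat.gcd 3 (q - 1) * ((q - 1) * Nat.card (Matrix.ProjectiveSpecialLinearGroup (Fin 3) K)) =
      (q ^ 3 - 1) * ((q ^ 3 - q) * (q ^ 3 - q ^ 2)) := by
      rw [hc]
    rw [h1] at hc'
    have h2 := Nat.eq_of_mul_eq_mul_left hd0 hc'
    exact Nat.eq_of_mul_eq_mul_left (by omega) h2
  rw [hcard] at hrc
  rw [hb', e1]
  rcases hr.dvd_mul.1 hrc with h | h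
  · exact Or.inr (Or.inr (Or.inr h))
  rcases hr.dvd_mul.1 h with h | h
  · left
    have h1 := hr.dvd_of_dvd_pow h
    rw [hn] at h1
    exact (Nat.prime_dvd_prime_iff_eq hr hpp).1 (hr.dvd_of_dvd_pow h1)
  rcases hr.dvd_mul.1 h with h | h
  · rcases hr.dvd_mul.1 h with h | h
    · exact Or.inr (Or.inl h)
    · exact Or.inr (Or.inl h)
  · exact Or.inr (Or.inr (Or.inl (dvd_div_of hd1 h)))

theorem psu_three {F : Type u} [Field F] [Fintype F] {q : ℕ} (hF : Fintype.card F = q ^ 2) :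
    ¬ Five (Cfsg.PSU 3 F q) := by
  obtain ⟨p, hp⟩ := CharP.exists F
  obtain ⟨n, hpp, hn⟩ := FiniteField.card F p
  have : Fact p.Prime := ⟨hpp⟩
  have hq2 := Cfsg.Agent.ClassicalGeometry.GUBasic.two_le hF
  have hc := Cfsg.Agent.S0280.result (F := F) hF 3 (by norm_num)
  simp only [Finset.prod_range_succ, Finset.prod_range_zero] at hc
  simp (config := { decide := true }) only [if_true, if_false, one_mul, zero_add, pow_one] at hc
  refine not_five_of_three p (q + 1) ((q ^ 2 - 1) / Nat.gcd 3 (q + 1)) ((q ^ 2 - q + 1) / Nat.gcd 3 (q + 1)) ?_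
    (Cfsg.Agent.H127.PSUThreeEx.ex_one hF) (Cfsg.Agent.H127.PSUThreeEx.ex_three hF)
    (Cfsg.Agent.H127.PSUThreeEx.ex_four p hF)
  intro r hr hrc
  have hd1 : Nat.gcd 3 (q + 1) ∣ q + 1 := Nat.gcd_dvd_right _ _
  have hd0 : 0 < Nat.gcd 3 (q + 1) := Nat.gcd_pos_of_pos_left _ (by norm_num)
  have hqq : q ≤ q ^ 2 := by nlinarith
  have hd2 : Nat.gcd 3 (q + 1) ∣ q ^ 2 - q + 1 := by
    have h1 : Nat.gcd 3 (q + 1) ∣ 3 := Nat.gcd_dvd_left _ _
    have h2 : q ^ 2 - q + 1 + (3 * q) = (q + 1) * (q + 1) := by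
      have : (q + 1) * (q + 1) = q ^ 2 + 2 * q + 1 := by ring
      omega
    have h3 : Nat.gcd 3 (q + 1) ∣ q ^ 2 - q + 1 + 3 * q := h2 ▸ hd1.mul_right _
    exact (Nat.dvd_add_left (h1.mul_right _)).1 h3
  have e1 : q ^ 2 - 1 = (q + 1) * (q - 1) := by
    have := Nat.sq_sub_sq q 1
    simpa using this
  have e2 : q ^ 3 + 1 = (q + 1) * (q ^ 2 - q + 1) := by
    obtain ⟨k, hk⟩ : ∃ k, q ^ 2 = q + k := ⟨q ^ 2 - q, by omega⟩
    have h5 : q ^ 2 - q = k := by omega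
    have h6 : q ^ 3 = q ^ 2 * q := by ring
    rw [h5, h6, hk]
    have h7 : (q + k) * q = q ^ 2 + k * q := by ring
    rw [h7, hk]
    ring
  obtain ⟨b, hb⟩ := hd2
  have hb' : (q ^ 2 - q + 1) / Nat.gcd 3 (q + 1) = b := by
    conv_lhs => rw [hb]
    exact Nat.mul_div_cancel_left _ hd0
  have hcard : Nat.card (Cfsg.PSU 3 F q) = b * (q ^ 3 * ((q + 1) * (q + 1) * (q - 1))) := by
    have h1 : q ^ 3 * ((q + 1) * (q ^ 2 - 1) * (q ^ 3 + 1)) =
        Nat.gcd 3 (q + 1) * ((q + 1) * (b * (q ^ 3 * ((q + 1) * (q + 1) * (q - 1))))) := by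
      rw [e1, e2, hb]
      ring
    have hc' : Nat.gcd 3 (q + 1) * ((q + 1) * Nat.card (Cfsg.PSU 3 F q)) =
      q ^ 3 * ((q + 1) * (q ^ 2 - 1) * (q ^ 3 + 1)) := by
      rw [hc]
    rw [h1] at hc'
    have h2 := Nat.eq_of_mul_eq_mul_left hd0 hc'
    exact Nat.eq_of_mul_eq_mul_left (by omega) h2
  rw [hcard] at hrc
  rw [hb', e1]
  rcases hr.dvd_mul.1 hrc with h | h
  · exact Or.inr (Or.inr (Or.inr h))
  rcases hr.dvd_mul.1 h with h | h
  · left
    have h1 := hr.dvd_of_dvd_pow h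
    have h3 : r ∣ q ^ 2 := dvd_pow h1 (by norm_num)
    rw [← hF, hn] at h3
    exact (Nat.prime_dvd_prime_iff_eq hr hpp).1 (hr.dvd_of_dvd_pow h3)
  rcases hr.dvd_mul.1 h with h | h
  · rcases hr.dvd_mul.1 h with h | h
    · exact Or.inr (Or.inl h)
    · exact Or.inr (Or.inl h)
  · exact Or.inr (Or.inr (Or.inl (dvd_div_of hd1 h)))

/-- a cyclic subgroup has elements of all orders dividing its order -/
theorem exists_of_cyclic {G : Type*} [Group G] [Finite G] (C : Subgroup G) (hC : IsCyclic C) {n : ℕ}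
    (hn : Nat.card C = n) : ∀ s, s ∣ n → ∃ g : G, orderOf g = s := by
  intro s hs
  obtain ⟨c, hc⟩ := hC.exists_generator
  have h1 : orderOf c = n := by rw [← hn]; exact orderOf_eq_card_of_forall_mem_zpowers hc
  have h2 : orderOf (c : G) = n := by rw [Subgroup.orderOf_coe, h1]
  obtain ⟨k, hk⟩ := exists_pow_orderOf (g := (c : G)) (m := s) (h2 ▸ hs)
  exact ⟨_, hk⟩

theorem sz' {F : Type u} [Field F] [Fintype F] {m : ℕ} (hm : 1 ≤ m) (hF : Fintype.card F = 2 ^ (2 * m + 1)) :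
    ¬ Five (Cfsg.Sz F m) := by
  have hcard := Cfsg.Agent.S0324.result hm hF
  obtain ⟨e⟩ := Cfsg.Agent.S0328.result hm hF
  have h333 := Cfsg.Agent.S0333.result hm hF
  obtain ⟨U, hU, hUc, -, -⟩ := h333 (2 ^ (2 * m + 1) + 2 ^ (m + 1) + 1) (by simp)
  obtain ⟨V, hV, hVc, -, -⟩ := h333 (2 ^ (2 * m + 1) - 2 ^ (m + 1) + 1) (by simp)
  have hcyc : IsCyclic ↥(MulAction.stabilizer (Cfsg.Sz F m) (Cfsg.suzukiPointInfinity F) ⊓
      MulAction.stabilizer (Cfsg.Sz F m) (Cfsg.suzukiPointZero F)) :=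
    isCyclic_of_surjective e.symm e.symm.surjective
  refine not_five_of_three 2 (2 ^ (2 * m + 1) - 1) (2 ^ (2 * m + 1) + 2 ^ (m + 1) + 1)
    (2 ^ (2 * m + 1) - 2 ^ (m + 1) + 1) ?_
    (exists_of_cyclic _ hcyc (by
      rw [Nat.card_congr e.toEquiv, Nat.card_units, Nat.card_eq_fintype_card, hF]))
    (exists_of_cyclic U hU hUc) (exists_of_cyclic V hV hVc)
  intro r hr hrc
  rw [hcard] at hrc
  have hle : 2 ^ (m + 1) ≤ 2 ^ (2 * m + 1) := Nat.pow_le_pow_right (by norm_num) (by omega)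
  have key : (2 ^ (2 * m + 1) + 2 ^ (m + 1) + 1) * (2 ^ (2 * m + 1) - 2 ^ (m + 1) + 1) =
      (2 ^ (2 * m + 1)) ^ 2 + 1 := by
    obtain ⟨k, hk⟩ := Nat.exists_eq_add_of_le hle
    have h1 : 2 ^ (2 * m + 1) - 2 ^ (m + 1) = k := by omega
    rw [h1]
    have h2 : (2 ^ (m + 1)) ^ 2 = 2 * 2 ^ (2 * m + 1) := by
      rw [← pow_mul, ← pow_succ']
      congr 1
      ring
    have h3 : (2 ^ (2 * m + 1) : ℕ) ^ 2 = (2 ^ (m + 1)) ^ 2 + 2 * 2 ^ (m + 1) * k + k ^ 2 := by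
      rw [hk]; ring
    rw [h2] at h3
    nlinarith [h3, hk]
  rw [← key] at hrc
  rcases hr.dvd_mul.1 hrc with h | h
  · rcases hr.dvd_mul.1 h with h | h
    · left
      have h1 := hr.dvd_of_dvd_pow (hr.dvd_of_dvd_pow h)
      exact (Nat.prime_dvd_prime_iff_eq hr Nat.prime_two).1 h1
    · rcases hr.dvd_mul.1 h with h | h
      · exact Or.inr (Or.inr (Or.inl h))
      · exact Or.inr (Or.inr (Or.inr h))
  · exact Or.inr (Or.inl h)

theorem sz {F : Type u} [Field F] [Fintype F] {m : ℕ} (hm : 1 ≤ m) (hF : Fintype.card F = 2 ^ (2 * m + 1)) :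
    ¬ Five ↥(Cfsg.Lie.Sz F (2 ^ (m + 1))) := by
  obtain ⟨e⟩ := Cfsg.Agent.OddCyclic.ClaimC.SzIso.iso (F := F) hm hF
  rw [← five_congr e]
  exact sz' hm hF

end Cfsg.Agent.H423.PGRankOne
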