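import Mathlib
import Cfsg.Agent.H423.PGRankOne
import Cfsg.Agent.S0342
import Cfsg.Agent.ThreePrime.Main

/-!
# Simple groups whose odd Sylow subgroups are cyclic: cocliques of odd primes (helper423)

`not_four`: a nonabelian finite simple group with cyclic Sylow `p`-subgroups for odd `p`, not of order `175560`,
has no four pairwise nonadjacent odd primes.
-/

set_option autoImplicit false

namespace Cfsg.Agent.H423.GBStar

open Cfsg.Agent.H423.PG Cfsg.Agent.H423.PGRankOne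

universe u

/-- the odd primes are covered by three cliques -/
def Cov (G : Type u) [Group G] : Prop :=
  ∃ n₁ n₂ n₃ : ℕ, (∀ r, r.Prime → r ∣ Nat.card G → r = 2 ∨ r ∣ n₁ ∨ r ∣ n₂ ∨ r ∣ n₃) ∧
    (∀ s, s ∣ n₁ → ∃ g : G, orderOf g = s) ∧ (∀ s, s ∣ n₂ → ∃ g : G, orderOf g = s) ∧
    (∀ s, s ∣ n₃ → ∃ g : G, orderOf g = s)

theorem Cov.not_four {G : Type u} [Group G] (h : Cov G) {σ : Finset ℕ} (hσ : σ ⊆ (Nat.card G).primeFactors)
    (h4 : 4 ≤ σ.card) (h2 : 2 ∉ σ) (hco : ∀ r ∈ σ, ∀ s ∈ σ, r ≠ s → ¬ Adj G r s) : False := by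
  classical
  obtain ⟨n₁, n₂, n₃, h0, h1, h2', h3⟩ := h
  let f : ℕ → Fin 3 := fun r => if r ∣ n₁ then 0 else if r ∣ n₂ then 1 else 2
  have hc : (Finset.univ : Finset (Fin 3)).card < σ.card := by
    rw [Finset.card_univ, Fintype.card_fin]; omega
  obtain ⟨r, hr, s, hs, hrs, hf⟩ := Finset.exists_ne_map_eq_of_card_lt_of_maps_to hc
    (f := f) (fun _ _ => Finset.mem_coe.2 (Finset.mem_univ _))
  have hr1 := Nat.prime_of_mem_primeFactors (hσ hr)
  have hs1 := Nat.prime_of_mem_primeFactors (hσ hs)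
  have hcop : Nat.Coprime r s := (Nat.coprime_primes hr1 hs1).2 hrs
  have h4 := (h0 r hr1 (Nat.dvd_of_mem_primeFactors (hσ hr))).resolve_left (fun h => h2 (h ▸ hr))
  have h5 := (h0 s hs1 (Nat.dvd_of_mem_primeFactors (hσ hs))).resolve_left (fun h => h2 (h ▸ hs))
  apply hco r hr s hs hrs
  simp only [f] at hf
  by_cases hr2 : r ∣ n₁
  · by_cases hs2 : s ∣ n₁
    · exact h1 _ (hcop.mul_dvd_of_dvd_of_dvd hr2 hs2)
    · rw [if_pos hr2, if_neg hs2] at hf
      split_ifs at hf <;> exact absurd hf (by decide)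
  · by_cases hs2 : s ∣ n₁
    · rw [if_neg hr2, if_pos hs2] at hf
      split_ifs at hf <;> exact absurd hf (by decide)
    · rw [if_neg hr2, if_neg hs2] at hf
      by_cases hr3 : r ∣ n₂
      · by_cases hs3 : s ∣ n₂
        · exact h2' _ (hcop.mul_dvd_of_dvd_of_dvd hr3 hs3)
        · rw [if_pos hr3, if_neg hs3] at hf
          exact absurd hf (by decide)
      · by_cases hs3 : s ∣ n₂
        · rw [if_neg hr3, if_pos hs3] at hf
          exact absurd hf (by decide)
        · refine h3 _ (hcop.mul_dvd_of_dvd_of_dvd ?_ ?_)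
          · tauto
          · tauto

theorem Cov.congr {G : Type*} [Group G] {H : Type*} [Group H] (e : G ≃* H) (h : Cov H) : Cov G := by
  obtain ⟨n₁, n₂, n₃, h0, h1, h2, h3⟩ := h
  have key : ∀ s, (∃ g : H, orderOf g = s) → ∃ g : G, orderOf g = s := by
    rintro s ⟨g, hg⟩
    exact ⟨e.symm g, by rw [← hg]; exact orderOf_injective e.symm.toMonoidHom e.symm.injective g⟩
  refine ⟨n₁, n₂, n₃, ?_, fun s hs => key s (h1 s hs), fun s hs => key s (h2 s hs), fun s hs => key s (h3 s hs)⟩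
  rw [Nat.card_congr e.toEquiv]
  exact h0

theorem cov_psl {K : Type u} [Field K] [Fintype K] (h4 : 4 ≤ Fintype.card K) :
    Cov (Matrix.ProjectiveSpecialLinearGroup (Fin 2) K) := by
  obtain ⟨p, hp⟩ := CharP.exists K
  obtain ⟨n, hpp, hn⟩ := FiniteField.card K p
  have : Fact p.Prime := ⟨hpp⟩
  set q := Fintype.card K with hq
  have hs := Cfsg.Agent.S2475.result (F := K) p h4
  have hc := Cfsg.Agent.S0243.result (F := K) hq.symm 2 le_rfl
  simp only [Fin.prod_univ_two, Fin.val_zero, Fin.val_one, pow_zero, pow_one] at hc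
  have hmem : ∀ s : ℕ, (s ∣ p ∨ s ∣ (q - 1) / Nat.gcd 2 (q - 1) ∨ s ∣ (q + 1) / Nat.gcd 2 (q - 1)) →
      ∃ g : Matrix.ProjectiveSpecialLinearGroup (Fin 2) K, orderOf g = s := by
    intro s h
    have : s ∈ Set.range (orderOf : Matrix.ProjectiveSpecialLinearGroup (Fin 2) K → ℕ) := by
      rw [hs]; exact h
    exact this
  refine ⟨p, (q - 1) / Nat.gcd 2 (q - 1), (q + 1) / Nat.gcd 2 (q - 1), ?_,
    fun s h => hmem s (Or.inl h), fun s h => hmem s (Or.inr (Or.inl h)), fun s h => hmem s (Or.inr (Or.inr h))⟩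
  intro r hr hrc
  -- |PSL| = q * (q-1)/d * (q+1)
  have hd1 : Nat.gcd 2 (q - 1) ∣ q - 1 := Nat.gcd_dvd_right _ _
  have hd0 : 0 < Nat.gcd 2 (q - 1) := Nat.gcd_pos_of_pos_left _ (by norm_num)
  have hd2 : Nat.gcd 2 (q - 1) ∣ q + 1 := by
    have h1 : Nat.gcd 2 (q - 1) ∣ 2 := Nat.gcd_dvd_left _ _
    have h2 : q + 1 = (q - 1) + 2 := by omega
    rw [h2]
    exact (Nat.dvd_add_right hd1).2 h1
  obtain ⟨a, ha⟩ := hd1
  obtain ⟨b, hb⟩ := hd2
  have ha' : (q - 1) / Nat.gcd 2 (q - 1) = a := Nat.div_eq_of_eq_mul_right hd0 ha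
  have hb' : (q + 1) / Nat.gcd 2 (q - 1) = b := Nat.div_eq_of_eq_mul_right hd0 hb
  have hcard : Nat.card (Matrix.ProjectiveSpecialLinearGroup (Fin 2) K) = q * (Nat.gcd 2 (q - 1) * (a * b)) := by
    have h1 : (q ^ 2 - 1) * (q ^ 2 - q) = Nat.gcd 2 (q - 1) * ((q - 1) * (q * (Nat.gcd 2 (q - 1) * (a * b)))) := by
      have e1 : q ^ 2 - 1 = (q + 1) * (q - 1) := by
        have := Nat.sq_sub_sq q 1
        simpa using this
      have e2 : q ^ 2 - q = q * (q - 1) := by rw [Nat.mul_sub_one, pow_two]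
      rw [e1, e2]
      have e3 : (q + 1) * (q - 1) = (Nat.gcd 2 (q - 1) * b) * (Nat.gcd 2 (q - 1) * a) := by rw [← ha, ← hb]
      rw [e3]
      ring
    rw [h1] at hc
    have h2 := Nat.eq_of_mul_eq_mul_left hd0 hc
    exact Nat.eq_of_mul_eq_mul_left (by omega) h2
  rw [hcard] at hrc
  rw [ha', hb']
  have hd : Nat.gcd 2 (q - 1) ∣ 2 := Nat.gcd_dvd_left _ _
  rcases hr.dvd_mul.1 hrc with h | h
  · right; left
    rw [hn] at h
    exact hr.dvd_of_dvd_pow h
  · rcases hr.dvd_mul.1 h with h | h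
    · -- r = 2
      left
      exact (Nat.prime_dvd_prime_iff_eq hr Nat.prime_two).1 (h.trans hd)
    · rcases hr.dvd_mul.1 h with h | h
      · exact Or.inr (Or.inr (Or.inl h))
      · exact Or.inr (Or.inr (Or.inr h))

theorem cov_sz' {F : Type u} [Field F] [Fintype F] {m : ℕ} (hm : 1 ≤ m) (hF : Fintype.card F = 2 ^ (2 * m + 1)) :
    Cov (Cfsg.Sz F m) := by
  have hcard := Cfsg.Agent.S0324.result hm hF
  obtain ⟨e⟩ := Cfsg.Agent.S0328.result hm hF
  have h333 := Cfsg.Agent.S0333.result hm hF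
  obtain ⟨U, hU, hUc, -, -⟩ := h333 (2 ^ (2 * m + 1) + 2 ^ (m + 1) + 1) (by simp)
  obtain ⟨V, hV, hVc, -, -⟩ := h333 (2 ^ (2 * m + 1) - 2 ^ (m + 1) + 1) (by simp)
  have hcyc : IsCyclic ↥(MulAction.stabilizer (Cfsg.Sz F m) (Cfsg.suzukiPointInfinity F) ⊓
      MulAction.stabilizer (Cfsg.Sz F m) (Cfsg.suzukiPointZero F)) :=
    isCyclic_of_surjective e.symm e.symm.surjective
  refine ⟨2 ^ (2 * m + 1) - 1, 2 ^ (2 * m + 1) + 2 ^ (m + 1) + 1,
    2 ^ (2 * m + 1) - 2 ^ (m + 1) + 1, ?_,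
    (exists_of_cyclic _ hcyc (by
      rw [Nat.card_congr e.toEquiv, Nat.card_units, Nat.card_eq_fintype_card, hF])),
    (exists_of_cyclic U hU hUc), (exists_of_cyclic V hV hVc)⟩
  intro r hr hrc
  rw [hcard] at hrc
  have hle : 2 ^ (m + 1) ≤ 2 ^ (2 * m + 1) := Nat.pow_le_pow_right (by norm_num) (by omega)
  have key : (2 ^ (2 * m + 1) + 2 ^ (m + 1) + 1) * (2 ^ (2 * m + 1) - 2 ^ (m + 1) + 1) =
      (2 ^ (2 * m + 1)) ^ 2 + 1 := by
    obtain ⟨k, hk⟩ := Nat.exists_eq_add_of_le hle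
    have h1 : 2 ^ (2 * m + 1) - 2 ^ (m + 1) = k := by omega
    rw [h1]
    have h2 : (2 ^ (m + 1)) ^ 2 = 2 * 2 ^ (2 * m + 1) := by
      rw [← pow_mul, ← pow_succ']
      congr 1
      ring
    have h3 : (2 ^ (2 * m + 1) : ℕ) ^ 2 = (2 ^ (m + 1)) ^ 2 + 2 * 2 ^ (m + 1) * k + k ^ 2 := by
      rw [hk]; ring
    rw [h2] at h3
    nlinarith [h3, hk]
  rw [← key] at hrc
  rcases hr.dvd_mul.1 hrc with h | h
  · rcases hr.dvd_mul.1 h with h | h
    · left
      have h1 := hr.dvd_of_dvd_pow (hr.dvd_of_dvd_pow h)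
      exact (Nat.prime_dvd_prime_iff_eq hr Nat.prime_two).1 h1
    · rcases hr.dvd_mul.1 h with h | h
      · exact Or.inr (Or.inr (Or.inl h))
      · exact Or.inr (Or.inr (Or.inr h))
  · exact Or.inr (Or.inl h)

theorem cov_sz {F : Type u} [Field F] [Fintype F] {m : ℕ} (hm : 1 ≤ m) (hF : Fintype.card F = 2 ^ (2 * m + 1)) :
    Cov ↥(Cfsg.Lie.Sz F (2 ^ (m + 1))) := by
  obtain ⟨e⟩ := Cfsg.Agent.OddCyclic.ClaimC.SzIso.iso (F := F) hm hF
  exact (cov_sz' hm hF).congr e.symm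

/-- **four pairwise nonadjacent odd primes** -/
theorem not_four {S : Type*} [Group S] [Finite S] [IsSimpleGroup S] (hna : ¬ IsMulCommutative S)
    (hcyc : ∀ (p : ℕ) (P : Sylow p S), p.Prime → p ≠ 2 → IsCyclic P) (hJ : Nat.card S ≠ 175560)
    {σ : Finset ℕ} (hσ : σ ⊆ (Nat.card S).primeFactors)
    (h4 : 4 ≤ σ.card) (h2 : 2 ∉ σ) (hco : ∀ r ∈ σ, ∀ s ∈ σ, r ≠ s → ¬ Adj S r s) : False := by
  have hne : ∃ a b : S, a * b ≠ b * a := by
    by_contra hcon
    push Not at hcon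
    exact hna ⟨⟨hcon⟩⟩
  rcases Cfsg.Agent.S0342.result hne hcyc with ⟨F, _, _, -, ⟨e⟩⟩ | hSz | hJ1
  · have hF4 : 4 ≤ Fintype.card F := by
      by_contra hlt
      have hF1 : 1 < Fintype.card F := Fintype.one_lt_card
      have hc := Cfsg.Agent.S0243.result (F := F) rfl 2 le_rfl
      simp only [Fin.prod_univ_two, Fin.val_zero, Fin.val_one, pow_zero, pow_one] at hc
      have hcard : Nat.card S = 6 ∨ Nat.card S = 12 := by
        rw [Nat.card_congr e.toEquiv]
        rcases (by omega : Fintype.card F = 2 ∨ Fintype.card F = 3) with h | h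
        · left
          rw [h] at hc
          norm_num at hc
          exact hc
        · right
          rw [h] at hc
          norm_num at hc
          omega
      have h5 := Finset.card_le_card hσ
      have h6 : ((Nat.card S).primeFactors).card ≤ ({2, 3} : Finset ℕ).card := by
        apply Finset.card_le_card
        intro r hr
        have hr1 := Nat.prime_of_mem_primeFactors hr
        have hr2 := Nat.dvd_of_mem_primeFactors hr
        have hr3 : r ∣ 2 ^ 2 * 3 := by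
          rcases hcard with h | h
          · rw [h] at hr2; exact hr2.trans (by norm_num)
          · rw [h] at hr2; exact hr2
        rw [Finset.mem_insert, Finset.mem_singleton]
        rcases hr1.dvd_mul.1 hr3 with h | h
        · left; exact (Nat.prime_dvd_prime_iff_eq hr1 Nat.prime_two).1 (hr1.dvd_of_dvd_pow h)
        · right; exact (Nat.prime_dvd_prime_iff_eq hr1 Nat.prime_three).1 h
      have h7 : ({2, 3} : Finset ℕ).card = 2 := by decide
      omega
    exact ((cov_psl hF4).congr e).not_four hσ h4 h2 hco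
  · obtain ⟨-, m, hm, hcard⟩ := hSz
    have h3 : ¬ 3 ∣ Nat.card S := by
      rw [hcard]
      intro h
      have hmod : ∀ k : ℕ, (2 ^ (2 * k + 1)) % 3 = 2 := by
        intro k
        induction k with
        | zero => norm_num
        | succ k ih =>
          rw [show 2 * (k + 1) + 1 = (2 * k + 1) + 2 by ring, pow_add]
          omega
      have hm' := hmod m
      generalize 2 ^ (2 * m + 1) = q at hm' h
      obtain ⟨k, hk⟩ : ∃ k, q = 3 * k + 2 := ⟨q / 3, by omega⟩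
      rcases Nat.prime_three.dvd_mul.1 h with h | h
      · rcases Nat.prime_three.dvd_mul.1 h with h | h
        · have := Nat.prime_three.dvd_of_dvd_pow h
          omega
        · have h1 : q ^ 2 + 1 = 3 * (3 * k ^ 2 + 4 * k + 1) + 2 := by rw [hk]; ring
          omega
      · omega
    obtain ⟨F, _, _, m', hm', hF, e⟩ := Cfsg.Agent.ThreePrime.Main.isoSuzuki' hna h3
    exact ((cov_sz hm' hF).congr e.some).not_four hσ h4 h2 hco
  · exact hJ hJ1.2

end Cfsg.Agent.H423.GBStar
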