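import Mathlib
import Cfsg.Agent.H421.Act
import Cfsg.Agent.S0126

/-!
# The last odd chief factor of a solvable normal subgroup (helper423)

* `fpf_cyclic`: a group acting on an elementary abelian `t`-group `V ≠ 0` so that the elements of order `u` (`u` odd,
  `u ≠ t`) have no fixed vectors has cyclic Sylow `u`-subgroups;
* `exists_top_odd`: a solvable normal subgroup `R` of `G` which is not a 2-group contains a normal subgroup `K` of `G`
  such that `R/K` is a 2-group and `G ⧸ K` has a nonzero `F_t`-module, `t` odd, `t ∣ |K|`, where elements of prime order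
  `r ≠ t` have no fixed vectors if `G` has no element of order `r t`.
-/

set_option autoImplicit false

namespace Cfsg.Agent.H423.GBTop

open Cfsg.Agent.H421.Act

universe u

theorem orbit_sum {X V : Type*} [Group X] [AddCommGroup V] (ρ : X →* AddMonoid.End V) (z : X) (p : ℕ)
    (hz : z ^ p = 1) (hV : ∀ v, ρ z v = v → v = 0) (w : V) : ∑ i ∈ Finset.range p, ρ (z ^ i) w = 0 := by
  apply hV
  rw [map_sum]
  have h1 : ∀ i, ρ z (ρ (z ^ i) w) = ρ (z ^ (i + 1)) w := by
    intro i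
    rw [pow_succ', map_mul]; rfl
  simp only [h1]
  have h2 := Finset.sum_range_succ (fun i => ρ (z ^ i) w) p
  have h3 := Finset.sum_range_succ' (fun i => ρ (z ^ i) w) p
  rw [h2, hz, pow_zero] at h3
  exact (add_right_cancel h3).symm

theorem fpf_cyclic {X : Type*} [Group X] [Finite X] {V : Type*} [AddCommGroup V] [Nontrivial V]
    (ρ : X →* AddMonoid.End V) {t p : ℕ} (ht : t.Prime) (hp : p.Prime) (hp2 : p ≠ 2) (hpt : p ≠ t)
    (hVt : ∀ v : V, t • v = 0) (hV : ∀ x : X, orderOf x = p → ∀ v, ρ x v = v → v = 0) (Q : Subgroup X)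
    (hQ : IsPGroup p Q) : IsCyclic Q := by
  classical
  by_contra hnc
  have : Fact p.Prime := ⟨hp⟩
  obtain ⟨A, -, ⟨hAc, hAp⟩, hcard⟩ := S0126.result hp2 hQ hnc
  have hA1 : A ≠ ⊥ := by
    rintro rfl
    rw [Subgroup.card_bot] at hcard
    exact (Nat.one_lt_pow (two_ne_zero) hp.one_lt).ne hcard
  obtain ⟨a, ha, ha1⟩ : ∃ a : Q, a ∈ A ∧ a ≠ 1 := by
    obtain ⟨a, ha⟩ := Subgroup.ne_bot_iff_exists_ne_one.1 hA1
    exact ⟨a.1, a.2, fun h' => ha (Subtype.ext h')⟩
  have hoa : orderOf a = p := orderOf_eq_prime (hAp a ha) ha1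
  have hlt : ¬ A ≤ Subgroup.zpowers a := by
    intro h
    have h1 := Nat.le_of_dvd (by rw [Nat.card_zpowers, hoa]; exact hp.pos) (Subgroup.card_dvd_of_le h)
    rw [Nat.card_zpowers, hoa, hcard] at h1
    have := hp.one_lt
    nlinarith
  obtain ⟨b, hb, hba⟩ := SetLike.not_le_iff_exists.1 hlt
  have hab : Commute a b := congrArg Subtype.val (hAc.is_comm.comm (⟨a, ha⟩ : A) ⟨b, hb⟩)
  -- elements of `X`
  have hord : ∀ y ∈ A, y ≠ 1 → orderOf (y : X) = p := by
    intro y hy hy1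
    rw [Subgroup.orderOf_coe]
    exact orderOf_eq_prime (hAp y hy) hy1
  have hsum : ∀ y ∈ A, y ≠ 1 → ∀ w : V, ∑ j ∈ Finset.range p, ρ ((y : X) ^ j) w = 0 := by
    intro y hy hy1 w
    exact orbit_sum ρ (y : X) p (by rw [← hord y hy hy1]; exact pow_orderOf_eq_one _) (hV _ (hord y hy hy1)) w
  obtain ⟨v, hv⟩ := exists_ne (0 : V)
  have h1 : ∑ i ∈ Finset.range p, ∑ j ∈ Finset.range p, ρ ((((a ^ i * b : Q) : X)) ^ j) v = 0 := by
    refine Finset.sum_eq_zero fun i _ => ?_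
    refine hsum _ (A.mul_mem (A.pow_mem ha i) hb) ?_ v
    intro h
    apply hba
    have h2 : b = (a ^ i)⁻¹ := eq_inv_of_mul_eq_one_right h
    rw [h2]
    exact inv_mem (pow_mem (Subgroup.mem_zpowers a) i)
  rw [Finset.sum_comm] at h1
  obtain ⟨q, rfl⟩ : ∃ q, p = q + 1 := ⟨p - 1, by have := hp.one_lt; omega⟩
  rw [Finset.sum_range_succ'] at h1
  have h2 : ∀ j ∈ Finset.range q, ∑ i ∈ Finset.range (q + 1), ρ ((((a ^ i * b : Q) : X)) ^ (j + 1)) v = 0 := by
    intro j hj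
    have hj' := Finset.mem_range.1 hj
    have h3 : a ^ (j + 1) ≠ 1 := by
      intro h
      have := orderOf_dvd_of_pow_eq_one h
      rw [hoa] at this
      exact absurd (Nat.le_of_dvd (Nat.succ_pos j) this) (by omega)
    have h4 := hsum (a ^ (j + 1)) (A.pow_mem ha _) h3 (ρ ((b : X) ^ (j + 1)) v)
    rw [← h4]
    refine Finset.sum_congr rfl fun i _ => ?_
    have h5 : (((a ^ i * b : Q) : X)) ^ (j + 1) = ((a ^ (j + 1) : Q) : X) ^ i * (b : X) ^ (j + 1) := by
      have h6 : (a ^ i * b) ^ (j + 1) = (a ^ (j + 1)) ^ i * b ^ (j + 1) := by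
        rw [(hab.pow_left i).mul_pow, ← pow_mul, ← pow_mul, mul_comm]
      have h7 := congrArg (fun y : Q => (y : X)) h6
      simpa using h7
    rw [h5, map_mul]
    rfl
  rw [Finset.sum_eq_zero h2, zero_add] at h1
  simp only [pow_zero, map_one] at h1
  have h3 : ∀ w : V, (1 : AddMonoid.End V) w = w := fun w => rfl
  rw [Finset.sum_congr rfl (fun _ _ => h3 v), Finset.sum_const, Finset.card_range] at h1
  have hcop : Nat.Coprime (q + 1) t := (Nat.coprime_primes hp ht).2 hpt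
  apply hv
  have h4 := addOrderOf_dvd_of_nsmul_eq_zero h1
  have h5 := addOrderOf_dvd_of_nsmul_eq_zero (hVt v)
  have h6 : addOrderOf v ∣ 1 := by
    rw [← hcop]
    exact Nat.dvd_gcd h4 h5
  exact AddMonoid.addOrderOf_eq_one_iff.1 (Nat.dvd_one.1 h6)

/-- the module of a chief factor -/
theorem top_of_max {G : Type u} [Group G] [Finite G] (K K1 : Subgroup G) [K.Normal] (hn : K1.Normal) (hlt : K1 < K)
    {t : ℕ} (ht : t.Prime) (hexp : ∀ x ∈ K, x ^ t ∈ K1) (hcomm : ∀ x ∈ K, ∀ y ∈ K, x * y * x⁻¹ * y⁻¹ ∈ K1) :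
    ∃ (V : Type u) (_ : AddCommGroup V) (_ : Nontrivial V) (_ : Finite V) (ρ : G ⧸ K →* AddMonoid.End V),
      (∀ v : V, t • v = 0) ∧
      ∀ r : ℕ, r.Prime → r ≠ t → (∀ g : G, orderOf g ≠ r * t) → ∀ x : G ⧸ K, orderOf x = r →
        ∀ v, ρ x v = v → v = 0 := by
  classical
  let f := QuotientGroup.mk' K1
  let W : Subgroup (G ⧸ K1) := K.map f
  have hWn : W.Normal := Subgroup.Normal.map inferInstance f (QuotientGroup.mk'_surjective K1)
  have hab : ∀ a ∈ W, ∀ b ∈ W, a * b = b * a := by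
    rintro _ ⟨x, hx, rfl⟩ _ ⟨y, hy, rfl⟩
    have h1 : f (x * y * x⁻¹ * y⁻¹) = 1 := (QuotientGroup.eq_one_iff _).2 (hcomm x hx y hy)
    rw [map_mul, map_mul, map_mul, map_inv, map_inv, mul_inv_eq_one, mul_inv_eq_iff_eq_mul] at h1
    exact h1
  have hWexp : ∀ w : W, w ^ t = 1 := by
    rintro ⟨_, x, hx, rfl⟩
    apply Subtype.ext
    change f x ^ t = 1
    rw [← map_pow]
    exact (QuotientGroup.eq_one_iff _).2 (hexp x hx)
  let _ : CommGroup W := { (inferInstance : Group W) with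
    mul_comm := fun a b => Subtype.ext (hab a a.2 b b.2) }
  have hWne : W ≠ ⊥ := by
    intro h
    rw [Subgroup.map_eq_bot_iff, QuotientGroup.ker_mk'] at h
    exact absurd h (not_le_of_gt hlt)
  have hWnt : Nontrivial W := (Subgroup.nontrivial_iff_ne_bot W).2 hWne
  let c : G →* MulAut W := (MulAut.conjNormal (H := W)).comp f
  have hc : ∀ (g : G) (w : W), ((c g w : W) : G ⧸ K1) = f g * w * (f g)⁻¹ := fun g w => MulAut.conjNormal_apply _ _
  have hker : ∀ k ∈ K, c k = 1 := by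
    intro k hk
    apply MulEquiv.ext
    intro w
    apply Subtype.ext
    rw [hc, hab (f k) ⟨k, hk, rfl⟩ w w.2, mul_inv_cancel_right]
    rfl
  let ρ : G ⧸ K →* AddMonoid.End (Additive W) := (toEnd W).comp (QuotientGroup.lift K c hker)
  refine ⟨Additive W, inferInstance, inferInstance, inferInstance, ρ, fun v => ?_, ?_⟩
  · have h1 := hWexp (Additive.toMul v)
    exact h1
  · intro r hr hrt hno x hx v hv
    obtain ⟨g, rfl⟩ := QuotientGroup.mk'_surjective K x
    have h1 : c g (Additive.toMul v) = Additive.toMul v := hv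
    have h2 : f g * (Additive.toMul v : W) * (f g)⁻¹ = (Additive.toMul v : W) := by
      rw [← hc, h1]
    have h3 : Commute (f g) ((Additive.toMul v : W) : G ⧸ K1) := mul_inv_eq_iff_eq_mul.1 h2
    by_contra hne
    have hne' : (Additive.toMul v : W) ≠ 1 := hne
    have h4 : t ∣ orderOf ((Additive.toMul v : W) : G ⧸ K1) := by
      have : Fact t.Prime := ⟨ht⟩
      rw [Subgroup.orderOf_coe, orderOf_eq_prime (hWexp _) hne']
    have h5 : r ∣ orderOf (f g) := by
      rw [← hx]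
      let φ : G ⧸ K1 →* G ⧸ K := QuotientGroup.map K1 K (MonoidHom.id G) hlt.le
      have h6 : φ (f g) = QuotientGroup.mk' K g := rfl
      rw [← h6]
      exact orderOf_map_dvd φ (f g)
    obtain ⟨y, hy⟩ := exists_mul_order h3 hr ht hrt h5 h4
    obtain ⟨w, hw, -⟩ := orderOf_lift f (QuotientGroup.mk'_surjective K1) y
    exact hno w (hw.trans hy)

/-- **The last odd chief factor.** -/
theorem exists_top_odd {G : Type u} [Group G] [Finite G] (R : Subgroup G) [R.Normal] (hs : Group.IsSolvable R)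
    (hR : ¬ IsPGroup 2 R) :
    ∃ (K : Subgroup G) (_ : K.Normal) (t : ℕ) (V : Type u) (_ : AddCommGroup V) (_ : Nontrivial V) (_ : Finite V)
      (ρ : G ⧸ K →* AddMonoid.End V), K ≤ R ∧ (∀ x ∈ R, ∃ n : ℕ, x ^ 2 ^ n ∈ K) ∧
      t.Prime ∧ t ≠ 2 ∧ t ∣ Nat.card R ∧ (∀ v : V, t • v = 0) ∧
      ∀ r : ℕ, r.Prime → r ≠ t → (∀ g : G, orderOf g ≠ r * t) → ∀ x : G ⧸ K, orderOf x = r →
        ∀ v, ρ x v = v → v = 0 := by
  classical
  obtain ⟨K, ⟨hKn, hKR, hK2⟩, hmin⟩ := Set.Finite.exists_minimal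
    (s := {K : Subgroup G | K.Normal ∧ K ≤ R ∧ ∀ x ∈ R, ∃ n : ℕ, x ^ 2 ^ n ∈ K}) (Set.toFinite _)
    ⟨R, inferInstance, le_rfl, fun x hx => ⟨0, by simpa using hx⟩⟩
  have hKne : K ≠ ⊥ := by
    rintro rfl
    apply hR
    intro x
    obtain ⟨n, hn⟩ := hK2 x x.2
    exact ⟨n, Subtype.ext (by simpa using hn)⟩
  have hKs : Group.IsSolvable K :=
    Group.isSolvable_of_isSolvable_injective (Subgroup.inclusion_injective hKR)
  obtain ⟨K1, t, hn, hlt, ht, htK, hexp, hcomm⟩ := exists_max K hKne hKs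
  have ht2 : t ≠ 2 := by
    rintro rfl
    have h1 := hmin ⟨hn, hlt.le.trans hKR, fun x hx => ?_⟩ hlt.le
    · exact absurd h1 (not_le_of_gt hlt)
    · obtain ⟨n, hn⟩ := hK2 x hx
      refine ⟨n + 1, ?_⟩
      rw [pow_succ, pow_mul]
      exact hexp _ hn
  obtain ⟨V, i1, i2, i3, ρ, h1, h2⟩ := top_of_max K K1 hn hlt ht hexp hcomm
  exact ⟨K, hKn, t, V, i1, i2, i3, ρ, hKR, hK2, ht, ht2, htK.trans (Subgroup.card_dvd_of_le hKR), h1, h2⟩

end Cfsg.Agent.H423.GBTop
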