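import Mathlib
import Cfsg.Agent.H423.PG
import Cfsg.Agent.H423.GBTop
import Cfsg.Agent.H423.GBStar
import Cfsg.Agent.H388.Rad
import Cfsg.Agent.H421.Coclique
import Cfsg.Prelude.Def_KGroupFacts
import Cfsg.Agent.S0205
import Cfsg.Agent.SolvableStructure.HallConverse
import Cfsg.Agent.SignalizersComponents.ComponentExists

/-!
# Six prime divisors, five of them pairwise nonadjacent: structure modulo the solvable radical (helper423)

`Ctx G v ρ R S` : `R` is the solvable radical, `S` the (unique, simple, nonabelian) minimal normal subgroup of `G ⧸ R`;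
`exists_ctx`; `Ctx.subset` : every prime of `ρ` divides the order of `S`.
-/

set_option autoImplicit false

namespace Cfsg.Agent.H423.GBRad

open Subgroup Cfsg.Agent.H423.PG Cfsg.Agent.H388.Rad

universe u

/-- outer automorphism groups of simple groups are solvable -/
def OutSolv : Prop := ∀ (T : Type u) [Group T] [Finite T] [IsSimpleGroup T], Group.IsSolvable (Cfsg.Out T)

/-- the fixed points of a coprime group of automorphisms of a nonsolvable group are not nilpotent -/
def CopFix : Prop := ∀ (X : Type u) [Group X] [Finite X] (A G : Subgroup X), A ≤ normalizer (G : Set X) →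
  (Nat.card A).Coprime (Nat.card G) → ¬ Group.IsSolvable G → ¬ Group.IsNilpotent ↥(G ⊓ centralizer (A : Set X))

/-- An automorphism of a normal subgroup with trivial centralizer induced by conjugation with `q` is inner only if
`q` lies in the subgroup. -/
theorem mem_of_conj_mem {Q : Type*} [Group Q] (S : Subgroup Q) [S.Normal]
    (hC : Subgroup.centralizer (S : Set Q) = ⊥) {q : Q} (h : (MulAut.conjNormal q : MulAut S) ∈ Cfsg.Inn S) : q ∈ S := by
  obtain ⟨s, hs⟩ := h
  have h1 : (s : Q)⁻¹ * q ∈ Subgroup.centralizer (S : Set Q) := by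
    rw [Subgroup.mem_centralizer_iff]
    intro t ht
    have h2 := congrArg (fun f : MulAut S => ((f ⟨t, ht⟩ : S) : Q)) hs
    simp only [MulAut.conj_apply, MulAut.conjNormal_apply, Subgroup.coe_mul, Subgroup.coe_inv] at h2
    -- h2 : s * t * s⁻¹ = q * t * q⁻¹
    have h3 : (s : Q) * t = q * t * q⁻¹ * s := by
      rw [← h2]; group
    have h4 : t * ((s : Q)⁻¹ * q) = (s : Q)⁻¹ * ((s : Q) * t) * ((s : Q)⁻¹ * q) := by group
    rw [h4, h3]; group
  rw [hC, Subgroup.mem_bot] at h1
  have h2 : q = s := by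
    have := congrArg (fun x => (s : Q) * x) h1
    simpa using this
  rw [h2]; exact s.2

structure Ctx (G : Type u) [Group G] [Finite G] (v : ℕ) (ρ : Finset ℕ) (R : Subgroup G) [R.Normal]
    (S : Subgroup (G ⧸ R)) : Prop where
  h6 : (Nat.card G).primeFactors.card = 6
  hv : v ∈ (Nat.card G).primeFactors
  hρ : ρ = (Nat.card G).primeFactors.erase v
  hco : ∀ r ∈ ρ, ∀ s ∈ ρ, r ≠ s → ¬ Adj G r s
  hRs : Group.IsSolvable R
  hSn : S.Normal
  hSs : IsSimpleGroup S
  hSna : ¬ IsMulCommutative S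
  hC : centralizer (S : Set (G ⧸ R)) = ⊥

theorem three_le_of_nonsolvable {T : Type u} [Group T] [Finite T] (h : ¬ Group.IsSolvable T) :
    3 ≤ (Nat.card T).primeFactors.card := by
  by_contra hlt
  exact h (SolvableStructure.HallConverse.isSolvable_of_no_three_primes (by omega))

theorem not_solvable_of_simple {T : Type u} [Group T] [IsSimpleGroup T] (h : ¬ IsMulCommutative T) :
    ¬ Group.IsSolvable T := fun hs => h ⟨⟨IsSimpleGroup.comm_iff_isSolvable.2 hs⟩⟩

theorem exists_ctx {G : Type u} [Group G] [Finite G] (h6 : (Nat.card G).primeFactors.card = 6) {v : ℕ}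
    (hv : v ∈ (Nat.card G).primeFactors) {ρ : Finset ℕ} (hρ : ρ = (Nat.card G).primeFactors.erase v)
    (hco : ∀ r ∈ ρ, ∀ s ∈ ρ, r ≠ s → ¬ Adj G r s) :
    ∃ (R : Subgroup G) (_ : R.Normal) (S : Subgroup (G ⧸ R)), Ctx G v ρ R S := by
  classical
  have h5 : ρ.card = 5 := by rw [hρ, Finset.card_erase_of_mem hv, h6]
  obtain ⟨R, hRc, hRs, hRmax⟩ := SignalizersComponents.ComponentExists.exists_solvableRadical G
  have hRn : R.Normal := inferInstance
  have hmem : ∀ r, r.Prime → r ∣ Nat.card G → r ≠ v → r ∈ ρ := by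
    intro r hr hd hne
    rw [hρ]
    exact Finset.mem_erase.2 ⟨hne, mem_pf hr hd⟩
  have hρp : ∀ r ∈ ρ, r.Prime ∧ r ∣ Nat.card G := by
    intro r hr
    rw [hρ] at hr
    have h1 := Finset.mem_of_mem_erase hr
    exact ⟨Nat.prime_of_mem_primeFactors h1, Nat.dvd_of_mem_primeFactors h1⟩
  have hns : ¬ Group.IsSolvable G := by
    intro hs
    obtain ⟨r, hr, s, hs', hrs⟩ := Finset.one_lt_card.1 (show 1 < ρ.card by omega)
    have htop : Group.IsSolvable (⊤ : Subgroup G) :=
      Group.isSolvable_of_isSolvable_injective (f := (Subgroup.topEquiv (G := G)).toMonoidHom)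
        (Subgroup.topEquiv (G := G)).injective
    have hcov : ∀ r ∈ ρ, r ∣ Nat.card (⊤ : Subgroup G) * (⊤ : Subgroup G).index := by
      intro r hr
      rw [Subgroup.card_top]
      exact (hρp r hr).2.mul_right _
    exact hrs (H421.Coclique.coclique_sections (⊤ : Subgroup G) ⊤ le_rfl htop inferInstance ρ (by omega) hρp hco
      hr hs' (hcov r hr) (hcov s hs'))
  have htriv : TrivRad (G ⧸ R) := trivRad_quotient R hRs hRmax
  have hnt : Nontrivial (G ⧸ R) := by
    rw [QuotientGroup.nontrivial_iff]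
    rintro rfl
    exact hns (Group.isSolvable_of_isSolvable_injective (f := (Subgroup.topEquiv (G := G)).symm.toMonoidHom)
      (Subgroup.topEquiv (G := G)).symm.injective)
  obtain ⟨S, hSn, hSs, hSna, hC⟩ := almost_simple_of_subsingleton htriv (by
    intro T₁ h1 T₂ h2
    by_contra hne
    have hs1 := h1.2
    have hs2 := h2.2
    have hn1 := not_solvable_of_simple (om_not_comm h1)
    have hn2 := not_solvable_of_simple (om_not_comm h2)
    have hc1 := three_le_of_nonsolvable hn1
    have hc2 := three_le_of_nonsolvable hn2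
    obtain ⟨r, hr, hrv⟩ : ∃ r ∈ (Nat.card T₁).primeFactors, r ≠ v := by
      by_contra hcon
      push Not at hcon
      have : (Nat.card T₁).primeFactors ⊆ {v} := fun r hr => Finset.mem_singleton.2 (hcon r hr)
      have := Finset.card_le_card this
      rw [Finset.card_singleton] at this
      omega
    obtain ⟨t, ht, htv, htr⟩ : ∃ t ∈ (Nat.card T₂).primeFactors, t ≠ v ∧ t ≠ r := by
      by_contra hcon
      push Not at hcon
      have : (Nat.card T₂).primeFactors ⊆ {v, r} := by
        intro t ht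
        rw [Finset.mem_insert, Finset.mem_singleton]
        by_cases h : t = v
        · exact Or.inl h
        · exact Or.inr (hcon t ht h)
      have := Finset.card_le_card this
      have h3 : ({v, r} : Finset ℕ).card ≤ 2 := Finset.card_le_two
      omega
    have hrp := Nat.prime_of_mem_primeFactors hr
    have htp := Nat.prime_of_mem_primeFactors ht
    have hadj : Adj (G ⧸ R) r t := adj_of_commute_subgroups (A := T₁) (B := T₂)
      (fun a ha b hb => om_commute h1 h2 hne ha hb) hrp htp (Ne.symm htr) (Nat.dvd_of_mem_primeFactors hr)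
      (Nat.dvd_of_mem_primeFactors ht)
    have hadj' := hadj.of_quotient
    exact hco r (hmem r hrp hadj'.left_dvd hrv) t (hmem t htp hadj'.right_dvd htv) (Ne.symm htr) hadj')
  exact ⟨R, hRn, S, ⟨h6, hv, hρ, hco, hRs, hSn, hSs, hSna, hC⟩⟩

namespace Ctx

variable {G : Type u} [Group G] [Finite G] {v : ℕ} {ρ : Finset ℕ} {R : Subgroup G} [R.Normal]
  {S : Subgroup (G ⧸ R)}

theorem mem (c : Ctx G v ρ R S) {r : ℕ} (hr : r.Prime) (hd : r ∣ Nat.card G) (hne : r ≠ v) : r ∈ ρ := by
  rw [c.hρ]
  exact Finset.mem_erase.2 ⟨hne, mem_pf hr hd⟩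

theorem prime (c : Ctx G v ρ R S) {r : ℕ} (hr : r ∈ ρ) : r.Prime := by
  rw [c.hρ] at hr
  exact Nat.prime_of_mem_primeFactors (Finset.mem_of_mem_erase hr)

theorem dvd (c : Ctx G v ρ R S) {r : ℕ} (hr : r ∈ ρ) : r ∣ Nat.card G := by
  rw [c.hρ] at hr
  exact Nat.dvd_of_mem_primeFactors (Finset.mem_of_mem_erase hr)

theorem ne (c : Ctx G v ρ R S) {r : ℕ} (hr : r ∈ ρ) : r ≠ v := by
  rw [c.hρ] at hr
  exact Finset.ne_of_mem_erase hr

theorem card (c : Ctx G v ρ R S) : ρ.card = 5 := by rw [c.hρ, Finset.card_erase_of_mem c.hv, c.h6]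

omit [Finite G] in
theorem card_quot_dvd (R : Subgroup G) [R.Normal] : Nat.card (G ⧸ R) ∣ Nat.card G := by
  rw [← Subgroup.index_eq_card]
  exact R.index_dvd_card

omit [Finite G] in
theorem card_S_dvd (S : Subgroup (G ⧸ R)) : Nat.card S ∣ Nat.card G :=
  (Subgroup.card_subgroup_dvd_card S).trans (card_quot_dvd R)

theorem hns (c : Ctx G v ρ R S) : ¬ Group.IsSolvable S := by
  have := c.hSs
  exact not_solvable_of_simple c.hSna

theorem two_dvd (c : Ctx G v ρ R S) : 2 ∣ Nat.card S := by
  by_contra h2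
  exact c.hns (Cfsg.Agent.S0205.result (Nat.not_even_iff_odd.1 fun h3 => h2 (even_iff_two_dvd.1 h3)))

/-- at most one prime of `ρ` divides `|R| |G/R : S|` -/
theorem sections (hO : OutSolv.{u}) (c : Ctx G v ρ R S) {r s : ℕ} (hr : r ∈ ρ) (hs : s ∈ ρ) (hrd : r ∣ Nat.card R * S.index)
    (hsd : s ∣ Nat.card R * S.index) : r = s := by
  have hSn := c.hSn
  have hSs := c.hSs
  have hOut : Group.IsSolvable (Cfsg.Out S) := hO S
  have hfin : Finite (MulAut S) := Finite.of_injective (fun f : MulAut S => (f : S → S)) DFunLike.coe_injective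
  let f : G →* Cfsg.Out S :=
    ((QuotientGroup.mk' (Cfsg.Inn S)).comp (MulAut.conjNormal : (G ⧸ R) →* MulAut S)).comp (QuotientGroup.mk' R)
  have hker : f.ker ≤ S.comap (QuotientGroup.mk' R) := by
    intro g hg
    rw [MonoidHom.mem_ker] at hg
    have h1 : (QuotientGroup.mk' (Cfsg.Inn S)) ((MulAut.conjNormal : (G ⧸ R) →* MulAut S) (QuotientGroup.mk' R g)) = 1 := hg
    rw [QuotientGroup.mk'_apply, QuotientGroup.eq_one_iff] at h1
    exact mem_of_conj_mem S c.hC h1
  have hsol : Group.IsSolvable (G ⧸ S.comap (QuotientGroup.mk' R)) := by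
    have h1 : Group.IsSolvable (G ⧸ f.ker) :=
      Group.isSolvable_of_isSolvable_injective (f := QuotientGroup.kerLift f) (QuotientGroup.kerLift_injective f)
    exact Group.isSolvable_of_surjective
      (f := QuotientGroup.map f.ker (S.comap (QuotientGroup.mk' R)) (MonoidHom.id G) hker)
      (by
        intro x
        obtain ⟨g, rfl⟩ := QuotientGroup.mk_surjective x
        exact ⟨(g : G ⧸ f.ker), rfl⟩)
  have hKM : R ≤ S.comap (QuotientGroup.mk' R) := by
    intro k hk
    rw [Subgroup.mem_comap, QuotientGroup.mk'_apply, (QuotientGroup.eq_one_iff k).mpr hk]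
    exact one_mem _
  have hidx : (S.comap (QuotientGroup.mk' R)).index = S.index :=
    Subgroup.index_comap_of_surjective S (QuotientGroup.mk'_surjective R)
  refine Cfsg.Agent.H421.Coclique.coclique_sections R (S.comap (QuotientGroup.mk' R)) hKM c.hRs hsol ρ
    (by rw [c.card]; norm_num) (fun r hr => ⟨c.prime hr, c.dvd hr⟩) c.hco hr hs ?_ ?_
  · rw [hidx]; exact hrd
  · rw [hidx]; exact hsd

omit [Finite G] in
theorem card_mul (S : Subgroup (G ⧸ R)) : Nat.card G = Nat.card R * S.index * Nat.card S := by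
  have h1 := R.card_mul_index
  have h2 := S.card_mul_index
  rw [Subgroup.index_eq_card] at h1
  rw [← h1, ← h2]
  ring

/-- a prime of `ρ` dividing the order of the quotient divides the order of `S` -/
theorem dvd_S_of_dvd_quot (hK : CopFix.{u}) (c : Ctx G v ρ R S) {s : ℕ} (hs : s ∈ ρ)
    (hd : s ∣ Nat.card (G ⧸ R)) : s ∣ Nat.card S := by
  by_contra hnd
  have hSn := c.hSn
  have hsp := c.prime hs
  have : Fact s.Prime := ⟨hsp⟩
  obtain ⟨x, hx⟩ := exists_prime_orderOf_dvd_card' s hd
  have hcard : Nat.card (zpowers x) = s := by rw [Nat.card_zpowers, hx]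
  refine hK (G ⧸ R) (zpowers x) S (by rw [Subgroup.normalizer_eq_top]; exact le_top) (by
      rw [hcard]
      exact (Nat.Prime.coprime_iff_not_dvd hsp).2 hnd) c.hns ?_
  -- a `v`-group
  have hvp := Nat.prime_of_mem_primeFactors c.hv
  have hfv : Fact v.Prime := ⟨hvp⟩
  have hpg : IsPGroup v ↥(S ⊓ centralizer ((zpowers x : Subgroup (G ⧸ R)) : Set (G ⧸ R))) := by
    rw [IsPGroup.iff_card]
    refine ⟨_, Nat.eq_prime_pow_of_unique_prime_dvd Nat.card_pos.ne' ?_⟩
    intro r hr hrd
    have : Fact r.Prime := ⟨hr⟩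
    by_contra hne
    obtain ⟨y, hy⟩ := exists_prime_orderOf_dvd_card' r hrd
    have hyS := (Subgroup.mem_inf.1 y.2).1
    have hyC := (Subgroup.mem_inf.1 y.2).2
    have hrs : r ≠ s := by
      rintro rfl
      exact hnd (hrd.trans (Subgroup.card_dvd_of_le inf_le_left))
    have hadj : Adj (G ⧸ R) s r := adj_of_commute hsp hr (Ne.symm hrs) hx
      (by rw [Subgroup.orderOf_coe, hy]) (mem_centralizer_iff.1 hyC x (mem_zpowers x))
    have hadj' := hadj.of_quotient
    exact c.hco s hs r (c.mem hr hadj'.right_dvd hne) (Ne.symm hrs) hadj'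
  exact hpg.isNilpotent

end Ctx

/-- **Inverting involution**: `s` odd divides `|R|`, `R` normal solvable, and `2`, `s`, `r` are pairwise nonadjacent;
`r` divides `|G : R|`, `2` too: impossible. -/
theorem no_two {G : Type u} [Group G] [Finite G] (R : Subgroup G) [R.Normal] {s r : ℕ} (hs : s.Prime) (hr : r.Prime)
    (hrs : r ≠ s) (hs2 : s ≠ 2) (hr2 : r ≠ 2) (h1 : ¬ Adj G 2 s) (h2 : ¬ Adj G 2 r) (h3 : ¬ Adj G r s)
    (hsR : s ∣ Nat.card R) (hrq : r ∣ Nat.card (G ⧸ R)) (h2q : 2 ∣ Nat.card (G ⧸ R)) : False := by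
  classical
  have : Fact s.Prime := ⟨hs⟩
  have : Fact r.Prime := ⟨hr⟩
  have : Fact (Nat.Prime 2) := ⟨Nat.prime_two⟩
  let P0 : Sylow s R := default
  let P : Subgroup G := (P0 : Subgroup R).map R.subtype
  have hfrat : normalizer (P : Set G) ⊔ R = ⊤ := Sylow.normalizer_sup_eq_top P0
  have hPp : IsPGroup s P := P0.isPGroup'.map _
  have hsP : s ∣ Nat.card P := by
    rw [Subgroup.card_map_of_injective R.subtype_injective]
    exact P0.dvd_card_of_dvd_card hsR
  -- elements of prime order in the normalizer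
  have key : ∀ q : ℕ, q.Prime → q ∣ Nat.card (G ⧸ R) → ∃ x ∈ normalizer (P : Set G), orderOf x = q := by
    intro q hq hqd
    have : Fact q.Prime := ⟨hq⟩
    have h4 : R.index ∣ Nat.card (normalizer (P : Set G)) := by
      have h5 : R.relIndex (normalizer (P : Set G)) = R.index := by
        rw [← Subgroup.relIndex_sup_right, hfrat, Subgroup.relIndex_top_right]
      rw [← h5]
      exact Subgroup.relIndex_dvd_card R _
    rw [Subgroup.index_eq_card] at h4
    obtain ⟨x, hx⟩ := exists_prime_orderOf_dvd_card' q (hqd.trans h4)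
    exact ⟨x, x.2, by rw [Subgroup.orderOf_coe, hx]⟩
  obtain ⟨t, htN, hto⟩ := key 2 Nat.prime_two h2q
  obtain ⟨x, hxN, hxo⟩ := key r hr hrq
  -- every element of `P` commuting with `t` or `x` is trivial
  have hadj : ∀ (q : ℕ) (_ : q.Prime) (_ : q ≠ s) (_ : ¬ Adj G q s) (y : G) (_ : orderOf y = q) (a : G) (_ : a ∈ P)
      (_ : Commute y a), a = 1 := by
    intro q hq hqs hno y hy a ha hc
    by_contra ha1
    apply hno
    have h4 : s ∣ orderOf a := by
      have h5 := (hPp.to_le (zpowers_le.2 ha) : IsPGroup s (zpowers a))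
      obtain ⟨n, hn⟩ := IsPGroup.iff_card.1 h5
      rw [Nat.card_zpowers] at hn
      rw [hn]
      refine dvd_pow_self s ?_
      rintro rfl
      rw [pow_zero, orderOf_eq_one_iff] at hn
      exact ha1 hn
    obtain ⟨k, hk⟩ := exists_pow_orderOf h4
    exact adj_of_commute hq hs hqs hy hk (hc.pow_right k)
  -- `t` inverts `P`
  let σ : MulAut P := P.normalizerMonoidHom ⟨t, htN⟩
  have hσ : ∀ a : P, ((σ a : P) : G) = t * a * t⁻¹ := fun a => rfl
  have ht2 : t * t = 1 := by
    have := pow_orderOf_eq_one t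
    rw [hto, pow_two] at this
    exact this
  have hinv : ∀ a : P, σ a = a⁻¹ := by
    have hfp : MonoidHom.FixedPointFree (σ : P →* P) := by
      intro a ha
      apply Subtype.ext
      apply hadj 2 Nat.prime_two (Ne.symm hs2) h1 t hto a a.2
      have h4 : t * a * t⁻¹ = a := congrArg Subtype.val ha
      exact mul_inv_eq_iff_eq_mul.1 h4
    have h4 := hfp.coe_eq_inv_of_involutive (by
      intro a
      apply Subtype.ext
      change t * (t * a * t⁻¹) * t⁻¹ = a
      have h5 : t * (t * a * t⁻¹) * t⁻¹ = (t * t) * a * (t * t)⁻¹ := by group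
      rw [h5, ht2]; group)
    intro a
    exact congrFun h4 a
  have hinv' : ∀ a ∈ P, t * a * t⁻¹ = a⁻¹ := fun a ha => congrArg Subtype.val (hinv ⟨a, ha⟩)
  -- the commutator of `t` and `x` centralises `P`
  set C : Subgroup G := centralizer (P : Set G) with hCdef
  have hcen : ∀ y ∈ normalizer (P : Set G), t * y * t⁻¹ * y⁻¹ ∈ C := by
    intro y hy
    rw [hCdef, mem_centralizer_iff]
    intro a ha
    have h4 : y⁻¹ * a * y ∈ P := by
      have := (mem_normalizer_iff'' (H := P)).1 hy a
      exact this.1 ha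
    have h5 : y * (t⁻¹ * (y⁻¹ * a * y) * t) * y⁻¹ = a⁻¹ := by
      have h6 : t⁻¹ * (y⁻¹ * a * y) * t = (y⁻¹ * a * y)⁻¹ := by
        have h7 := hinv' _ (P.inv_mem h4)
        rw [inv_inv] at h7
        have h8 : t⁻¹ * (t * (y⁻¹ * a * y)⁻¹ * t⁻¹) * t = (y⁻¹ * a * y)⁻¹ := by group
        rw [h7] at h8
        exact h8
      rw [h6]; group
    have h6 := hinv' _ (P.inv_mem ha)
    rw [inv_inv] at h6
    -- `[t, y] a [t, y]⁻¹ = a` with `b = y t⁻¹ (y⁻¹ a y) t y⁻¹`
    have h9 : t * y * t⁻¹ * y⁻¹ * a * (t * y * t⁻¹ * y⁻¹)⁻¹ = t * (y * (t⁻¹ * (y⁻¹ * a * y) * t) * y⁻¹) * t⁻¹ := by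
      group
    rw [h5, h6] at h9
    exact (mul_inv_eq_iff_eq_mul.1 h9).symm
  have hCn : ∀ y ∈ normalizer (P : Set G), ∀ c ∈ C, y * c * y⁻¹ ∈ C := by
    intro y hy c hc
    rw [hCdef, mem_centralizer_iff] at hc ⊢
    intro a ha
    have h4 : y⁻¹ * a * y ∈ P := ((mem_normalizer_iff'' (H := P)).1 hy a).1 ha
    have h5 := hc _ h4
    have h6 : a * (y * c * y⁻¹) = y * ((y⁻¹ * a * y) * c) * y⁻¹ := by group
    rw [h6, h5]; group
  -- the subgroup `N = N_G(P)` and its quotient by `C`
  let N : Subgroup G := normalizer (P : Set G)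
  have hCN : C ≤ N := by
    intro c hc
    rw [mem_normalizer_iff]
    rw [hCdef, mem_centralizer_iff] at hc
    intro a
    constructor
    · intro ha
      rw [← hc a ha, mul_inv_cancel_right]; exact ha
    · intro ha
      have h4 := hc _ ha
      have h5 : a = c * a * c⁻¹ := by
        have h6 : c * a * c⁻¹ * c = c * a := by group
        rw [h6] at h4
        exact mul_left_cancel h4
      rw [h5]; exact ha
  let CN : Subgroup N := C.subgroupOf N
  have hCNn : CN.Normal := by
    refine ⟨fun c hc y => ?_⟩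
    rw [mem_subgroupOf] at hc ⊢
    exact hCn y y.2 c hc
  let π : N →* N ⧸ CN := QuotientGroup.mk' CN
  -- orders modulo `C`
  have hmodC : ∀ q : ℕ, q.Prime → q ≠ s → ¬ Adj G q s → ∀ y : N, orderOf y = q → orderOf (π y) = q := by
    intro q hq hqs hno y hy
    have : Fact q.Prime := ⟨hq⟩
    refine orderOf_eq_prime (by rw [← map_pow, ← hy, pow_orderOf_eq_one, map_one]) ?_
    intro h4
    have h5 : y ∈ CN := (QuotientGroup.eq_one_iff y).1 h4
    rw [mem_subgroupOf, hCdef, mem_centralizer_iff] at h5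
    have hPne : P ≠ ⊥ := by
      intro hb
      rw [hb, Subgroup.card_bot] at hsP
      exact hs.one_lt.ne' (Nat.dvd_one.1 hsP)
    obtain ⟨a, ha⟩ := Subgroup.ne_bot_iff_exists_ne_one.1 hPne
    apply ha
    apply Subtype.ext
    exact hadj q hq hqs hno y (by rw [Subgroup.orderOf_coe, hy]) a a.2 (h5 a a.2).symm
  have htπ := hmodC 2 Nat.prime_two (Ne.symm hs2) h1 ⟨t, htN⟩ (by rw [← Subgroup.orderOf_coe]; exact hto)
  have hxπ := hmodC r hr hrs h3 ⟨x, hxN⟩ (by rw [← Subgroup.orderOf_coe]; exact hxo)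
  have hcomm : Commute (π ⟨t, htN⟩) (π ⟨x, hxN⟩) := by
    have h4 : π (⟨t, htN⟩ * ⟨x, hxN⟩ * ⟨t, htN⟩⁻¹ * ⟨x, hxN⟩⁻¹) = 1 := by
      refine (QuotientGroup.eq_one_iff _).2 ?_
      rw [mem_subgroupOf]
      exact hcen x hxN
    rw [map_mul, map_mul, map_mul, map_inv, map_inv, mul_inv_eq_one, mul_inv_eq_iff_eq_mul] at h4
    exact h4
  have hfinal : Adj (N ⧸ CN) 2 r := adj_of_commute Nat.prime_two hr (Ne.symm hr2) htπ hxπ hcomm
  exact h2 hfinal.of_quotient.of_subgroup

namespace Ctx

variable {G : Type u} [Group G] [Finite G] {v : ℕ} {ρ : Finset ℕ} {R : Subgroup G} [R.Normal]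
  {S : Subgroup (G ⧸ R)}

theorem not_adj_of_sub (c : Ctx G v ρ R S) {r s : ℕ} (hr : r ∈ ρ) (hs : s ∈ ρ) (hrs : r ≠ s) :
    ¬ Adj S r s := fun h => c.hco r hr s hs hrs h.of_subgroup.of_quotient

theorem dvd_S_of_ne (hO : OutSolv.{u}) (c : Ctx G v ρ R S) {s r : ℕ} (hs : s ∈ ρ) (hsd : s ∣ Nat.card R * S.index) (hr : r ∈ ρ)
    (hrs : r ≠ s) : r ∣ Nat.card S := by
  have h1 := c.dvd hr
  rw [card_mul S] at h1
  rcases (c.prime hr).dvd_mul.1 h1 with h | h
  · exact absurd (c.sections hO hr hs h hsd) hrs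
  · exact h

/-- the primes of `ρ` divide the order of `S` -/
theorem subset (hO : OutSolv.{u}) (hK : CopFix.{u}) (c : Ctx G v ρ R S) {s : ℕ} (hs : s ∈ ρ) : s ∣ Nat.card S := by
  classical
  by_contra hnd
  have hsp := c.prime hs
  have hnq : ¬ s ∣ Nat.card (G ⧸ R) := fun h => hnd (c.dvd_S_of_dvd_quot hK hs h)
  have hsR : s ∣ Nat.card R := by
    have h1 := c.dvd hs
    rw [← R.card_mul_index, Subgroup.index_eq_card] at h1
    exact (hsp.dvd_mul.1 h1).resolve_right hnq
  have hs2 : s ≠ 2 := by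
    rintro rfl
    exact hnd c.two_dvd
  have hSs := c.hSs
  have hSq : Nat.card S ∣ Nat.card (G ⧸ R) := Subgroup.card_subgroup_dvd_card S
  -- four other primes of `ρ`
  have hoth : ∀ r ∈ ρ, r ≠ s → r ∣ Nat.card S := fun r hr hrs => c.dvd_S_of_ne hO hs (hsR.mul_right _) hr hrs
  by_cases hv2 : v = 2
  · -- the chief factor
    have hR2 : ¬ IsPGroup 2 R := by
      intro h
      have : Fact (Nat.Prime 2) := ⟨Nat.prime_two⟩
      obtain ⟨n, hn⟩ := IsPGroup.iff_card.1 h
      rw [hn] at hsR
      exact hs2 ((Nat.prime_dvd_prime_iff_eq hsp Nat.prime_two).1 (hsp.dvd_of_dvd_pow hsR))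
    obtain ⟨K, hKn, t, V, _, _, _, ψ, hKR, hK2, ht, ht2, htR, hVt, hfp⟩ := GBTop.exists_top_odd R c.hRs hR2
    have htρ : t ∈ ρ := c.mem ht (htR.trans (Subgroup.card_subgroup_dvd_card R)) (by rw [hv2]; exact ht2)
    have hts : t = s := c.sections hO htρ hs (htR.mul_right _) (hsR.mul_right _)
    subst hts
    have hcyc : ∀ (p : ℕ) (P : Sylow p S), p.Prime → p ≠ 2 → IsCyclic P := by
      intro p P hp hp2
      have : Fact p.Prime := ⟨hp⟩
      by_cases hpS : p ∣ Nat.card S
      · have hpt : p ≠ t := by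
          rintro rfl
          exact hnd hpS
        have hpρ : p ∈ ρ := c.mem hp (hpS.trans (card_S_dvd S)) (by rw [hv2]; exact hp2)
        have hfpp := hfp p hp hpt (fun g hg => c.hco p hpρ t htρ hpt ⟨g, hg⟩)
        have hcQ := fun Q hQ => GBTop.fpf_cyclic ψ ht hp hp2 hpt hVt hfpp Q hQ
        -- the image of a Sylow subgroup of `G ⧸ K`
        let φ : G ⧸ K →* G ⧸ R := QuotientGroup.map K R (MonoidHom.id G) hKR
        have hφ : Function.Surjective φ := by
          intro y
          obtain ⟨g, rfl⟩ := QuotientGroup.mk'_surjective R y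
          exact ⟨(g : G ⧸ K), rfl⟩
        have hP' : IsPGroup p ((P : Subgroup S).map S.subtype) := P.isPGroup'.map _
        obtain ⟨P1, hP1⟩ := hP'.exists_le_sylow
        obtain ⟨Q, hQ⟩ := Sylow.mapSurjective_surjective hφ p P1
        have hQc : IsCyclic (Q : Subgroup (G ⧸ K)) := hcQ Q Q.isPGroup'
        have hP1c : IsCyclic (P1 : Subgroup (G ⧸ R)) := by
          rw [← hQ]
          exact isCyclic_of_surjective (φ.subgroupMap (Q : Subgroup (G ⧸ K))) (φ.subgroupMap_surjective _)
        have h4 : IsCyclic ↥((P : Subgroup S).map S.subtype) :=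
          isCyclic_of_injective (Subgroup.inclusion hP1) (Subgroup.inclusion_injective hP1)
        exact isCyclic_of_injective ((P : Subgroup S).equivMapOfInjective S.subtype S.subtype_injective).toMonoidHom
          ((P : Subgroup S).equivMapOfInjective S.subtype S.subtype_injective).injective
      · have hbot : (P : Subgroup S) = ⊥ := by
          rw [← Subgroup.card_eq_one]
          obtain ⟨n, hn⟩ := IsPGroup.iff_card.1 P.isPGroup'
          rcases Nat.eq_zero_or_pos n with h0 | h0
          · rw [hn, h0, pow_zero]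
          · exfalso
            apply hpS
            have h1 := Subgroup.card_subgroup_dvd_card (P : Subgroup S)
            rw [hn] at h1
            exact (dvd_pow_self p h0.ne').trans h1
        rw [hbot]
        infer_instance
    have hsub : ρ.erase t ⊆ (Nat.card S).primeFactors := by
      intro r hr
      rw [Finset.mem_erase] at hr
      exact mem_pf (c.prime hr.2) (hoth r hr.2 hr.1)
    refine GBStar.not_four c.hSna hcyc ?_ hsub ?_ ?_ ?_
    · intro hcard
      have h1 : ({2, 3, 5, 7, 11, 19} : Finset ℕ) ⊆ (Nat.card S).primeFactors := by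
        rw [hcard]
        decide +kernel
      have h2 : (Nat.card S).primeFactors ⊆ (Nat.card G).primeFactors :=
        Nat.primeFactors_mono (card_S_dvd S) Nat.card_pos.ne'
      have h3 : (Nat.card S).primeFactors = (Nat.card G).primeFactors := by
        apply Finset.eq_of_subset_of_card_le h2
        rw [c.h6]
        have := Finset.card_le_card h1
        simpa using this
      have h4 : t ∈ (Nat.card G).primeFactors := mem_pf ht (c.dvd hs)
      rw [← h3] at h4
      exact hnd (Nat.dvd_of_mem_primeFactors h4)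
    · rw [Finset.card_erase_of_mem hs, c.card]
    · intro h
      exact c.ne (Finset.mem_of_mem_erase h) hv2.symm
    · intro r hr r' hr' hne
      exact c.not_adj_of_sub (Finset.mem_of_mem_erase hr) (Finset.mem_of_mem_erase hr') hne
  · have h2ρ : 2 ∈ ρ := c.mem Nat.prime_two (c.two_dvd.trans (card_S_dvd S)) (Ne.symm hv2)
    obtain ⟨r, hr, hrs, hr2⟩ : ∃ r ∈ ρ, r ≠ s ∧ r ≠ 2 := by
      by_contra hcon
      push Not at hcon
      have : ρ ⊆ {s, 2} := by
        intro r hr
        rw [Finset.mem_insert, Finset.mem_singleton]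
        by_cases h : r = s
        · exact Or.inl h
        · exact Or.inr (hcon r hr h)
      have h1 := Finset.card_le_card this
      have h3 : ({s, 2} : Finset ℕ).card ≤ 2 := Finset.card_le_two
      rw [c.card] at h1
      omega
    exact no_two R hsp (c.prime hr) hrs hs2 hr2 (c.hco 2 h2ρ s hs (Ne.symm hs2)) (c.hco 2 h2ρ r hr (Ne.symm hr2))
      (c.hco r hr s hs hrs) hsR ((hoth r hr hrs).trans hSq) (c.two_dvd.trans hSq)

theorem five (hO : OutSolv.{u}) (hK : CopFix.{u}) (c : Ctx G v ρ R S) : Five S := by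
  refine ⟨?_, ρ, ?_, c.card, fun r hr s hs hrs => c.not_adj_of_sub hr hs hrs⟩
  · rw [← c.h6]
    exact Finset.card_le_card (Nat.primeFactors_mono (card_S_dvd S) Nat.card_pos.ne')
  · intro r hr
    exact mem_pf (c.prime hr) (c.subset hO hK hr)

end Ctx

end Cfsg.Agent.H423.GBRad
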