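import Mathlib
import Cfsg.Agent.H71.FldAut
import Cfsg.Agent.ChevStructure.FieldMap
import Cfsg.Agent.S1069
import Cfsg.Agent.S1157
import Cfsg.Agent.S1159

/-!
# Facts on the Ree group over the field with 27 elements (helper423)
-/

set_option autoImplicit false

namespace Cfsg.Agent.H423.GBRee

open Cfsg.Lie Cfsg.Agent.ChevStructure.FieldMap

section words

/-- Homomorphisms of fields and words. -/
theorem map_genSubgroup_le (D : ChevalleyDatum) {F : Type*} [Field F] {K : Type*} [Field K] (f : F →+* K)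
    {S₀ : Set (List (ℕ × F))} {S : Set (List (ℕ × K))} (h : ∀ w ∈ S₀, (w.map fun p => (p.1, f p.2)) ∈ S) :
    (D.genSubgroup F S₀).map (Matrix.GeneralLinearGroup.map f) ≤ D.genSubgroup K S := by
  unfold ChevalleyDatum.genSubgroup
  rw [MonoidHom.map_closure]
  refine Subgroup.closure_mono ?_
  rintro _ ⟨g, ⟨w, hw, hg⟩, rfl⟩
  refine ⟨_, h w hw, ?_⟩
  show (g : Matrix D.Idx D.Idx F).map f = _
  rw [hg]
  exact wordMat_map D f w

theorem words_g2 {E : Type*} [Field E] {F : Type*} [Field F] (f : E →+* F) (e : ℕ) :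
    (twistedG2 E e).map (Matrix.GeneralLinearGroup.map f) ≤ twistedG2 F e := by
  refine map_genSubgroup_le chevG2 f ?_
  rintro w ⟨t, u, v, h⟩
  refine ⟨f t, f u, f v, ?_⟩
  rcases h with rfl | rfl
  · left; simp [reeWordU]
  · right; simp [reeWordV, reeWordU, ChevalleyDatum.negWord]

theorem twistedG2_congr {E : Type*} [Field E] {e e₀ : ℕ} (h : ∀ x : E, x ^ e = x ^ e₀) :
    twistedG2 E e = twistedG2 E e₀ := by
  have h1 : ∀ t u v : E, reeWordU e t u v = reeWordU e₀ t u v := by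
    intro t u v
    simp only [reeWordU, pow_succ, pow_mul', h]
  unfold twistedG2 g2Words reeWordV
  simp only [h1]

end words

theorem cube (x : ZMod 3) : x ^ 3 ^ 1 = x ^ 3 ^ 0 := by
  revert x
  decide

/-- a field automorphism fixes an element of order 7 -/
theorem exists_seven {K : Type*} [Field K] [Fintype K] (hK : Fintype.card K = 27) (τ : K ≃+* K) :
    ∃ y : ↥(twistedG2 K (3 ^ 1)), orderOf y = 7 ∧ S2127.fld τ (3 ^ 1) y = y := by
  have h3 : Fact (Nat.Prime 3) := ⟨by norm_num⟩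
  have hc : CharP K 3 := by
    obtain ⟨p, hp⟩ := CharP.exists K
    obtain ⟨n, hpp, hn⟩ := FiniteField.card K p
    have h4 : p ∣ 3 ^ 3 := by
      rw [show (3 : ℕ) ^ 3 = 27 by norm_num, ← hK, hn]
      exact dvd_pow_self p n.ne_zero
    have h5 := (Nat.prime_dvd_prime_iff_eq hpp Nat.prime_three).1 (hpp.dvd_of_dvd_pow h4)
    rw [h5] at hp
    exact hp
  let f : ZMod 3 →+* K := ZMod.castHom (dvd_refl 3) K
  have hcard : Nat.card ↥(twistedG2 (ZMod 3) (3 ^ 1)) = 1512 := by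
    have h4 := S1069.result (K := ZMod 3) (m := 0) (by rw [ZMod.card]; norm_num)
    rw [twistedG2_congr (E := ZMod 3) (e := 3 ^ 1) (e₀ := 3 ^ 0) cube, h4]
    norm_num
  have h7 : Fact (Nat.Prime 7) := ⟨by norm_num⟩
  have hfin : Finite ↥(twistedG2 (ZMod 3) (3 ^ 1)) := Nat.finite_of_card_ne_zero (by rw [hcard]; norm_num)
  obtain ⟨y, hy⟩ := exists_prime_orderOf_dvd_card' (G := ↥(twistedG2 (ZMod 3) (3 ^ 1))) 7 (by rw [hcard]; norm_num)
  have hmem : Matrix.GeneralLinearGroup.map f (y : GL chevG2.Idx (ZMod 3)) ∈ twistedG2 K (3 ^ 1) :=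
    words_g2 f (3 ^ 1) ⟨y, y.2, rfl⟩
  refine ⟨⟨_, hmem⟩, ?_, ?_⟩
  · rw [← Subgroup.orderOf_coe]
    change orderOf (Matrix.GeneralLinearGroup.map f (y : GL chevG2.Idx (ZMod 3))) = 7
    rw [orderOf_injective (Matrix.GeneralLinearGroup.map f) ?_, Subgroup.orderOf_coe, hy]
    intro a b hab
    apply Units.ext
    have h4 := congrArg (fun g : GL chevG2.Idx K => (g : Matrix chevG2.Idx chevG2.Idx K)) hab
    ext i j
    have h5 := congrFun (congrFun h4 i) j
    exact f.injective h5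
  · apply Subtype.ext
    apply Units.ext
    rw [H71.FldAut.coe_fldG]
    ext i j
    change τ (f _) = f _
    exact congrArg (fun g : ZMod 3 →+* K => g ((y : GL chevG2.Idx (ZMod 3)) i j))
      (Subsingleton.elim (((τ : K →+* K)).comp f) f)

/-- the element orders for `q = 27` -/
theorem orders {K : Type*} [Field K] [Fintype K] (hK : Fintype.card K = 27) (d : ℕ) :
    (∃ g : ↥(twistedG2 K (3 ^ 1)), orderOf g = d) ↔ (d ∣ 6 ∨ d ∣ 9 ∨ d ∣ 26 ∨ d ∣ 14 ∨ d ∣ 19 ∨ d ∣ 37) := by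
  have h := S1159.result (K := K) (m := 1) le_rfl (by rw [hK]; norm_num) d
  norm_num at h
  simpa using h

theorem card {K : Type*} [Field K] [Fintype K] (hK : Fintype.card K = 27) :
    Nat.card ↥(twistedG2 K (3 ^ 1)) = 2 ^ 3 * (3 ^ 9 * (7 * (13 * (19 * 37)))) := by
  rw [S1069.result (K := K) (m := 1) (by rw [hK]; norm_num)]
  norm_num

theorem primeFactors : (2 ^ 3 * (3 ^ 9 * (7 * (13 * (19 * 37))))).primeFactors = {2, 3, 7, 13, 19, 37} := by
  have p2 : Nat.Prime 2 := by norm_num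
  have p3 : Nat.Prime 3 := by norm_num
  have p7 : Nat.Prime 7 := by norm_num
  have p13 : Nat.Prime 13 := by norm_num
  have p19 : Nat.Prime 19 := by norm_num
  have p37 : Nat.Prime 37 := by norm_num
  rw [Nat.primeFactors_mul (by norm_num) (by norm_num), Nat.primeFactors_mul (by norm_num) (by norm_num),
    Nat.primeFactors_mul (by norm_num) (by norm_num), Nat.primeFactors_mul (by norm_num) (by norm_num),
    Nat.primeFactors_mul (by norm_num) (by norm_num), Nat.primeFactors_prime_pow (by norm_num) p2,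
    Nat.primeFactors_prime_pow (by norm_num) p3, p7.primeFactors, p13.primeFactors, p19.primeFactors,
    p37.primeFactors]
  rfl

/-- the Sylow 3-subgroups are not cyclic -/
theorem not_cyclic {K : Type*} [Field K] [Fintype K] (hK : Fintype.card K = 27)
    (P : Sylow 3 ↥(twistedG2 K (3 ^ 1))) : ¬ IsCyclic P := by
  intro h
  have h3 : Fact (Nat.Prime 3) := ⟨by norm_num⟩
  have hfin : Finite ↥(twistedG2 K (3 ^ 1)) := Nat.finite_of_card_ne_zero (by rw [card hK]; norm_num)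
  obtain ⟨g, hg⟩ := h.exists_generator
  have h1 : orderOf g = Nat.card P := orderOf_eq_card_of_forall_mem_zpowers hg
  have h2 : 3 ^ 9 ∣ Nat.card P := by
    refine P.pow_dvd_card_of_pow_dvd_card ?_
    rw [card hK]
    exact ⟨2 ^ 3 * (7 * (13 * (19 * 37))), by norm_num⟩
  have h4 := (orders hK (orderOf (g : ↥(twistedG2 K (3 ^ 1))))).1 ⟨g, rfl⟩
  rw [Subgroup.orderOf_coe, h1] at h4
  rcases h4 with h | h | h | h | h | h <;>
  · have := Nat.le_of_dvd (by norm_num) (h2.trans h)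
    norm_num at this

/-- an element of order 7 acting nontrivially on a 2-subgroup -/
theorem exists_act {K : Type*} [Field K] [Fintype K] (hK : Fintype.card K = 27) :
    ∃ (E : Subgroup ↥(twistedG2 K (3 ^ 1))) (x : ↥(twistedG2 K (3 ^ 1))), IsPGroup 2 E ∧ orderOf x = 7 ∧
      (∀ e ∈ E, x * e * x⁻¹ ∈ E) ∧ ∃ e ∈ E, x * e ≠ e * x := by
  have h2 : Fact (Nat.Prime 2) := ⟨by norm_num⟩
  have h7 : Fact (Nat.Prime 7) := ⟨by norm_num⟩
  have hfin : Finite ↥(twistedG2 K (3 ^ 1)) := Nat.finite_of_card_ne_zero (by rw [card hK]; norm_num)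
  let E : Sylow 2 ↥(twistedG2 K (3 ^ 1)) := default
  obtain ⟨hC, hN⟩ := S1157.result (K := K) (m := 1) le_rfl (by rw [hK]; norm_num) E
  obtain ⟨x, hx⟩ := exists_prime_orderOf_dvd_card' (G := ↥(Subgroup.normalizer
    ((E : Subgroup ↥(Cfsg.Lie.twistedG2 K (3 ^ 1))) : Set ↥(Cfsg.Lie.twistedG2 K (3 ^ 1))))) 7 (by rw [hN]; norm_num)
  refine ⟨E, x, E.isPGroup', by rw [Subgroup.orderOf_coe, hx], fun e he => ?_, ?_⟩
  · exact (Subgroup.mem_normalizer_iff.1 x.2 e).1 he
  · by_contra hcon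
    push Not at hcon
    have h3 : (x : ↥(twistedG2 K (3 ^ 1))) ∈ Subgroup.centralizer
        ((E : Subgroup ↥(Cfsg.Lie.twistedG2 K (3 ^ 1))) : Set ↥(Cfsg.Lie.twistedG2 K (3 ^ 1))) := by
      rw [Subgroup.mem_centralizer_iff]
      intro e he
      exact (hcon e he).symm
    rw [hC] at h3
    have h4 : IsPGroup 2 (Subgroup.zpowers (x : ↥(twistedG2 K (3 ^ 1)))) :=
      E.isPGroup'.to_le (Subgroup.zpowers_le.2 h3)
    obtain ⟨n, hn⟩ := IsPGroup.iff_card.1 h4
    rw [Nat.card_zpowers, Subgroup.orderOf_coe, hx] at hn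
    have h5 : 7 ∣ 2 ^ n := by rw [← hn]
    have h6 := (by norm_num : Nat.Prime 7).dvd_of_dvd_pow h5
    omega

end Cfsg.Agent.H423.GBRee
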