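import Mathlib

/-!
# An automorphism of order 7 of a 2-group, irreducible modulo a fixed central subgroup (helper423)

`comm_of_seven`: if `σ⁷ = 1`, `Z` is central and fixed pointwise by `σ`, `P/Z` is elementary abelian, `σ` has no
fixed points on `P/Z` and is irreducible on it, then `P` is abelian.
-/

set_option autoImplicit false

namespace Cfsg.Agent.H423.GBTwo

open scoped commutatorElement

variable {P : Type*} [Group P]

/-- the commutator is multiplicative if commutators are central -/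
theorem comm_mul_left (hc : ∀ a b c : P, Commute ⁅a, b⁆ c) (a b c : P) : ⁅a * b, c⁆ = ⁅a, c⁆ * ⁅b, c⁆ := by
  have h1 : ⁅a * b, c⁆ = a * ⁅b, c⁆ * a⁻¹ * ⁅a, c⁆ := by
    simp only [commutatorElement_def]; group
  rw [h1, (hc b c a).symm.eq, mul_inv_cancel_right, (hc b c ⁅a, c⁆).eq]

theorem comm_mul_right (hc : ∀ a b c : P, Commute ⁅a, b⁆ c) (a b c : P) : ⁅a, b * c⁆ = ⁅a, b⁆ * ⁅a, c⁆ := by
  have h1 : ⁅a, b * c⁆ = ⁅a, b⁆ * (b * ⁅a, c⁆ * b⁻¹) := by
    simp only [commutatorElement_def]; group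
  rw [h1, (hc a c b).symm.eq, mul_inv_cancel_right]

theorem comm_of_seven (σ : MulAut P) (hσ : σ ^ 7 = 1) (Z : Subgroup P) (hZc : ∀ z ∈ Z, ∀ a, Commute z a)
    (hZ : ∀ z ∈ Z, σ z = z) (hsq : ∀ a : P, a * a ∈ Z) (hcomm : ∀ a b : P, ⁅a, b⁆ ∈ Z)
    (hfix : ∀ a : P, σ a * a⁻¹ ∈ Z → a ∈ Z)
    (hirr : ∀ Q : Subgroup P, Z ≤ Q → (∀ a ∈ Q, σ a ∈ Q) → Q = Z ∨ Q = ⊤) (a b : P) : a * b = b * a := by
  classical
  have hc : ∀ a b c : P, Commute ⁅a, b⁆ c := fun a b c => hZc _ (hcomm a b) c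
  have hl := comm_mul_left hc
  have hr := comm_mul_right hc
  have hz1 : ∀ a z : P, z ∈ Z → ⁅a, z⁆ = 1 := fun a z hz => commutatorElement_eq_one_iff_commute.2 (hZc z hz a).symm
  have hz2 : ∀ a z : P, z ∈ Z → ⁅z, a⁆ = 1 := fun a z hz => commutatorElement_eq_one_iff_commute.2 (hZc z hz a)
  have hss : ∀ a b : P, ⁅a, b⁆ * ⁅a, b⁆ = 1 := by
    intro a b
    rw [← hl, hz2 _ _ (hsq a)]
  have hsym : ∀ a b : P, ⁅a, b⁆ = ⁅b, a⁆ := by
    intro a b
    rw [← commutatorElement_inv b a]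
    exact inv_eq_of_mul_eq_one_left (hss b a)
  have hself : ∀ a : P, ⁅a, a⁆ = 1 := fun a => commutatorElement_self a
  have hσc : ∀ a b : P, ⁅σ a, σ b⁆ = ⁅a, b⁆ := by
    intro a b
    rw [← hZ _ (hcomm a b)]
    simp only [commutatorElement_def, map_mul, map_inv]
  -- the orbit
  have main : ∀ t : P, t ∉ Z → (∀ i : ℕ, ⁅t, (σ ^ i) t⁆ = 1) → ∀ a b : P, a * b = b * a := by
    intro t ht h
    have h1 : ∀ i j : ℕ, ⁅(σ ^ i) t, (σ ^ (i + j)) t⁆ = 1 := by
      intro i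
      induction i with
      | zero => intro j; simpa using h j
      | succ i ih =>
        intro j
        have h2 : (σ ^ (i + 1)) t = σ ((σ ^ i) t) := by rw [pow_succ']; rfl
        have h3 : (σ ^ (i + 1 + j)) t = σ ((σ ^ (i + j)) t) := by
          rw [show i + 1 + j = (i + j) + 1 by ring, pow_succ']; rfl
        rw [h2, h3, hσc, ih]
    have h2 : ∀ i j : ℕ, Commute ((σ ^ i) t) ((σ ^ j) t) := by
      intro i j
      rcases le_total i j with hij | hij
      · obtain ⟨k, rfl⟩ := Nat.exists_eq_add_of_le hij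
        exact commutatorElement_eq_one_iff_commute.1 (h1 i k)
      · obtain ⟨k, rfl⟩ := Nat.exists_eq_add_of_le hij
        exact (commutatorElement_eq_one_iff_commute.1 (h1 j k)).symm
    let S : Set P := (Z : Set P) ∪ Set.range fun i : ℕ => (σ ^ i) t
    have hQ : Subgroup.closure S = ⊤ := by
      have h3 : Z ≤ Subgroup.closure S := fun z hz => Subgroup.subset_closure (Or.inl hz)
      have h4 : ∀ a ∈ Subgroup.closure S, σ a ∈ Subgroup.closure S := by
        intro a ha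
        have h5 : Subgroup.closure S ≤ (Subgroup.closure S).comap (σ : P →* P) := by
          rw [Subgroup.closure_le]
          rintro x (hx | ⟨i, rfl⟩)
          · change σ x ∈ Subgroup.closure S
            rw [hZ x hx]
            exact h3 hx
          · change σ ((σ ^ i) t) ∈ Subgroup.closure S
            refine Subgroup.subset_closure (Or.inr ⟨i + 1, ?_⟩)
            change (σ ^ (i + 1)) t = _
            rw [pow_succ']; rfl
        exact h5 ha
      rcases hirr _ h3 h4 with h5 | h5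
      · exact absurd (h5 ▸ Subgroup.subset_closure (Or.inr ⟨0, rfl⟩) : t ∈ Z) ht
      · exact h5
    have h3 : ∀ x ∈ S, ∀ y ∈ S, x * y = y * x := by
      rintro x (hx | ⟨i, rfl⟩) y (hy | ⟨j, rfl⟩)
      · exact hZc x hx y
      · exact hZc x hx _
      · exact (hZc y hy _).symm
      · exact h2 i j
    intro a b
    have ha : a ∈ Subgroup.closure S := by rw [hQ]; trivial
    have hb : b ∈ Subgroup.closure S := by rw [hQ]; trivial
    have h6 := Subgroup.isMulCommutative_closure (k := S) h3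
    exact congrArg Subtype.val (h6.is_comm.comm (⟨a, ha⟩ : Subgroup.closure S) ⟨b, hb⟩)
  by_cases htop : ∀ t : P, t ∈ Z
  · exact hZc a (htop a) b
  push Not at htop
  obtain ⟨t, ht⟩ := htop
  -- periodicity and commutators
  have hper : ∀ (t : P) (i : ℕ), (σ ^ (i + 7)) t = (σ ^ i) t := by
    intro t i
    rw [pow_add, hσ, mul_one]
  have hshift : ∀ (t : P) (k i j : ℕ), ⁅(σ ^ (i + k)) t, (σ ^ (j + k)) t⁆ = ⁅(σ ^ i) t, (σ ^ j) t⁆ := by
    intro t k
    induction k with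
    | zero => intro i j; rfl
    | succ k ih =>
      intro i j
      have h2 : (σ ^ (i + (k + 1))) t = σ ((σ ^ (i + k)) t) := by
        rw [← add_assoc, pow_succ']; rfl
      have h3 : (σ ^ (j + (k + 1))) t = σ ((σ ^ (j + k)) t) := by
        rw [← add_assoc, pow_succ']; rfl
      rw [h2, h3, hσc, ih]
  have hone : ∀ (t : P) (i : ℕ), ⁅t, (σ ^ 1) t⁆ = 1 → ⁅t, (σ ^ 2) t⁆ = 1 → ⁅t, (σ ^ 3) t⁆ = 1 →
      ⁅t, (σ ^ i) t⁆ = 1 := by
    intro t i h1 h2 h3
    induction i using Nat.strong_induction_on with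
    | _ i ih =>
      rcases Nat.lt_or_ge i 7 with h | h
      · have h7 : ∀ j, j ≤ 7 → ⁅t, (σ ^ (7 - j)) t⁆ = ⁅t, (σ ^ j) t⁆ := by
          intro j hj
          have h8 := hshift t j 0 (7 - j)
          rw [Nat.sub_add_cancel hj] at h8
          have h9 : (σ ^ 7) t = t := by rw [hσ]; rfl
          rw [h9, zero_add, hsym _ t] at h8
          exact h8.symm
        interval_cases i
        · exact hself t
        · exact h1
        · exact h2
        · exact h3
        · exact (h7 3 (by norm_num)).trans h3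
        · exact (h7 2 (by norm_num)).trans h2
        · exact (h7 1 (by norm_num)).trans h1
      · obtain ⟨j, rfl⟩ := Nat.exists_eq_add_of_le' h
        rw [hper]
        exact ih j (by omega)
  have hzero : ∀ s : P, (σ ^ 0) s = s := fun s => rfl
  -- case 1 : t₀ t₁ t₃ ∈ Z
  by_cases h1 : t * (σ ^ 1) t * (σ ^ 3) t ∈ Z
  · have e1 : ⁅t, (σ ^ 1) t⁆ * ⁅t, (σ ^ 3) t⁆ = 1 := by
      have := hz1 t _ h1
      rw [hr, hr, hself, one_mul] at this
      exact this
    have e2 : ⁅t, (σ ^ 1) t⁆ * ⁅t, (σ ^ 2) t⁆ = 1 := by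
      have := hz1 ((σ ^ 1) t) _ h1
      rw [hr, hr, hself, mul_one, hsym _ t] at this
      have h3 := hshift t 1 0 2
      change ⁅(σ ^ 1) t, (σ ^ 3) t⁆ = ⁅t, (σ ^ 2) t⁆ at h3
      rw [← h3]
      exact this
    have e3 : ⁅t, (σ ^ 2) t⁆ * ⁅t, (σ ^ 1) t⁆ * ⁅t, (σ ^ 1) t⁆ = 1 := by
      have := hz1 ((σ ^ 2) t) _ h1
      rw [hr, hr, hsym _ t, hsym _ ((σ ^ 1) t)] at this
      have h3 := hshift t 1 0 1
      have h4 := hshift t 2 0 1
      change ⁅(σ ^ 1) t, (σ ^ 2) t⁆ = ⁅t, (σ ^ 1) t⁆ at h3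
      change ⁅(σ ^ 2) t, (σ ^ 3) t⁆ = ⁅t, (σ ^ 1) t⁆ at h4
      rw [h3, h4] at this
      exact this
    have f2 : ⁅t, (σ ^ 2) t⁆ = 1 := by rw [mul_assoc, hss, mul_one] at e3; exact e3
    have f1 : ⁅t, (σ ^ 1) t⁆ = 1 := by rw [f2, mul_one] at e2; exact e2
    have f3 : ⁅t, (σ ^ 3) t⁆ = 1 := by rw [f1, one_mul] at e1; exact e1
    exact main t ht (fun i => hone t i f1 f2 f3) a b
  · -- case 2 : with s = t₀ t₁ t₃ ∉ Z we have s₀ s₂ s₃ ∈ Z
    set s : P := t * (σ ^ 1) t * (σ ^ 3) t with hs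
    have key : s * (σ ^ 2) s * (σ ^ 3) s ∈ Z := by
      -- the quotient
      have hZn : Z.Normal := ⟨fun z hz g => by rw [(hZc z hz g).symm.eq, mul_inv_cancel_right]; exact hz⟩
      let _ : CommGroup (P ⧸ Z) := { (inferInstance : Group (P ⧸ Z)) with
        mul_comm := by
          intro x y
          obtain ⟨x, rfl⟩ := QuotientGroup.mk'_surjective Z x
          obtain ⟨y, rfl⟩ := QuotientGroup.mk'_surjective Z y
          have h3 : QuotientGroup.mk' Z ⁅x, y⁆ = 1 := (QuotientGroup.eq_one_iff _).2 (hcomm x y)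
          rw [commutatorElement_def, map_mul, map_mul, map_mul, map_inv, map_inv, mul_inv_eq_one,
            mul_inv_eq_iff_eq_mul] at h3
          exact h3 }
      let π : P →* P ⧸ Z := QuotientGroup.mk' Z
      have hπ : ∀ a, π a = 1 ↔ a ∈ Z := fun a => QuotientGroup.eq_one_iff a
      have hπ2 : ∀ a, π a * π a = 1 := fun a => by rw [← map_mul, hπ]; exact hsq a
      have hstep : ∀ (u : P) (i j : ℕ), (σ ^ i) ((σ ^ j) u) = (σ ^ (i + j)) u := by
        intro u i j; rw [pow_add]; rfl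
      -- the norm
      have hnorm : π t * π ((σ ^ 1) t) * π ((σ ^ 2) t) * π ((σ ^ 3) t) * π ((σ ^ 4) t) * π ((σ ^ 5) t) *
          π ((σ ^ 6) t) = 1 := by
        rw [← map_mul, ← map_mul, ← map_mul, ← map_mul, ← map_mul, ← map_mul, hπ]
        apply hfix
        rw [← hπ, map_mul, map_inv, mul_inv_eq_one]
        simp only [map_mul]
        have g1 : ∀ i : ℕ, σ ((σ ^ i) t) = (σ ^ (i + 1)) t := by
          intro i; rw [pow_succ']; rfl
        have g0 : σ t = (σ ^ 1) t := by rw [pow_one]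
        rw [g1, g1, g1, g1, g1, g1, g0]
        have g7 : (σ ^ (6 + 1)) t = t := by
          change (σ ^ 7) t = t
          rw [hσ]; rfl
        rw [g7]
        ac_rfl
      rw [← hπ]
      simp only [hs, map_mul, hstep]
      calc _ = (π t * π ((σ ^ 1) t) * π ((σ ^ 2) t) * π ((σ ^ 3) t) * π ((σ ^ 4) t) * π ((σ ^ 5) t) *
          π ((σ ^ 6) t)) * (π ((σ ^ 3) t) * π ((σ ^ 3) t)) := by
            simp only [Nat.reduceAdd]
            ac_rfl
        _ = 1 := by rw [hnorm, hπ2, one_mul]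
    have e1 : ⁅s, (σ ^ 2) s⁆ * ⁅s, (σ ^ 3) s⁆ = 1 := by
      have := hz1 s _ key
      rw [hr, hr, hself, one_mul] at this
      exact this
    have e2 : ⁅s, (σ ^ 1) s⁆ * ⁅s, (σ ^ 1) s⁆ * ⁅s, (σ ^ 2) s⁆ = 1 := by
      have := hz1 ((σ ^ 1) s) _ key
      rw [hr, hr, hsym _ s] at this
      have h3 := hshift s 1 0 1
      have h4 := hshift s 1 0 2
      change ⁅(σ ^ 1) s, (σ ^ 2) s⁆ = ⁅s, (σ ^ 1) s⁆ at h3
      change ⁅(σ ^ 1) s, (σ ^ 3) s⁆ = ⁅s, (σ ^ 2) s⁆ at h4
      rw [h3, h4] at this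
      exact this
    have e3 : ⁅s, (σ ^ 2) s⁆ * ⁅s, (σ ^ 1) s⁆ = 1 := by
      have := hz1 ((σ ^ 2) s) _ key
      rw [hr, hr, hself, mul_one, hsym _ s] at this
      have h3 := hshift s 2 0 1
      change ⁅(σ ^ 2) s, (σ ^ 3) s⁆ = ⁅s, (σ ^ 1) s⁆ at h3
      rw [h3] at this
      exact this
    have f2 : ⁅s, (σ ^ 2) s⁆ = 1 := by rw [hss, one_mul] at e2; exact e2
    have f1 : ⁅s, (σ ^ 1) s⁆ = 1 := by rw [f2, one_mul] at e3; exact e3
    have f3 : ⁅s, (σ ^ 3) s⁆ = 1 := by rw [f2, one_mul] at e1; exact e1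
    exact main s h1 (fun i => hone s i f1 f2 f3) a b

end Cfsg.Agent.H423.GBTwo
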