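import Mathlib
import Cfsg.Agent.H440.MinimalAction
import Cfsg.Agent.H421.Act
import Cfsg.Agent.H423.GBTwo

/-!
# An element of order 7 normalising a 2-group, acting without fixed vectors (helper423)

`trivial_of_fpf`: a 2-group `T`, `x⁷ = 1`, `x` normalises `T`, `X = ⟨T, x⟩` acts on an abelian group `V` without
2-torsion, `x` has no fixed vectors: `[T, x]` acts trivially.
-/

set_option autoImplicit false

namespace Cfsg.Agent.H423.GBSeven

open Subgroup
open scoped commutatorElement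
open Cfsg.Agent.H440.MinimalAction

theorem comm_of_faithful {X : Type*} [Group X] [Finite X] {V : Type*} [AddCommGroup V]
    (ρ : X →* AddMonoid.End V) (hρ : Function.Injective ρ) (T : Subgroup X) (hT : IsPGroup 2 T) (x : X)
    (hx : x ^ 7 = 1) (hn : ∀ t ∈ T, x * t * x⁻¹ ∈ T) (hV : ∀ v, ρ x v = v → v = 0)
    (h2 : ∀ v : V, 2 • v = 0 → v = 0) : ∀ t ∈ T, x * t = t * x := by
  classical
  by_contra hcon
  push Not at hcon
  obtain ⟨t0, ht0, htx0⟩ := hcon
  obtain ⟨P, ⟨hPT, hPx, hPn⟩, hPmin⟩ := Set.Finite.exists_minimal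
    (s := {U : Subgroup X | U ≤ T ∧ (∀ t ∈ U, x * t * x⁻¹ ∈ U) ∧ ∃ t ∈ U, x * t ≠ t * x}) (Set.toFinite _)
    ⟨T, le_rfl, hn, t0, ht0, htx0⟩
  have hP : IsPGroup 2 P := hT.to_le hPT
  let A : Subgroup X := zpowers x
  have h7 : Nat.Prime 7 := by norm_num
  have hx1 : x ≠ 1 := by
    rintro rfl
    obtain ⟨t, _, h⟩ := hPn
    exact h (by rw [one_mul, mul_one])
  have hox : orderOf x = 7 := by
    have : Fact (Nat.Prime 7) := ⟨h7⟩
    exact orderOf_eq_prime hx hx1
  have hcardA : Nat.card A = 7 := by rw [Nat.card_zpowers, hox]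
  have hAp : (Nat.card A).Coprime 2 := by rw [hcardA]; norm_num
  have hnorm : ∀ U : Subgroup X, (∀ t ∈ U, x * t * x⁻¹ ∈ U) ↔ A ≤ normalizer (U : Set X) := by
    intro U
    constructor
    · intro h
      rw [zpowers_le]
      exact mem_normalizer_fintype h
    · intro h t ht
      have := h (mem_zpowers x)
      rw [mem_normalizer_iff] at this
      exact (this t).1 ht
  have hcomm : ∀ U : Subgroup X, (∀ t ∈ U, x * t = t * x) ↔ ⁅U, A⁆ = ⊥ := by
    intro U
    rw [commutator_eq_bot_iff_le_centralizer]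
    constructor
    · intro h t ht
      rw [mem_centralizer_iff]
      rintro y hy
      obtain ⟨n, rfl⟩ := mem_zpowers_iff.1 hy
      exact ((show Commute x t from h t ht).zpow_left n).eq
    · intro h t ht
      exact mem_centralizer_iff.1 (h ht) x (mem_zpowers x)
  have hAP : A ≤ normalizer (P : Set X) := (hnorm P).1 hPx
  have hAn : A ≤ normalizer (A : Set X) := le_normalizer
  have hnt : ⁅P, A⁆ ≠ ⊥ := by
    rw [Ne, ← hcomm]
    push Not
    exact hPn
  have hmin : ∀ U : Subgroup X, U < P → A ≤ normalizer (U : Set X) → ⁅U, A⁆ = ⊥ := by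
    intro U hU hAU
    rw [← hcomm]
    by_contra hne
    push Not at hne
    have h3 := hPmin ⟨hU.le.trans hPT, (hnorm U).2 hAU, hne⟩ hU.le
    exact absurd h3 (not_le_of_gt hU)
  have : Fact (Nat.Prime 2) := ⟨Nat.prime_two⟩
  have hPA := commutator_eq hP hAP le_rfl hAn hAp hnt hmin
  have hPne : P ≠ ⊥ := by
    rintro rfl
    rw [commutator_bot_left] at hnt
    exact hnt rfl
  -- the Frattini subgroup
  have hZP : frat P ≤ P := frat_le P
  have hZlt : frat P < P := lt_of_le_of_ne hZP (frat_ne hPne)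
  have hAZ : A ≤ normalizer ((frat P : Subgroup X) : Set X) := le_normalizer_frat hAP
  have hPZ : P ≤ normalizer ((frat P : Subgroup X) : Set X) := le_normalizer_frat le_normalizer
  have hZcen := le_centralizer hPA hmin hZlt hAZ hPZ
  have hZfix : ∀ z ∈ frat P, x * z = z * x := (hcomm _).2 (hmin _ hZlt hAZ)
  -- `P` is abelian
  let σ0 : ↥(normalizer (P : Set X)) →* MulAut P := P.normalizerMonoidHom
  have hxN : x ∈ normalizer (P : Set X) := hAP (mem_zpowers x)
  let σ : MulAut P := σ0 ⟨x, hxN⟩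
  have hσ : ∀ a : P, ((σ a : P) : X) = x * a * x⁻¹ := fun a => rfl
  have hab : ∀ a b : P, a * b = b * a := by
    have hmemZ : ∀ a : P, a ∈ (frat P).subgroupOf P ↔ (a : X) ∈ frat P := fun a => mem_subgroupOf
    refine GBTwo.comm_of_seven σ ?_ ((frat P).subgroupOf P) ?_ ?_ ?_ ?_ ?_ ?_
    · have h3 : σ ^ 7 = σ0 (⟨x, hxN⟩ ^ 7) := (map_pow σ0 _ 7).symm
      rw [h3]
      have h4 : (⟨x, hxN⟩ : ↥(normalizer (P : Set X))) ^ 7 = 1 := Subtype.ext hx
      rw [h4, map_one]
    · intro z hz a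
      apply Subtype.ext
      have h3 := mem_centralizer_iff.1 (hZcen ((hmemZ z).1 hz)) a a.2
      exact h3.symm
    · intro z hz
      apply Subtype.ext
      rw [hσ, hZfix _ ((hmemZ z).1 hz), mul_inv_cancel_right]
    · intro a
      rw [hmemZ]
      have h3 := pow_mem_frat hP a.2
      rw [pow_two] at h3
      exact h3
    · intro a b
      rw [hmemZ]
      exact commutator_le_frat hP (commutator_mem_commutator a.2 b.2)
    · intro a ha
      rw [hmemZ] at ha ⊢
      have h3 : x * a * x⁻¹ * (a : X)⁻¹ ∈ frat P := ha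
      refine mem_of_fixed hP hAP le_rfl hAp hPA hZP hAZ (commutator_le_frat hP) a.2 ?_
      -- `⁅a, xⁿ⁆ ∈ Z`
      let C : Subgroup X :=
        { carrier := {y | y ∈ normalizer ((frat P : Subgroup X) : Set X) ∧ y * a * y⁻¹ * (a : X)⁻¹ ∈ frat P}
          one_mem' := ⟨one_mem _, by simp⟩
          mul_mem' := by
            rintro y z ⟨hy, hy'⟩ ⟨hz, hz'⟩
            refine ⟨mul_mem hy hz, ?_⟩
            have h4 : y * z * a * (y * z)⁻¹ * (a : X)⁻¹ =
                (y * (z * a * z⁻¹ * (a : X)⁻¹) * y⁻¹) * (y * a * y⁻¹ * (a : X)⁻¹) := by group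
            rw [h4]
            exact mul_mem ((mem_normalizer_iff.1 hy _).1 hz') hy'
          inv_mem' := by
            rintro y ⟨hy, hy'⟩
            refine ⟨inv_mem hy, ?_⟩
            have h4 : y⁻¹ * a * y⁻¹⁻¹ * (a : X)⁻¹ = y⁻¹ * (y * a * y⁻¹ * (a : X)⁻¹)⁻¹ * y⁻¹⁻¹ * ((a : X) * (y⁻¹ * 1 * y) * (a : X)⁻¹) := by
              group
            have h5 : y⁻¹ * a * y⁻¹⁻¹ * (a : X)⁻¹ = y⁻¹ * (y * a * y⁻¹ * (a : X)⁻¹)⁻¹ * y⁻¹⁻¹ := by
              group
            rw [h5]
            exact (mem_normalizer_iff.1 (inv_mem hy) _).1 (inv_mem hy') }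
      have hxC : x ∈ C := ⟨hAZ (mem_zpowers x), h3⟩
      have hAC : A ≤ C := by rw [zpowers_le]; exact hxC
      intro y hy
      have h4 := (hAC hy).2
      have h5 : ⁅(a : X), y⁆ = (y * a * y⁻¹ * (a : X)⁻¹)⁻¹ := by
        simp only [commutatorElement_def]; group
      rw [h5]
      exact inv_mem h4
    · intro Q hZQ hQ
      have h3 : A ≤ normalizer ((Q.map P.subtype : Subgroup X) : Set X) := by
        rw [← hnorm]
        rintro _ ⟨t, ht, rfl⟩
        exact ⟨σ t, hQ t ht, rfl⟩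
      have h4 : frat P ≤ Q.map P.subtype := by
        intro z hz
        exact ⟨⟨z, hZP hz⟩, hZQ ((hmemZ _).2 hz), rfl⟩
      rcases irreducible hP hAP le_rfl hAn hAp hnt hmin (Q.map P.subtype) h4 (map_subtype_le _) h3 with h5 | h5
      · left
        refine le_antisymm (fun a ha => ?_) hZQ
        rw [hmemZ, ← h5]
        exact ⟨a, ha, rfl⟩
      · right
        rw [eq_top_iff]
        intro a _
        have h6 : (a : X) ∈ Q.map P.subtype := by rw [h5]; exact a.2
        obtain ⟨b, hb, hba⟩ := h6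
        rw [← Subtype.ext hba]
        exact hb
  -- `x` acts without fixed points on `P`
  have hPP : ⁅P, P⁆ ≤ (⊥ : Subgroup X) := by
    rw [commutator_le]
    intro a ha b hb
    rw [mem_bot, commutatorElement_eq_one_iff_mul_comm]
    exact congrArg Subtype.val (hab ⟨a, ha⟩ ⟨b, hb⟩)
  have hfp : ∀ a ∈ P, x * a = a * x → a = 1 := by
    intro a ha hxa
    have h3 : a ∈ (⊥ : Subgroup X) := by
      refine mem_of_fixed hP hAP le_rfl hAp hPA bot_le ?_ hPP ha ?_
      · rw [← hnorm]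
        intro t ht
        rw [mem_bot] at ht ⊢
        rw [ht]; group
      · intro y hy
        obtain ⟨n, rfl⟩ := mem_zpowers_iff.1 hy
        rw [mem_bot, commutatorElement_eq_one_iff_mul_comm]
        exact (((show Commute x a from hxa).zpow_left n).eq).symm
    exact (mem_bot).1 h3
  obtain ⟨n, hn'⟩ := IsPGroup.iff_card.mp hP
  have hno2 : ∀ (n : ℕ) (v : V), (2 ^ n) • v = 0 → v = 0 := by
    intro n
    induction n with
    | zero => intro v hv; simpa using hv
    | succ n ih =>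
      intro v hv
      rw [pow_succ, mul_smul] at hv
      exact h2 v (ih _ hv)
  have htriv := H421.Act.frob_trivial ρ P x 7 (by norm_num) hx hPx (by
    intro i hi0 hi7 a ha hxa
    apply hfp a ha
    have hc : Commute (x ^ i) a := hxa
    -- `x` is a power of `x ^ i`
    have hcop : Nat.Coprime i 7 := (Nat.coprime_comm).1 ((Nat.Prime.coprime_iff_not_dvd h7).2
      (Nat.not_dvd_of_pos_of_lt hi0 hi7))
    obtain ⟨m, hm⟩ := exists_pow_eq_self_of_coprime (x := x) (n := i) (by rw [hox]; exact hcop)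
    rw [← hm]
    exact (hc.pow_left m).eq) hV (by
    intro v hv
    rw [hn'] at hv
    exact hno2 n v hv)
  apply hPne
  rw [eq_bot_iff]
  intro a ha
  rw [mem_bot]
  apply hρ
  rw [map_one]
  ext v
  exact htriv a ha v

/-- **2-groups and elements of order 7.** -/
theorem trivial_of_fpf {X : Type*} [Group X] [Finite X] {V : Type*} [AddCommGroup V]
    (ρ : X →* AddMonoid.End V) (T : Subgroup X) (hT : IsPGroup 2 T) (x : X)
    (hx : x ^ 7 = 1) (hn : ∀ t ∈ T, x * t * x⁻¹ ∈ T) (hV : ∀ v, ρ x v = v → v = 0)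
    (h2 : ∀ v : V, 2 • v = 0 → v = 0) : ∀ t ∈ T, x * t * x⁻¹ * t⁻¹ ∈ ρ.ker := by
  have hfaith : Function.Injective (QuotientGroup.lift ρ.ker ρ le_rfl) := by
    rw [injective_iff_map_eq_one]
    intro y hy
    obtain ⟨y, rfl⟩ := QuotientGroup.mk'_surjective ρ.ker y
    exact (QuotientGroup.eq_one_iff _).2 hy
  have h3 := comm_of_faithful (QuotientGroup.lift ρ.ker ρ le_rfl) hfaith (T.map (QuotientGroup.mk' ρ.ker))
    (hT.map _) (QuotientGroup.mk' ρ.ker x) (by rw [← map_pow, hx, map_one]) (by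
      rintro _ ⟨t, ht, rfl⟩
      exact ⟨x * t * x⁻¹, hn t ht, by rw [map_mul, map_mul, map_inv]⟩) hV h2
  intro t ht
  have h4 := h3 _ ⟨t, ht, rfl⟩
  have h5 : QuotientGroup.mk' ρ.ker (x * t * x⁻¹ * t⁻¹) = 1 := by
    rw [map_mul, map_mul, map_mul, map_inv, map_inv, h4, mul_inv_cancel_right, mul_inv_cancel]
  exact (QuotientGroup.eq_one_iff _).1 h5

end Cfsg.Agent.H423.GBSeven
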