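import Mathlib
import Cfsg.Prelude.Def_Solvable
import Cfsg.Agent.H423.GBRad
import Cfsg.Agent.H423.GBSeven
import Cfsg.Agent.H423.GBRee
import Cfsg.Agent.H382.FieldAction
import Cfsg.Agent.H362.ReeField

/-!
# Six prime divisors, five of them pairwise nonadjacent: the end (helper423)

`Ctx.v_eq`, `Ctx.eq_top`, `Ctx.two_group`, `Ctx.final`.
-/

set_option autoImplicit false

namespace Cfsg.Agent.H423.GBRad.Ctx

open Subgroup Cfsg.Agent.H423.PG Cfsg.Lie

universe u w

variable {G : Type u} [Group G] [Finite G] {v : ℕ} {ρ : Finset ℕ} {R : Subgroup G} [R.Normal]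
  {S : Subgroup (G ⧸ R)} {K : Type w} [Field K] [Fintype K]

theorem mem_rho (c : Ctx G v ρ R S) (hK : Fintype.card K = 27) (e : S ≃* ↥(twistedG2 K (3 ^ 1))) {r : ℕ}
    (hr : r ∈ ({2, 3, 7, 13, 19, 37} : Finset ℕ)) (hne : r ≠ v) : r ∈ ρ := by
  have h1 : r ∈ (Nat.card S).primeFactors := by
    rw [Nat.card_congr e.toEquiv, GBRee.card hK, GBRee.primeFactors]
    exact hr
  exact c.mem (Nat.prime_of_mem_primeFactors h1) ((Nat.dvd_of_mem_primeFactors h1).trans (card_S_dvd S)) hne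

omit [Fintype K] in
theorem adj_of (e : S ≃* ↥(twistedG2 K (3 ^ 1))) {r s : ℕ} (h : ∃ g : ↥(twistedG2 K (3 ^ 1)), orderOf g = r * s) :
    Adj G r s := by
  have h1 : Adj ↥(twistedG2 K (3 ^ 1)) r s := h
  exact ((adj_congr e).2 h1).of_subgroup.of_quotient

theorem v_eq (c : Ctx G v ρ R S) (hK : Fintype.card K = 27) (e : S ≃* ↥(twistedG2 K (3 ^ 1))) : v = 2 := by
  by_contra hv
  have h2 := c.mem_rho hK e (r := 2) (by decide) (Ne.symm hv)
  by_cases h3 : v = 3
  · have h7 := c.mem_rho hK e (r := 7) (by decide) (by rw [h3]; norm_num)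
    exact c.hco 2 h2 7 h7 (by norm_num) (adj_of e ((GBRee.orders hK _).2 (by norm_num)))
  · have h3' := c.mem_rho hK e (r := 3) (by decide) (Ne.symm h3)
    exact c.hco 2 h2 3 h3' (by norm_num) (adj_of e ((GBRee.orders hK _).2 (by norm_num)))

theorem eq_top (c : Ctx G v ρ R S) (hK : Fintype.card K = 27) (e : S ≃* ↥(twistedG2 K (3 ^ 1))) : S = ⊤ := by
  have hv := c.v_eq hK e
  have hSn := c.hSn
  rw [eq_top_iff]
  rintro x -
  by_contra hx
  obtain ⟨g, τ, hα⟩ := H71.FldAut.ree_aut (K := K) (m := 1) le_rfl (by rw [hK]; norm_num)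
    (MulAut.congr e (MulAut.conjNormal x))
  set s : S := e.symm g with hs
  set x' : G ⧸ R := (s : G ⧸ R)⁻¹ * x with hx'
  have hx'S : x' ∉ S := by
    intro h
    apply hx
    have h1 : x = (s : G ⧸ R) * x' := by rw [hx']; group
    rw [h1]
    exact S.mul_mem s.2 h
  have hact : ∀ y : ↥(twistedG2 K (3 ^ 1)), x' * (e.symm y : S) * x'⁻¹ = ((e.symm (S2127.fld τ (3 ^ 1) y) : S) : G ⧸ R) := by
    intro y
    have h1 : e (MulAut.conjNormal x (e.symm y)) = g * S2127.fld τ (3 ^ 1) y * g⁻¹ := by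
      have h2 := congrArg (fun f : MulAut ↥(twistedG2 K (3 ^ 1)) => f y) hα
      exact h2
    have h2 : MulAut.conjNormal x (e.symm y) = s * e.symm (S2127.fld τ (3 ^ 1) y) * s⁻¹ := by
      apply e.injective
      rw [h1, map_mul, map_mul, map_inv, hs, e.apply_symm_apply, e.apply_symm_apply]
    have h3 : x * (e.symm y : S) * x⁻¹ = (s : G ⧸ R) * (e.symm (S2127.fld τ (3 ^ 1) y) : S) * (s : G ⧸ R)⁻¹ := by
      have h4 := congrArg (fun t : S => (t : G ⧸ R)) h2
      rw [MulAut.conjNormal_apply] at h4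
      exact h4
    have h4 : x' * (e.symm y : S) * x'⁻¹ = (s : G ⧸ R)⁻¹ * (x * (e.symm y : S) * x⁻¹) * (s : G ⧸ R) := by
      rw [hx']; group
    rw [h4, h3]; group
  -- `x'` has order 3
  have hτ : τ ^ 3 = 1 := by
    have h3 : Fact (Nat.Prime 3) := ⟨by norm_num⟩
    have h1 := (H382.FieldAction.card_ringAut_dvd K (p := 3) (d := 3)
      (by rw [Nat.card_eq_fintype_card, hK]; norm_num)).1
    rw [← h1]
    exact pow_card_eq_one'
  have hfld : ∀ y, S2127.fld τ (3 ^ 1) (S2127.fld τ (3 ^ 1) (S2127.fld τ (3 ^ 1) y)) = y := by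
    intro y
    have h1 : S2127.fld (τ * (τ * τ)) (3 ^ 1) = S2127.fld τ (3 ^ 1) * (S2127.fld τ (3 ^ 1) * S2127.fld τ (3 ^ 1)) := by
      rw [H71.FldAut.fldG_mul, H71.FldAut.fldG_mul]
    have h2 : τ * (τ * τ) = 1 := by rw [← hτ, pow_succ, pow_two, mul_assoc]
    rw [h2] at h1
    have h3 := congrArg (fun f : MulAut ↥(twistedG2 K (3 ^ 1)) => f y) h1
    have h4 : S2127.fld (1 : K ≃+* K) (3 ^ 1) y = y := by
      apply Subtype.ext
      apply Units.ext
      rw [H71.FldAut.coe_fldG]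
      ext i j
      rfl
    exact h3.symm.trans h4
  have hx3 : x' ^ 3 = 1 := by
    have h1 : x' ^ 3 ∈ centralizer (S : Set (G ⧸ R)) := by
      rw [mem_centralizer_iff]
      intro t ht
      have h2 : ∀ y : ↥(twistedG2 K (3 ^ 1)), x' ^ 3 * (e.symm y : S) * (x' ^ 3)⁻¹ = ((e.symm y : S) : G ⧸ R) := by
        intro y
        have h3 : x' ^ 3 * (e.symm y : S) * (x' ^ 3)⁻¹ = x' * (x' * (x' * (e.symm y : S) * x'⁻¹) * x'⁻¹) * x'⁻¹ := by
          rw [show x' ^ 3 = x' * x' * x' by rw [pow_succ, pow_two]]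
          simp only [mul_inv_rev, mul_assoc]
        rw [h3, hact, hact, hact, hfld]
      have h3 := h2 (e ⟨t, ht⟩)
      rw [e.symm_apply_apply] at h3
      exact (mul_inv_eq_iff_eq_mul.1 h3).symm
    rw [c.hC, mem_bot] at h1
    exact h1
  have hx1 : x' ≠ 1 := fun h => hx'S (h ▸ S.one_mem)
  have h3 : Fact (Nat.Prime 3) := ⟨by norm_num⟩
  have ho3 : orderOf x' = 3 := orderOf_eq_prime hx3 hx1
  obtain ⟨y, hy7, hyf⟩ := GBRee.exists_seven hK τ
  have hcomm : Commute x' ((e.symm y : S) : G ⧸ R) := by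
    have h1 := hact y
    rw [hyf] at h1
    exact mul_inv_eq_iff_eq_mul.1 h1
  have ho7 : orderOf ((e.symm y : S) : G ⧸ R) = 7 := by
    rw [Subgroup.orderOf_coe, ← hy7]
    exact orderOf_injective e.symm.toMonoidHom e.symm.injective y
  have hadj : Adj (G ⧸ R) 3 7 := adj_of_commute (by norm_num) (by norm_num) (by norm_num) ho3 ho7 hcomm
  exact c.hco 3 (c.mem_rho hK e (by decide) (by rw [hv]; norm_num)) 7
    (c.mem_rho hK e (by decide) (by rw [hv]; norm_num)) (by norm_num) hadj.of_quotient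

/-- `R` is a 2-group -/
theorem two_group (c : Ctx G v ρ R S) (hK : Fintype.card K = 27) (e : S ≃* ↥(twistedG2 K (3 ^ 1))) :
    IsPGroup 2 R := by
  classical
  by_contra hR
  have hv := c.v_eq hK e
  have htop := c.eq_top hK e
  have hSs := c.hSs
  let e' : G ⧸ R ≃* ↥(twistedG2 K (3 ^ 1)) := ((MulEquiv.subgroupCongr htop).trans Subgroup.topEquiv).symm.trans e
  have hsimple : IsSimpleGroup (G ⧸ R) := (((MulEquiv.subgroupCongr htop).trans Subgroup.topEquiv).symm).isSimpleGroup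
  obtain ⟨L, hLn, t, V, _, _, _, ψ, hLR, hL2, ht, ht2, htR, hVt, hfp⟩ := GBTop.exists_top_odd R c.hRs hR
  have htρ : t ∈ ρ := c.mem ht (htR.trans (Subgroup.card_subgroup_dvd_card R)) (by rw [hv]; exact ht2)
  let φ : G ⧸ L →* G ⧸ R := QuotientGroup.map L R (MonoidHom.id G) hLR
  have hφ : Function.Surjective φ := by
    intro y
    obtain ⟨g, rfl⟩ := QuotientGroup.mk'_surjective R y
    exact ⟨(g : G ⧸ L), rfl⟩
  have hkφ : ∀ y ∈ φ.ker, ∃ n : ℕ, y ^ 2 ^ n = 1 := by
    intro y hy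
    obtain ⟨g, rfl⟩ := QuotientGroup.mk'_surjective L y
    have h1 : g ∈ R := (QuotientGroup.eq_one_iff g).1 hy
    obtain ⟨n, hn⟩ := hL2 g h1
    exact ⟨n, (QuotientGroup.eq_one_iff _).2 hn⟩
  have hmem : ∀ r : ℕ, r ∈ ({3, 7} : Finset ℕ) → r ∈ ρ := by
    intro r hr
    have h1 : r = 3 ∨ r = 7 := by simpa using hr
    refine c.mem_rho hK e (r := r) ?_ ?_
    · rcases h1 with rfl | rfl <;> decide
    · rw [hv]; rcases h1 with rfl | rfl <;> norm_num
  by_cases h3 : t = 3
  · subst h3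
    obtain ⟨E, x, hE, hx7, hxE, y, hyE, hxy⟩ := GBRee.exists_act hK
    -- pull back to `G ⧸ R`
    let E1 : Subgroup (G ⧸ R) := E.comap e'.toMonoidHom
    let x1 : G ⧸ R := e'.symm x
    have hx1 : e' x1 = x := e'.apply_symm_apply x
    have hox1 : orderOf x1 = 7 := by
      rw [← hx7]
      exact orderOf_injective e'.symm.toMonoidHom e'.symm.injective x
    obtain ⟨z, hz, n, hn⟩ := H421.Act.orderOf_lift φ hφ x1
    rw [hox1] at hz
    have h7 : Nat.Prime 7 := by norm_num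
    have hz7 : z ^ 7 = 1 := by rw [← hz]; exact pow_orderOf_eq_one z
    -- `φ z` generates
    have hzne : φ z ≠ 1 := by
      intro h
      obtain ⟨k, hk⟩ := hkφ z h
      have h4 := orderOf_dvd_of_pow_eq_one hk
      rw [hz] at h4
      have h5 := h7.dvd_of_dvd_pow h4
      omega
    have hn7 : Nat.Coprime n 7 := by
      rw [Nat.coprime_comm, Nat.Prime.coprime_iff_not_dvd h7]
      rintro ⟨k, rfl⟩
      apply hzne
      rw [hn, pow_mul, ← hox1, pow_orderOf_eq_one, one_pow]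
    obtain ⟨m, hm⟩ := exists_pow_eq_self_of_coprime (x := x1) (n := n) (by rw [hox1]; exact hn7)
    -- powers of `x1` normalise `E1`
    have hpow : ∀ (k : ℕ) (a : G ⧸ R), a ∈ E1 → x1 ^ k * a * (x1 ^ k)⁻¹ ∈ E1 := by
      intro k
      induction k with
      | zero => intro a ha; simpa using ha
      | succ k ih =>
        intro a ha
        have h4 := ih a ha
        have h5 : x1 ^ (k + 1) * a * (x1 ^ (k + 1))⁻¹ = x1 * (x1 ^ k * a * (x1 ^ k)⁻¹) * x1⁻¹ := by
          rw [pow_succ']; group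
        rw [h5]
        have h6 := hxE _ h4
        change e' (x1 * (x1 ^ k * a * (x1 ^ k)⁻¹) * x1⁻¹) ∈ E
        rw [map_mul, map_mul, map_inv, hx1]
        exact h6
    let T : Subgroup (G ⧸ L) := E1.comap φ
    have hT : IsPGroup 2 T := by
      rintro ⟨a, ha⟩
      have h4 : e' (φ a) ∈ E := ha
      obtain ⟨k, hk⟩ := hE ⟨_, h4⟩
      have h5 : (e' (φ a)) ^ 2 ^ k = 1 := congrArg Subtype.val hk
      rw [← map_pow, ← map_pow] at h5
      have h6 : φ (a ^ 2 ^ k) = 1 := e'.injective (h5.trans (map_one e').symm)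
      obtain ⟨j, hj⟩ := hkφ _ h6
      refine ⟨k + j, Subtype.ext ?_⟩
      change a ^ 2 ^ (k + j) = 1
      rw [pow_add, pow_mul]
      exact hj
    have hnorm : ∀ a ∈ T, z * a * z⁻¹ ∈ T := by
      intro a ha
      change φ (z * a * z⁻¹) ∈ E1
      rw [map_mul, map_mul, map_inv, hn]
      exact hpow n _ ha
    have hfp7 := hfp 7 h7 (by norm_num) (fun g hg => c.hco 7 (hmem 7 (by decide)) 3 (hmem 3 (by decide))
      (by norm_num) ⟨g, hg⟩)
    have hno2 : ∀ a : V, 2 • a = 0 → a = 0 := by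
      intro a ha
      have h4 := hVt a
      have h5 : (3 : ℕ) • a = 2 • a + a := by rw [show (3 : ℕ) = 2 + 1 by norm_num, add_smul, one_smul]
      rw [h5, ha, zero_add] at h4
      exact h4
    have htriv := GBSeven.trivial_of_fpf ψ T hT z hz7 hnorm (hfp7 z hz) hno2
    -- an element of `T` not centralised
    obtain ⟨a, ha⟩ := hφ (e'.symm y)
    have haT : a ∈ T := by
      change e' (φ a) ∈ E
      rw [ha, e'.apply_symm_apply]
      exact hyE
    have hker := htriv a haT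
    have hne1 : φ (z * a * z⁻¹ * a⁻¹) ≠ 1 := by
      intro h
      rw [map_mul, map_mul, map_mul, map_inv, map_inv, mul_inv_eq_one, mul_inv_eq_iff_eq_mul] at h
      have h4 : Commute (x1 ^ n) (φ a) := by rw [← hn]; exact h
      have h5 : Commute x1 (φ a) := by
        rw [← hm]
        exact h4.pow_left m
      apply hxy
      have h6 := congrArg e' h5.eq
      rw [map_mul, map_mul, hx1, ha, e'.apply_symm_apply] at h6
      exact h6
    -- the kernel of `ψ` maps onto `G ⧸ R`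
    have hnk : (ψ.ker.map φ).Normal := Subgroup.Normal.map inferInstance φ hφ
    have hkt : ψ.ker.map φ = ⊤ := by
      rcases hnk.eq_bot_or_eq_top with h | h
      · exfalso
        have h4 : φ (z * a * z⁻¹ * a⁻¹) ∈ ψ.ker.map φ := ⟨_, hker, rfl⟩
        rw [h, mem_bot] at h4
        exact hne1 h4
      · exact h
    obtain ⟨b, hb, hbx⟩ : x1 ∈ ψ.ker.map φ := by rw [hkt]; trivial
    have h7b : 7 ∣ orderOf b := by
      rw [← hox1, ← hbx]
      exact orderOf_map_dvd φ b
    obtain ⟨k, hk⟩ := exists_pow_orderOf h7b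
    obtain ⟨w, hw⟩ := exists_ne (0 : V)
    apply hw
    refine hfp7 (b ^ k) hk w ?_
    have h8 : ψ (b ^ k) = 1 := MonoidHom.mem_ker.1 (ψ.ker.pow_mem hb k)
    rw [h8]
    rfl
  · -- `t ≠ 3`: the Sylow 3-subgroups are cyclic
    have h3p : Nat.Prime 3 := by norm_num
    have : Fact (Nat.Prime 3) := ⟨h3p⟩
    have hfp3 := hfp 3 h3p (Ne.symm h3) (fun g hg => c.hco 3 (hmem 3 (by decide)) t htρ (Ne.symm h3) ⟨g, hg⟩)
    have hsur : Function.Surjective (e'.toMonoidHom.comp φ) := e'.surjective.comp hφ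
    have hfin : Finite ↥(twistedG2 K (3 ^ 1)) := Finite.of_equiv _ e'.toEquiv
    let P : Sylow 3 ↥(twistedG2 K (3 ^ 1)) := default
    obtain ⟨Q, hQ⟩ := Sylow.mapSurjective_surjective hsur 3 P
    have hQc : IsCyclic (Q : Subgroup (G ⧸ L)) :=
      GBTop.fpf_cyclic ψ ht h3p (by norm_num) (Ne.symm h3) hVt hfp3 Q Q.isPGroup'
    apply GBRee.not_cyclic hK P
    rw [← hQ]
    exact isCyclic_of_surjective ((e'.toMonoidHom.comp φ).subgroupMap (Q : Subgroup (G ⧸ L)))
      ((e'.toMonoidHom.comp φ).subgroupMap_surjective _)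

theorem pCore_eq (c : Ctx G v ρ R S) (hK : Fintype.card K = 27) (e : S ≃* ↥(twistedG2 K (3 ^ 1))) :
    Cfsg.pCore 2 G = R := by
  have htop := c.eq_top hK e
  have hSs := c.hSs
  have hsimple : IsSimpleGroup (G ⧸ R) := (((MulEquiv.subgroupCongr htop).trans Subgroup.topEquiv).symm).isSimpleGroup
  have h2 : Fact (Nat.Prime 2) := ⟨by norm_num⟩
  apply le_antisymm
  · refine sSup_le ?_
    rintro N ⟨hN, hN2⟩
    have hNn : (N.map (QuotientGroup.mk' R)).Normal := Subgroup.Normal.map hN _ (QuotientGroup.mk'_surjective R)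
    rcases hNn.eq_bot_or_eq_top with h | h
    · rw [Subgroup.map_eq_bot_iff, QuotientGroup.ker_mk'] at h
      exact h
    · exfalso
      have h3 : IsPGroup 2 (⊤ : Subgroup (G ⧸ R)) := h ▸ hN2.map _
      have h4 : IsPGroup 2 S := h3.to_le le_top
      have h5 : Group.IsNilpotent S := h4.isNilpotent
      exact c.hns inferInstance
  · exact le_sSup ⟨inferInstance, c.two_group hK e⟩

theorem final (c : Ctx G v ρ R S) (hK : Fintype.card K = 27) (e : S ≃* ↥(twistedG2 K (3 ^ 1)))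
    {K' : Type*} [Field K'] [Fintype K'] (hK' : Fintype.card K' = 27) [(Cfsg.pCore 2 G).Normal] :
    (Nat.card G).primeFactors = {2, 3, 7, 13, 19, 37} ∧
      Nonempty (G ⧸ Cfsg.pCore 2 G ≃* ↥(Cfsg.Lie.twistedG2 K' 3)) := by
  constructor
  · symm
    apply Finset.eq_of_subset_of_card_le
    · rw [← GBRee.primeFactors, ← GBRee.card hK, ← Nat.card_congr e.toEquiv]
      exact Nat.primeFactors_mono (card_S_dvd S) Nat.card_pos.ne'
    · rw [c.h6]; decide
  · have htop := c.eq_top hK e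
    obtain ⟨e2⟩ := H362.ReeField.twistedG2_congr (F := K) (K := K') (by rw [hK, hK']) (3 ^ 1)
    have h31 : twistedG2 K' (3 ^ 1) = twistedG2 K' 3 := by rw [pow_one]
    exact ⟨((QuotientGroup.quotientMulEquivOfEq (c.pCore_eq hK e)).trans
      ((MulEquiv.subgroupCongr htop).trans Subgroup.topEquiv).symm).trans
      ((e.trans e2).trans (MulEquiv.subgroupCongr h31))⟩

end Cfsg.Agent.H423.GBRad.Ctx
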