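import Cfsg.Agent.H423.PGExc
import Cfsg.Agent.H423.PGPerf
import Cfsg.Agent.OddTab.D4Short
import Cfsg.Agent.ChevalleyStructure.D4Perfect
import Cfsg.Agent.S1024

/-!
`³D₄(q)`, `q ≥ 3`: a triangle in the prime graph from the torus of order `q³ - 1` of the short root `SL₂(q³)` and the
highest root subgroup.
-/

set_option autoImplicit false
set_option linter.unusedVariables false

namespace Cfsg.Agent.H423.PGD4

open Cfsg Cfsg.Lie Cfsg.Agent.ChevalleyStructure
open Cfsg.Agent.Nodes.RGDTwD4 (hp)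
open Cfsg.Agent.H423.PG Cfsg.Agent.H423.PGPerf Cfsg.Agent.H423.PGNum Cfsg.Agent.Lib.Zsigmondy
open Cfsg.Agent.OddTab.D4Short
open Cfsg.Agent.OddHalf.LongSL Cfsg.Agent.OddHalf.LongSL.Chev Cfsg.Agent.OddHalf.LongSL.Fold

variable {K : Type} [Field K]

/-- the commutator of `up 1` and `lo 1` is not scalar -/
theorem comm_ne : ∀ z : Matrix.SpecialLinearGroup (Fin 2) K, (z = 1 ∨ z = -1) →
    SL2Hom.up (1 : K) * SL2Hom.lo 1 * (SL2Hom.up 1)⁻¹ * (SL2Hom.lo 1)⁻¹ ≠ z := by
  intro z hz h
  have h1 : SL2Hom.up (1 : K) * SL2Hom.lo 1 = z * SL2Hom.lo 1 * SL2Hom.up 1 := by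
    rw [← h]; group
  have h2 : (SL2Hom.up (1 : K) * SL2Hom.lo 1).1 = (z * SL2Hom.lo 1 * SL2Hom.up 1).1 := congrArg Subtype.val h1
  rw [Matrix.SpecialLinearGroup.coe_mul, Matrix.SpecialLinearGroup.coe_mul, Matrix.SpecialLinearGroup.coe_mul] at h2
  have h3 := congrFun (congrFun h2 1) 0
  have h4 := congrFun (congrFun h2 0) 0
  rcases hz with rfl | rfl
  · simp [SL2Hom.up, SL2Hom.lo, Matrix.mul_apply, Fin.sum_univ_two] at h3 h4
  · simp [SL2Hom.up, SL2Hom.lo, Matrix.mul_apply, Fin.sum_univ_two] at h3 h4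
    have h5 : (1 : K) = 0 := by linear_combination h4 - h3
    exact one_ne_zero h5

/-- the diagonal `SL₂(K)` is not trivial -/
theorem psi_ne (φ : K →+* K) : psi φ ≠ 1 := by
  intro h
  have key : ∀ g h : Matrix.SpecialLinearGroup (Fin 2) K, ph 0 g * ph 0 h = ph 0 h * ph 0 g := by
    intro g k
    have hg : psi φ g = 1 := by rw [h]; rfl
    rw [psi_apply] at hg
    have e1 := c02 (K := K) k (Matrix.SpecialLinearGroup.map φ g)
    have e2 := c03 (K := K) k (Matrix.SpecialLinearGroup.map φ (Matrix.SpecialLinearGroup.map φ g))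
    generalize ph 2 (Matrix.SpecialLinearGroup.map φ g) = b,
      ph 3 (Matrix.SpecialLinearGroup.map φ (Matrix.SpecialLinearGroup.map φ g)) = c, ph 0 g = a, ph 0 k = d at *
    have h3 : a = c⁻¹ * b⁻¹ := by
      rw [eq_mul_inv_iff_mul_eq, eq_inv_iff_mul_eq_one]
      exact hg
    have e1' : b⁻¹ * d = d * b⁻¹ := by
      rw [inv_mul_eq_iff_eq_mul, ← mul_assoc, e1, mul_inv_cancel_right]
    have e2' : c⁻¹ * d = d * c⁻¹ := by
      rw [inv_mul_eq_iff_eq_mul, ← mul_assoc, e2, mul_inv_cancel_right]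
    rw [h3, mul_assoc, e1', ← mul_assoc, e2', mul_assoc]
  have h1 : ph (K := K) 0 (SL2Hom.up (1 : K) * SL2Hom.lo 1 * (SL2Hom.up 1)⁻¹ * (SL2Hom.lo 1)⁻¹) = 1 := by
    rw [map_mul, map_mul, map_mul, map_inv, map_inv, key, mul_inv_cancel_right, mul_inv_cancel]
  exact comm_ne _ (phi_eq_one _ h1) rfl

theorem psi_inj [Fintype K] (h4 : 4 ≤ Fintype.card K) (φ : K →+* K) : Function.Injective (psi φ) := by
  by_cases h2 : (2 : K) ≠ 0
  · exact psi_injective φ h2
  push Not at h2
  rw [injective_iff_map_eq_one]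
  intro g hg
  have h1 := ker_le_center (Cfsg.Agent.TwoFusion.SLTwoFacts.commutator_eq_top (by omega))
    (Cfsg.Agent.TwoFusion.SLTwoFacts.isSimpleGroup_psl (by omega)) (psi φ) (psi_ne φ) (MonoidHom.mem_ker.2 hg)
  obtain ⟨r, hr, hrg⟩ := Matrix.SpecialLinearGroup.mem_center_iff.1 h1
  rw [Fintype.card_fin] at hr
  have hr1 : r = 1 := by
    rcases sq_eq_one_iff.1 hr with h | h
    · exact h
    · rw [h]
      linear_combination -h2
  apply Subtype.ext
  rw [← hrg, hr1, map_one]
  rfl

/-- diagonal elements -/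
def dgf (z : Kˣ) : Matrix.SpecialLinearGroup (Fin 2) K :=
  ⟨!![(z : K), 0; 0, ((z⁻¹ : Kˣ) : K)], by simp [Matrix.det_fin_two]⟩

/-- diagonal elements -/
noncomputable def dg (K : Type) [Field K] : Kˣ →* Matrix.SpecialLinearGroup (Fin 2) K :=
  MonoidHom.mk' dgf (by
    intro a b
    apply Matrix.SpecialLinearGroup.ext
    intro i j
    rw [Matrix.SpecialLinearGroup.coe_mul, Matrix.mul_apply, Fin.sum_univ_two]
    fin_cases i <;> fin_cases j <;> simp [dgf, mul_comm])

theorem dg_injective : Function.Injective (dg K) := by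
  intro a b h
  have h1 : (dg K a) 0 0 = (dg K b) 0 0 := by rw [h]
  exact Units.ext (by simpa [dg, dgf] using h1)

theorem chk23 : chevD4.commTerms 18 23 = [] ∧ chevD4.commTerms 13 23 = [] ∧ chevD4.commTerms 12 23 = [] ∧
    chevD4.commTerms 5 23 = [] ∧ chevD4.commTerms 10 23 = [] ∧ chevD4.commTerms 11 23 = [] := by decide +kernel

theorem comm_up (φ : K →+* K) (t u : K) : Elts.xG hp.inList 23 u * psi φ (SL2Hom.up t) =
    psi φ (SL2Hom.up t) * Elts.xG hp.inList 23 u := by
  rw [psi_apply, map_up', map_up', ph0_up, ph2_up, ph3_up]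
  obtain ⟨c1, c2, c3, c4, c5, c6⟩ := chk23
  exact comm_three (comm_x (by norm_num) (by norm_num) (by norm_num) (by decide +kernel) c1 _ _).symm
    (comm_x (by norm_num) (by norm_num) (by norm_num) (by decide +kernel) c2 _ _).symm
    (comm_x (by norm_num) (by norm_num) (by norm_num) (by decide +kernel) c3 _ _).symm

theorem comm_lo (φ : K →+* K) (t u : K) : Elts.xG hp.inList 23 u * psi φ (SL2Hom.lo t) =
    psi φ (SL2Hom.lo t) * Elts.xG hp.inList 23 u := by
  rw [psi_apply, map_lo', map_lo', ph0_lo, ph2_lo, ph3_lo]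
  obtain ⟨c1, c2, c3, c4, c5, c6⟩ := chk23
  exact comm_three (comm_x (by norm_num) (by norm_num) (by norm_num) (by decide +kernel) c4 _ _).symm
    (comm_x (by norm_num) (by norm_num) (by norm_num) (by decide +kernel) c5 _ _).symm
    (comm_x (by norm_num) (by norm_num) (by norm_num) (by decide +kernel) c6 _ _).symm

theorem comm_psi (φ : K →+* K) (u : K) (g : Matrix.SpecialLinearGroup (Fin 2) K) :
    Elts.xG hp.inList 23 u * psi φ g = psi φ g * Elts.xG hp.inList 23 u :=
  commute_range (psi φ) (fun t => comm_up φ t u) (fun t => comm_lo φ t u) _ ⟨g, rfl⟩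

/-- **`³D₄(q)`** -/
theorem td4 [Fintype K] {q : ℕ} (hq : IsPrimePow q) (hK : Fintype.card K = q ^ 3) : ¬ Five ↥(twistedD4 K q) := by
  have hq2 := hq.two_le
  rcases Nat.lt_or_ge q 3 with h | h3
  · have hq2 : q = 2 := by omega
    subst hq2
    apply not_five_of_le_four
    rw [S1067.result hq hK]
    refine (card_primeFactors_le_of_dvd (L := {2, 3, 7, 13}) ?_).trans (by decide)
    intro p hp hd
    have h1 : p ∣ (2 * 3 * 7 * 13) ^ 12 := hd.trans (by norm_num)
    have h2 := hp.dvd_of_dvd_pow h1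
    simp only [Finset.mem_insert, Finset.mem_singleton]
    rcases (Nat.Prime.dvd_mul hp).1 h2 with h | h
    · rcases (Nat.Prime.dvd_mul hp).1 h with h | h
      · rcases (Nat.Prime.dvd_mul hp).1 h with h | h
        · exact Or.inl ((Nat.prime_dvd_prime_iff_eq hp (by norm_num)).1 h)
        · exact Or.inr (Or.inl ((Nat.prime_dvd_prime_iff_eq hp (by norm_num)).1 h))
      · exact Or.inr (Or.inr (Or.inl ((Nat.prime_dvd_prime_iff_eq hp (by norm_num)).1 h)))
    · exact Or.inr (Or.inr (Or.inr ((Nat.prime_dvd_prime_iff_eq hp (by norm_num)).1 h)))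
  · classical
    obtain ⟨φ, hφ⟩ := D4Fixed.exists_frob hq hK
    obtain ⟨p, hpc⟩ := CharP.exists K
    have hpp : p.Prime := (CharP.char_is_prime_or_zero K p).resolve_right (CharP.char_ne_zero_of_finite K p)
    have : Fact p.Prime := ⟨hpp⟩
    have h4 : 4 ≤ Fintype.card K := by
      rw [hK]
      have := Nat.pow_le_pow_left h3 3
      omega
    have hinj := psi_inj h4 φ
    have hpK : p ∣ q ^ 3 := by
      obtain ⟨n, -, hn⟩ := FiniteField.card K p
      rw [← hK, hn]
      exact dvd_pow_self p n.ne_zero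
    have hpq : p ∣ q := hpp.dvd_of_dvd_pow hpK
    let ψ : Matrix.SpecialLinearGroup (Fin 2) K →* ↥(twistedD4 K q) :=
      (psi φ).codRestrict (twistedD4 K q) (psi_mem φ hφ)
    have hψ : ∀ g, (ψ g : GL chevD4.Idx K) = psi φ g := fun g => rfl
    have hψinj : Function.Injective ψ := fun a b hab => hinj (congrArg Subtype.val hab)
    -- the element of order p
    have hx : Elts.xG (F := K) hp.inList 23 1 ∈ twistedD4 K q := by
      rw [Cfsg.Agent.Nodes.RGDTwD4.xG_eq]
      exact D4Perfect.C_le (D4Perfect.x23_mem_C hφ (map_one φ))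
    set x : ↥(twistedD4 K q) := ⟨_, hx⟩ with hxdef
    have hox : orderOf x = p := by
      apply orderOf_eq_prime
      · apply Subtype.ext
        show (Elts.xG (F := K) hp.inList 23 1) ^ p = 1
        have hn : ∀ n : ℕ, (Elts.xG (F := K) hp.inList 23 1) ^ n = Elts.xG hp.inList 23 (n : K) := by
          intro n
          induction n with
          | zero => rw [pow_zero, Nat.cast_zero, Elts.xG_zero]
          | succ n ih => rw [pow_succ, ih, Elts.xG_add, Nat.cast_succ]
        rw [hn, CharP.cast_eq_zero, Elts.xG_zero]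
      · intro h1
        have h2 : Elts.xG (F := K) hp.inList 23 1 = 1 := congrArg Subtype.val h1
        have h5 : chevD4.x K 23 1 = 1 := congrArg Units.val h2
        exact one_ne_zero ((S1024.result (F := K) chevD4 (by simp) 23 (by decide) 1).1 h5)
    -- primes
    obtain ⟨s, hs, hsq⟩ := Nat.exists_prime_and_dvd (n := q - 1) (by omega)
    obtain ⟨t, ht, hot⟩ := exists_prime_orderOf (a := q) (n := 3) (by omega) (by norm_num) (by omega) (by omega)
    have htq : t ∣ q ^ 3 - 1 := by rw [dvd_pow_sub_one_iff (by omega), hot]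
    have hsq3 : s ∣ q ^ 3 - 1 := by
      have := PGExc.sub_dvd (a := q) (n := 1) (m := 3) (by norm_num)
      rw [pow_one] at this
      exact hsq.trans this
    have hps : p ≠ s := by
      rintro rfl
      have h6 : p ∣ q - (q - 1) := Nat.dvd_sub hpq hsq
      have h7 : q - (q - 1) = 1 := by omega
      rw [h7] at h6
      exact hpp.one_lt.ne' (Nat.dvd_one.1 h6)
    have hpt : p ≠ t := by
      rintro rfl
      rw [ord_zero hpp hpq] at hot
      omega
    have hst : s ≠ t := by
      rintro rfl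
      have h8 : s ∣ q ^ 1 - 1 := by rwa [pow_one]
      rw [dvd_pow_sub_one_iff (by omega), hot] at h8
      omega
    have hunit : ∀ r : ℕ, r.Prime → r ∣ q ^ 3 - 1 → ∃ g : Kˣ, orderOf g = r := by
      intro r hr hd
      have := Fact.mk hr
      apply exists_prime_orderOf_dvd_card' r
      rw [Nat.card_units, Nat.card_eq_fintype_card, hK]
      exact hd
    obtain ⟨a, ha⟩ := hunit s hs hsq3
    obtain ⟨b, hb⟩ := hunit t ht htq
    have hoa : orderOf (ψ (dg K a)) = s := by
      rw [orderOf_injective ψ hψinj, orderOf_injective (dg K) dg_injective, ha]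
    have hob : orderOf (ψ (dg K b)) = t := by
      rw [orderOf_injective ψ hψinj, orderOf_injective (dg K) dg_injective, hb]
    refine not_five_of_triangle hpp hs ht hps hpt hst (adj_of_commute hpp hs hps hox hoa ?_)
      (adj_of_commute hpp ht hpt hox hob ?_) (adj_of_commute hs ht hst hoa hob ?_)
    · exact Subtype.ext (comm_psi φ 1 (dg K a))
    · exact Subtype.ext (comm_psi φ 1 (dg K b))
    · show ψ _ * ψ _ = ψ _ * ψ _
      rw [← map_mul, ← map_mul, ← map_mul, ← map_mul, mul_comm]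

end Cfsg.Agent.H423.PGD4
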