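import Cfsg.Agent.H423.PGExc
import Cfsg.Agent.ETable.Exc
import Cfsg.Agent.SolvableStructure.HallConverse
import Cfsg.Agent.S1024

/-!
`F₄(2)`: a triangle in the prime graph: `SL₂(2)` of a root commutes with the perfect group generated by the root elements
of an orthogonal `A₂`.
-/

set_option autoImplicit false
set_option linter.unusedVariables false

namespace Cfsg.Agent.H423.PGFTwo

open Cfsg Cfsg.Lie Cfsg.Agent.ChevalleyStructure Cfsg.Agent.ChevalleyStructure.Elts
open Cfsg.Agent.ETable.Exc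
open Cfsg.Agent.H423.PG
open scoped commutatorElement

universe u

section

variable {D : ChevalleyDatum} {F : Type u} [Field F]

theorem comm_one (hD : InList D) {r s k : ℕ} {c : ℤ} (hr : r < D.nroots) (hs : s < D.nroots) (hrs : s ≠ r)
    (hneg : s ≠ D.neg r) (h : D.commTerms r s = [(k, c, 1, 1)]) (hc : c = 1 ∨ c = -1) (h2 : (2 : F) = 0) :
    xG (F := F) hD k 1 = ⁅(xG (F := F) hD s 1)⁻¹, (xG (F := F) hD r 1)⁻¹⁆ := by
  have h1 := Cfsg.Agent.S1025.result (F := F) D hD r s hr hs hrs hneg 1 1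
  rw [ChevalleyDatum.commWord, h, List.map_cons, List.map_nil, wordMat_cons, wordMat_nil, mul_one] at h1
  have hc1 : ((c : ℤ) : F) * (-1) ^ 1 * 1 ^ 1 = 1 := by
    rcases hc with rfl | rfl
    · push_cast; linear_combination -h2
    · push_cast; ring
  have h3 : xG (F := F) hD s 1 * xG hD r 1 = xG hD r 1 * xG hD s 1 * xG hD k 1 := by
    apply Units.ext
    refine h1.trans ?_
    show D.x F r 1 * D.x F s 1 * D.x F k _ = D.x F r 1 * D.x F s 1 * D.x F k 1
    simp only [hc1]
  rw [commutatorElement_def, inv_inv, inv_inv]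
  have h4 : xG (F := F) hD k 1 = (xG hD s 1)⁻¹ * (xG hD r 1)⁻¹ * (xG hD s 1 * xG hD r 1) := by
    rw [h3]; group
  rw [h4]; group

/-- the root element in the group -/
noncomputable def X (hD : InList D) (F : Type u) [Field F] (r : ℕ) : ↥(D.group F) := ⟨xG hD r 1, xG_mem_group _ _ _⟩

theorem X_comm (hD : InList D) {r s k : ℕ} {c : ℤ} (hr : r < D.nroots) (hs : s < D.nroots) (hrs : s ≠ r)
    (hneg : s ≠ D.neg r) (h : D.commTerms r s = [(k, c, 1, 1)]) (hc : c = 1 ∨ c = -1) (h2 : (2 : F) = 0) :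
    X hD F k = ⁅(X hD F s)⁻¹, (X hD F r)⁻¹⁆ := Subtype.ext (comm_one hD hr hs hrs hneg h hc h2)

theorem X_sq (hD : InList D) (r : ℕ) (h2 : (2 : F) = 0) : X hD F r ^ 2 = 1 := by
  apply Subtype.ext
  show xG hD r 1 ^ 2 = 1
  rw [xG_pow, Nat.cast_two, h2, Elts.xG_zero]

theorem X_ne (hD : InList D) {r : ℕ} (hr : r < D.nroots) : X hD F r ≠ 1 := by
  intro h
  have h2 : xG (F := F) hD r 1 = 1 := congrArg Subtype.val h
  have h5 : D.x F r 1 = 1 := congrArg Units.val h2
  exact one_ne_zero ((S1024.result (F := F) D hD r hr 1).1 h5)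

theorem closure_commute {G : Type*} [Group G] (S T : Set G) (h : ∀ s ∈ S, ∀ t ∈ T, s * t = t * s) :
    ∀ a ∈ Subgroup.closure S, ∀ b ∈ Subgroup.closure T, a * b = b * a := by
  have h1 : ∀ s ∈ S, Subgroup.closure T ≤ Subgroup.centralizer {s} := by
    intro s hs
    rw [Subgroup.closure_le]
    intro t ht
    exact Subgroup.mem_centralizer_singleton_iff.2 (h s hs t ht).symm
  intro a ha b hb
  have h2 : Subgroup.closure S ≤ Subgroup.centralizer {b} := by
    rw [Subgroup.closure_le]
    intro s hs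
    exact Subgroup.mem_centralizer_singleton_iff.2
      (Subgroup.mem_centralizer_singleton_iff.1 (h1 s hs hb)).symm
  exact Subgroup.mem_centralizer_singleton_iff.1 (h2 ha)

/-- a closed set of generators each of which is a commutator of two others generates a perfect group -/
theorem closure_perfect {G : Type*} [Group G] (T : Set G)
    (h : ∀ t ∈ T, ∃ a ∈ Subgroup.closure T, ∃ b ∈ Subgroup.closure T, t = ⁅a, b⁆) :
    ⁅Subgroup.closure T, Subgroup.closure T⁆ = Subgroup.closure T := by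
  refine le_antisymm (Subgroup.commutator_le_self _) ?_
  rw [Subgroup.closure_le]
  intro t ht
  obtain ⟨a, ha, b, hb, rfl⟩ := h t ht
  exact Subgroup.commutator_mem_commutator ha hb

theorem not_solvable_of_perfect {G : Type*} [Group G] (B : Subgroup G) (h : ⁅B, B⁆ = B) (hB : B ≠ ⊥) :
    ¬ Group.IsSolvable B := by
  intro hs
  have h1 : commutator B = ⊤ := by
    apply Subgroup.map_injective B.subtype_injective
    rw [commutator_def, Subgroup.map_commutator, ← MonoidHom.range_eq_map, Subgroup.range_subtype, h]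
  have : Nontrivial B := (Subgroup.nontrivial_iff_ne_bot B).2 hB
  have h2 := Group.IsSolvable.commutator_lt_top_of_nontrivial B
  rw [h1] at h2
  exact lt_irrefl _ h2

end

theorem chkA : chevF4.neg 28 = 19 ∧ chevF4.neg 34 = 13 ∧ chevF4.neg 37 = 10 ∧ chevF4.neg 47 = 0 ∧
    chevF4.neg 19 = 28 ∧ chevF4.neg 13 = 34 ∧ chevF4.neg 10 = 37 := by decide +kernel

theorem chkB : ∀ r ∈ [47, 0], ∀ s ∈ [28, 34, 37, 19, 13, 10], so chevF4 r s = true := by decide +kernel

theorem chkC : ∀ p ∈ [(37, 28, 34), (28, 37, 13), (34, 37, 19), (10, 19, 13), (19, 10, 34), (13, 10, 28)],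
    p.2.1 ∈ [28, 34, 37, 19, 13, 10] ∧ p.2.2 ∈ [28, 34, 37, 19, 13, 10] ∧ p.2.2 ≠ p.2.1 ∧ p.2.2 ≠ chevF4.neg p.2.1 ∧
    (chevF4.commTerms p.2.1 p.2.2 = [(p.1, 1, 1, 1)] ∨ chevF4.commTerms p.2.1 p.2.2 = [(p.1, -1, 1, 1)]) := by
  decide +kernel

theorem chkD : ∀ s ∈ [28, 34, 37, 19, 13, 10], s < chevF4.nroots ∧
    ∃ p ∈ [(37, 28, 34), (28, 37, 13), (34, 37, 19), (10, 19, 13), (19, 10, 34), (13, 10, 28)], p.1 = s := by
  decide +kernel

/-- **`F₄(2)`** -/
theorem f4_two {F : Type u} [Field F] [Fintype F] (h2 : (2 : F) = 0) : ¬ Five ↥(chevF4.group F) := by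
  have hD := inList_F4
  set S : Set ↥(chevF4.group F) := {g | ∃ r ∈ [47, 0], g = X hD F r} with hS
  set T : Set ↥(chevF4.group F) := {g | ∃ r ∈ [28, 34, 37, 19, 13, 10], g = X hD F r} with hT
  have hcomm : ∀ a ∈ Subgroup.closure S, ∀ b ∈ Subgroup.closure T, a * b = b * a := by
    apply closure_commute
    rintro _ ⟨r, hr, rfl⟩ _ ⟨s, hs, rfl⟩
    exact Subtype.ext (comm_of_so hD (chkB r hr s hs) 1 1)
  have hperf : ⁅Subgroup.closure T, Subgroup.closure T⁆ = Subgroup.closure T := by
    apply closure_perfect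
    rintro _ ⟨s, hs, rfl⟩
    obtain ⟨hs48, ⟨k, r, t⟩, hp, hk⟩ := chkD s hs
    obtain ⟨h1, h3, h4, h5, h6⟩ := chkC _ hp
    simp only at hk h1 h3 h4 h5 h6
    subst hk
    refine ⟨(X hD F t)⁻¹, inv_mem (Subgroup.subset_closure ⟨t, h3, rfl⟩), (X hD F r)⁻¹,
      inv_mem (Subgroup.subset_closure ⟨r, h1, rfl⟩), ?_⟩
    rcases h6 with h6 | h6
    · exact X_comm hD (chkD r h1).1 (chkD t h3).1 h4 h5 h6 (Or.inl rfl) h2
    · exact X_comm hD (chkD r h1).1 (chkD t h3).1 h4 h5 h6 (Or.inr rfl) h2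
  have hBne : Subgroup.closure T ≠ ⊥ := by
    intro h
    have h1 : X hD F 28 ∈ Subgroup.closure T := Subgroup.subset_closure ⟨28, by simp, rfl⟩
    rw [h, Subgroup.mem_bot] at h1
    exact X_ne hD (by decide +kernel) h1
  have hns := not_solvable_of_perfect _ hperf hBne
  have h3 : 3 ≤ (Nat.card (Subgroup.closure T)).primeFactors.card := by
    by_contra hcon
    exact hns (Cfsg.Agent.SolvableStructure.HallConverse.isSolvable_of_no_three_primes (by omega))
  obtain ⟨t, ht, htn⟩ : ∃ t ∈ (Nat.card (Subgroup.closure T)).primeFactors, t ∉ ({2, 3} : Finset ℕ) := by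
    by_contra hcon
    push Not at hcon
    have := Finset.card_le_card (show (Nat.card (Subgroup.closure T)).primeFactors ⊆ {2, 3} from hcon)
    have h4 : ({2, 3} : Finset ℕ).card = 2 := by decide
    omega
  simp only [Finset.mem_insert, Finset.mem_singleton, not_or] at htn
  have htp := Nat.prime_of_mem_primeFactors ht
  have htd := Nat.dvd_of_mem_primeFactors ht
  have o2 : ∀ r, r < chevF4.nroots → orderOf (X hD F r) = 2 := fun r hr =>
    orderOf_eq_prime (X_sq hD r h2) (X_ne hD hr)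
  have hB2 : 2 ∣ Nat.card (Subgroup.closure T) := by
    have := Subgroup.orderOf_dvd_natCard (Subgroup.closure T) (x := X hD F 28)
      (Subgroup.subset_closure ⟨28, by simp, rfl⟩)
    rwa [o2 28 (by decide +kernel)] at this
  have hA2 : 2 ∣ Nat.card (Subgroup.closure S) := by
    have := Subgroup.orderOf_dvd_natCard (Subgroup.closure S) (x := X hD F 47)
      (Subgroup.subset_closure ⟨47, by simp, rfl⟩)
    rwa [o2 47 (by decide +kernel)] at this
  have hA3 : 3 ∣ Nat.card (Subgroup.closure S) := by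
    have h47 : (47 : ℕ) < chevF4.nroots := by decide +kernel
    have hneg : chevF4.neg 47 = 0 := chkA.2.2.2.1
    have e1 : (X hD F 47 * X hD F 0) ^ 3 = 1 := by
      apply Subtype.ext
      have := z_pow_three (F := F) hD h47 h2
      rw [hneg] at this
      exact this
    have e2 : X hD F 47 * X hD F 0 ≠ 1 := by
      intro h
      have h5 := not_comm_two (F := F) hD h47 h2
      rw [hneg] at h5
      apply h5
      have h6 : xG (F := F) hD 47 1 * xG hD 0 1 = 1 := congrArg Subtype.val h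
      rw [h6, one_mul, mul_one]
    have := Subgroup.orderOf_dvd_natCard (Subgroup.closure S) (x := X hD F 47 * X hD F 0)
      (mul_mem (Subgroup.subset_closure ⟨47, by simp, rfl⟩) (Subgroup.subset_closure ⟨0, by simp, rfl⟩))
    rwa [orderOf_eq_prime e1 e2] at this
  exact not_five_of_commute hcomm (r := 3) (s := 2) (t := t) (by norm_num) (by norm_num) htp (by norm_num)
    (fun h => htn.2 h.symm) (fun h => htn.1 h.symm) hA3 hA2 hB2 htd

theorem f4 {F : Type u} [Field F] [Fintype F] : ¬ Five ↥(chevF4.group F) := by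
  rcases Nat.lt_or_ge (Fintype.card F) 3 with h | h
  · apply f4_two
    have h1 : Fintype.card F = 2 := by
      have := PGExc.two_le_card F
      omega
    have h3 := FiniteField.cast_card_eq_zero F
    rwa [h1, Nat.cast_two] at h3
  · exact not_five_of_seven_le (PGExc.f4 h)

end Cfsg.Agent.H423.PGFTwo
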