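import Cfsg.Agent.H423.PGExc
import Cfsg.Agent.H423.PGPerf
import Cfsg.Agent.ClassificationK.GTwoChev
import Cfsg.Agent.S1024

/-!
`G₂(q)`: commuting subgroups `SL₂(q)` of a long and a short root.
-/

set_option autoImplicit false
set_option linter.unusedVariables false

namespace Cfsg.Agent.H423.PGG2

open Cfsg Cfsg.Agent.H423.PG Cfsg.Agent.H423.PGPerf Cfsg.Agent.ClassificationK.GTwoChev

theorem g2 {F : Type*} [Field F] [Fintype F] (h3 : 3 ≤ Fintype.card F) : ¬ Five ↥(Cfsg.Lie.chevG2.group F) := by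
  rcases Nat.lt_or_ge (Fintype.card F) 4 with h | h
  · have hq : Fintype.card F = 3 := by omega
    apply not_five_of_le_four
    rw [S1059.result hq]
    refine (card_primeFactors_le_of_dvd (L := {2, 3, 7, 13}) ?_).trans (by decide)
    intro p hp hd
    have h1 : p ∣ (2 * 3 * 7 * 13) ^ 6 := hd.trans (by norm_num)
    have h2 := hp.dvd_of_dvd_pow h1
    simp only [Finset.mem_insert, Finset.mem_singleton]
    rcases (Nat.Prime.dvd_mul hp).1 h2 with h | h
    · rcases (Nat.Prime.dvd_mul hp).1 h with h | h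
      · rcases (Nat.Prime.dvd_mul hp).1 h with h | h
        · exact Or.inl ((Nat.prime_dvd_prime_iff_eq hp (by norm_num)).1 h)
        · exact Or.inr (Or.inl ((Nat.prime_dvd_prime_iff_eq hp (by norm_num)).1 h))
      · exact Or.inr (Or.inr (Or.inl ((Nat.prime_dvd_prime_iff_eq hp (by norm_num)).1 h)))
    · exact Or.inr (Or.inr (Or.inr ((Nat.prime_dvd_prime_iff_eq hp (by norm_num)).1 h)))
  · refine not_five_of_SL2 h (ph11 F) (ph7 F) ?_ ?_ (fun a b => comm a b)
    · intro h1
      have h2 := m11u (F := F) 1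
      rw [h1, MonoidHom.one_apply, mat_one] at h2
      exact one_ne_zero ((S1024.result (F := F) Cfsg.Lie.chevG2 (by simp) 11 (by decide) 1).1 h2.symm)
    · intro h1
      have h2 := m7u (F := F) 1
      rw [h1, MonoidHom.one_apply, mat_one] at h2
      exact one_ne_zero ((S1024.result (F := F) Cfsg.Lie.chevG2 (by simp) 7 (by decide) 1).1 h2.symm)

end Cfsg.Agent.H423.PGG2
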