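import Cfsg.Agent.H423.PGExc

/-!
`²F₄(q)` has at least seven prime divisors; a Ree group `²G₂(q)` with at most six prime divisors has `q = 27`.
-/

set_option autoImplicit false
set_option linter.unusedVariables false

namespace Cfsg.Agent.H423.PGRee

open Cfsg Cfsg.Agent.H423.PG Cfsg.Agent.H423.PGNum Cfsg.Agent.H423.PGExc Cfsg.Agent.Lib.Zsigmondy

theorem tf4 {K : Type*} [Field K] [Fintype K] {m : ℕ} (hm : 1 ≤ m) (hK : Fintype.card K = 2 ^ (2 * m + 1)) :
    7 ≤ (Nat.card ↥(Cfsg.Lie.twistedF4 K (2 ^ m))).primeFactors.card := by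
  have hN := S1068.result (K := K) hK
  set N := Nat.card ↥(Cfsg.Lie.twistedF4 K (2 ^ m)) with hNdef
  obtain ⟨n, hn⟩ : ∃ n, n = 2 * m + 1 := ⟨_, rfl⟩
  rw [← hn] at hN
  have h1 : (2 ^ n) ^ 4 - 1 ∣ N := by rw [hN]; exact (Dvd.intro_left _ rfl).mul_right _
  have h2 : (2 ^ n) ^ 6 + 1 ∣ N := by rw [hN]; exact Dvd.intro_left _ rfl
  have h3 : (2 ^ n) ^ 3 + 1 ∣ N := by
    rw [hN]; exact ((Dvd.intro_left _ rfl).mul_right _).mul_right _
  have h4 : 2 ^ n - 1 ∣ N := by
    rw [hN]; exact (((Dvd.intro_left _ rfl).mul_right _).mul_right _).mul_right _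
  have h5 : 2 ∣ N := by
    rw [hN]
    refine ((((dvd_pow ?_ (by norm_num)).mul_right _).mul_right _).mul_right _).mul_right _
    exact dvd_pow_self 2 (by omega)
  have hN0 : N ≠ 0 := by
    rw [hN]
    have e1 : 1 < 2 ^ n := Nat.one_lt_pow (by omega) (by norm_num)
    have e2 : 1 < (2 ^ n) ^ 4 := Nat.one_lt_pow (by norm_num) e1
    have e3 : 2 ^ n - 1 ≠ 0 := by omega
    have e4 : (2 ^ n) ^ 4 - 1 ≠ 0 := by omega
    have e5 : (2 ^ n) ^ 12 ≠ 0 := pow_ne_zero _ (by omega)
    positivity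
  have hg : 1 * N = N := one_mul N
  rw [← pow_mul, mul_comm n] at h1 h2 h3
  have key : ({0, 2, 4, n, 4 * n, 2 * (3 * n), 2 * (6 * n)} : Finset ℕ).card ≤ N.primeFactors.card := by
    apply card_ge (a := 2) hN0
    intro k hk
    simp only [Finset.mem_insert, Finset.mem_singleton] at hk
    rcases hk with rfl | rfl | rfl | rfl | rfl | rfl | rfl
    · exact pchar Nat.prime_two (dvd_refl _) le_rfl h5 hg (one_dvd _)
    · obtain ⟨r, hr, ho⟩ := exists_prime_orderOf (a := 2) (n := 2) le_rfl le_rfl (by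
        rintro - ⟨k, hk⟩
        rcases k with _ | _ | k
        · norm_num at hk
        · norm_num at hk
        · rw [pow_add] at hk
          omega) (by omega)
      refine ⟨r, hr, ?_, ho⟩
      refine Dvd.dvd.trans ?_ h1
      rw [dvd_pow_sub_one_iff (by norm_num), ho]
      exact ⟨2 * n, by ring⟩
    · exact zsig le_rfl (by norm_num) (by omega) ((sub_dvd ⟨n, rfl⟩).trans h1) hg (one_dvd _)
    · exact zsig le_rfl (by omega) (by omega) h4 hg (one_dvd _)
    · exact zsig le_rfl (by omega) (by omega) h1 hg (one_dvd _)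
    · exact zsig' le_rfl (by omega) (by omega) h3 hg (one_dvd _)
    · exact zsig' le_rfl (by omega) (by omega) h2 hg (one_dvd _)
  refine le_trans ?_ key
  rw [Finset.card_insert_of_notMem, Finset.card_insert_of_notMem, Finset.card_insert_of_notMem,
    Finset.card_insert_of_notMem, Finset.card_insert_of_notMem, Finset.card_insert_of_notMem, Finset.card_singleton]
  all_goals
    simp only [Finset.mem_insert, Finset.mem_singleton]
    omega

/-- `3 ^ (m + 1) ∣ 7 ^ k - 1` implies `3 ^ m ∣ k` -/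
theorem three_pow_dvd {m k : ℕ} (hk : k ≠ 0) (h : 3 ^ (m + 1) ∣ 7 ^ k - 1) : 3 ^ m ∣ k := by
  have h3 : Fact (Nat.Prime 3) := ⟨by norm_num⟩
  have h1 := padicValNat.pow_sub_pow (p := 3) (x := 7) (y := 1) (by decide) (by norm_num) (by norm_num) (by norm_num) hk
  rw [one_pow] at h1
  have h2 : padicValNat 3 (7 - 1) = 1 := by
    have : (7 - 1 : ℕ) = 3 * 2 := by norm_num
    rw [this, padicValNat.mul (by norm_num) (by norm_num), padicValNat.self (by norm_num),
      padicValNat.eq_zero_of_not_dvd (by norm_num)]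
  have h4 : 7 ^ k - 1 ≠ 0 := by
    have : 1 < 7 ^ k := Nat.one_lt_pow hk (by norm_num)
    omega
  have h5 : m + 1 ≤ padicValNat 3 (7 ^ k - 1) := (padicValNat_dvd_iff_le h4).1 h
  exact (padicValNat_dvd_iff_le hk).2 (by omega)

theorem no_seven {m k : ℕ} (hm : 2 ≤ m) (h : 7 ^ k = 3 ^ (m + 1) * (3 ^ m - 1) + 1 ∨
    7 ^ k = 3 ^ (m + 1) * (3 ^ m + 1) + 1) : False := by
  have h3m : 1 < 3 ^ m := Nat.one_lt_pow (by omega) (by norm_num)
  have h1 : 3 ^ (m + 1) ∣ 7 ^ k - 1 := by
    rcases h with h | h <;> rw [h, Nat.add_sub_cancel] <;> exact Dvd.intro _ rfl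
  have hk : k ≠ 0 := by
    rintro rfl
    rw [pow_zero] at h
    have h9 : 0 < 3 ^ (m + 1) := by positivity
    rcases h with h | h
    · have : 3 ^ (m + 1) * (3 ^ m - 1) ≠ 0 := mul_ne_zero (by omega) (by omega)
      omega
    · have : 3 ^ (m + 1) * (3 ^ m + 1) ≠ 0 := mul_ne_zero (by omega) (by omega)
      omega
  have h2 := Nat.le_of_dvd (Nat.pos_of_ne_zero hk) (three_pow_dvd hk h1)
  have h3 : 7 ^ k ≤ 3 ^ (m + 1) * (3 ^ m + 1) + 1 := by
    rcases h with h | h
    · rw [h]
      have : 3 ^ m - 1 ≤ 3 ^ m + 1 := by omega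
      exact Nat.add_le_add_right (Nat.mul_le_mul_left _ this) 1
    · exact h.le
  have h4 : 3 ^ (m + 1) * (3 ^ m + 1) + 1 < 3 ^ (2 * m + 3) := by
    have e1 : 3 ^ (2 * m + 3) = 3 ^ (m + 1) * (9 * 3 ^ m) := by
      rw [show 2 * m + 3 = (m + 1) + (2 + m) by ring, pow_add, pow_add 3 2 m]
      norm_num
    rw [e1]
    have e2 : 3 ^ m + 1 + 1 ≤ 9 * 3 ^ m := by omega
    have e3 : 0 < 3 ^ (m + 1) := by positivity
    have e4 := Nat.mul_le_mul_left (3 ^ (m + 1)) e2
    have e5 : 3 ^ (m + 1) * (3 ^ m + 1 + 1) = 3 ^ (m + 1) * (3 ^ m + 1) + 3 ^ (m + 1) := by ring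
    have e6 : 1 < 3 ^ (m + 1) := Nat.one_lt_pow (by omega) (by norm_num)
    omega
  have h5 : 2 * m + 3 ≤ 3 ^ m := by
    clear h h1 h2 h3 h4 hk
    induction m, hm using Nat.le_induction with
    | base => norm_num
    | succ m hm ih =>
      have := ih (Nat.one_lt_pow (by omega) (by norm_num))
      rw [pow_succ]
      omega
  have h6 : 3 ^ (2 * m + 3) ≤ 7 ^ k :=
    (Nat.pow_le_pow_left (by norm_num) _).trans (Nat.pow_le_pow_right (by norm_num) (h5.trans h2))
  omega

/-- order of `3` modulo a prime divisor of `3 ^ n + 1` or `3 ^ n - 1`... -/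
theorem ree {K : Type*} [Field K] [Fintype K] {m : ℕ} (hm : 1 ≤ m) (hK : Fintype.card K = 3 ^ (2 * m + 1))
    (h6 : (Nat.card ↥(Cfsg.Lie.twistedG2 K (3 ^ m))).primeFactors.card ≤ 6) : m = 1 := by
  by_contra hm1
  have hm2 : 2 ≤ m := by omega
  have hN := S1069.result (K := K) hK
  set N := Nat.card ↥(Cfsg.Lie.twistedG2 K (3 ^ m)) with hNdef
  obtain ⟨n, hn⟩ : ∃ n, n = 2 * m + 1 := ⟨_, rfl⟩
  rw [← hn] at hN
  have hodd : Odd n := ⟨m, hn⟩
  have e1 : 1 < 3 ^ n := Nat.one_lt_pow (by omega) (by norm_num)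
  have hd1 : 3 ^ n - 1 ∣ N := by rw [hN]; exact (Dvd.intro_left _ rfl).mul_right _
  have hd3 : (3 ^ n) ^ 3 + 1 ∣ N := by rw [hN]; exact Dvd.intro_left _ rfl
  have hp3 : 3 ∣ N := by
    rw [hN]
    refine ((dvd_pow ?_ (by norm_num)).mul_right _).mul_right _
    exact dvd_pow_self 3 (by omega)
  have hN0 : N ≠ 0 := by
    rw [hN]
    have e3 : 3 ^ n - 1 ≠ 0 := by omega
    have e5 : (3 ^ n) ^ 3 ≠ 0 := pow_ne_zero _ (by omega)
    positivity
  have hg : 1 * N = N := one_mul N
  have hd3' : 3 ^ (3 * n) + 1 ∣ N := by rwa [← pow_mul, mul_comm n] at hd3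
  have h28 : 3 ^ 3 + 1 ∣ N := by
    refine Dvd.dvd.trans ?_ hd3'
    have := Odd.nat_add_dvd_pow_add_pow (3 ^ 3) 1 hodd
    rwa [one_pow, ← pow_mul] at this
  have hn1 : 3 ^ n + 1 ∣ N := by
    refine Dvd.dvd.trans ?_ hd3
    have := Odd.nat_add_dvd_pow_add_pow (3 ^ n) 1 (n := 3) (by decide)
    rwa [one_pow] at this
  have h2N : 2 ∣ N := Dvd.dvd.trans (by norm_num) h28
  have o2 : orderOf ((3 : ℕ) : ZMod 2) = 1 := by
    rw [orderOf_eq_one_iff]
    decide
  by_cases h3n : 3 ∣ n
  · have hn9 : 9 ≤ n := by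
      obtain ⟨c, hc⟩ := h3n
      omega
    have key : ({0, 1, 3, 2 * 3, n, 2 * n, 2 * (3 * n)} : Finset ℕ).card ≤ N.primeFactors.card := by
      apply card_ge (a := 3) hN0
      intro k hk
      simp only [Finset.mem_insert, Finset.mem_singleton] at hk
      rcases hk with rfl | rfl | rfl | rfl | rfl | rfl | rfl
      · exact pchar Nat.prime_three (dvd_refl _) (by norm_num) hp3 hg (one_dvd _)
      · exact ⟨2, Nat.prime_two, h2N, o2⟩
      · exact zsig (by norm_num) (by norm_num) (by omega) ((sub_dvd h3n).trans hd1) hg (one_dvd _)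
      · exact zsig' (by norm_num) (by norm_num) (by omega) h28 hg (one_dvd _)
      · exact zsig (by norm_num) (by omega) (by omega) hd1 hg (one_dvd _)
      · exact zsig' (by norm_num) (by omega) (by omega) hn1 hg (one_dvd _)
      · exact zsig' (by norm_num) (by omega) (by omega) hd3' hg (one_dvd _)
    have : ({0, 1, 3, 2 * 3, n, 2 * n, 2 * (3 * n)} : Finset ℕ).card = 7 := by
      rw [Finset.card_insert_of_notMem, Finset.card_insert_of_notMem, Finset.card_insert_of_notMem,
        Finset.card_insert_of_notMem, Finset.card_insert_of_notMem, Finset.card_insert_of_notMem, Finset.card_singleton]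
      all_goals
        simp only [Finset.mem_insert, Finset.mem_singleton]
        omega
    omega
  · -- the two factors of `q ^ 2 - q + 1`
    set A := 3 ^ (m + 1) * (3 ^ m - 1) + 1 with hA
    set B := 3 ^ (m + 1) * (3 ^ m + 1) + 1 with hB
    have e2 : 1 < 3 ^ m := Nat.one_lt_pow (by omega) (by norm_num)
    obtain ⟨x, hx⟩ : ∃ x, 3 ^ m = x := ⟨_, rfl⟩
    have hqx : 3 ^ n = 3 * x ^ 2 := by
      rw [hn, pow_succ, pow_mul', hx]; ring
    have hA' : A = 3 * x * (x - 1) + 1 := by rw [hA, pow_succ, hx]; ring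
    have hB' : B = 3 * x * (x + 1) + 1 := by rw [hB, pow_succ, hx]; ring
    have hx1 : 1 < x := by rw [← hx]; exact e2
    obtain ⟨y, rfl⟩ : ∃ y, x = y + 1 := ⟨x - 1, by omega⟩
    have hAB : A * B + 3 ^ n = (3 ^ n) ^ 2 + 1 := by
      rw [hqx, hA', hB', Nat.add_sub_cancel]
      ring
    have hcube : (3 ^ n) ^ 3 + 1 = (3 ^ n + 1) * (A * B) := by
      have : A * B = (3 ^ n) ^ 2 + 1 - 3 ^ n := by omega
      rw [this]
      zify [show 3 ^ n ≤ (3 ^ n) ^ 2 + 1 by nlinarith]
      ring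
    have hABN : A * B ∣ N := Dvd.dvd.trans (by rw [hcube]; exact Dvd.intro_left _ rfl) hd3
    have hA1 : A ≠ 1 := by
      rw [hA]
      have : 3 ^ (m + 1) * (3 ^ m - 1) ≠ 0 := mul_ne_zero (by positivity) (by omega)
      omega
    have hB1 : B ≠ 1 := by
      rw [hB]
      have : 3 ^ (m + 1) * (3 ^ m + 1) ≠ 0 := mul_ne_zero (by positivity) (by omega)
      omega
    have hA3 : ¬ 3 ∣ A := by
      rw [hA, ← Nat.dvd_add_iff_right ((dvd_pow_self 3 (by omega)).mul_right _)]
      norm_num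
    have hB3 : ¬ 3 ∣ B := by
      rw [hB, ← Nat.dvd_add_iff_right ((dvd_pow_self 3 (by omega)).mul_right _)]
      norm_num
    -- no common prime with `q - 1`, `q + 1`
    have hsub : ∀ s, s.Prime → s ∣ A * B → ¬ s ∣ 3 ^ n - 1 := by
      intro s hs h1 h2
      have h4 : A * B = (3 ^ n - 1) * 3 ^ n + 1 := by
        have h5 : (3 ^ n - 1) * 3 ^ n + 3 ^ n = (3 ^ n) ^ 2 := by
          obtain ⟨z, hz⟩ : ∃ z, 3 ^ n = z + 1 := ⟨3 ^ n - 1, by omega⟩
          rw [hz, Nat.add_sub_cancel]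
          ring
        omega
      rw [h4, ← Nat.dvd_add_iff_right (h2.mul_right _)] at h1
      exact hs.one_lt.ne' (Nat.dvd_one.1 h1)
    have hadd : ∀ s, s.Prime → s ∣ A * B → s ∣ 3 ^ n + 1 → s = 3 := by
      intro s hs h1 h2
      have h4 : A * B + 3 * 3 ^ n = (3 ^ n + 1) ^ 2 := by
        have : (3 ^ n + 1) ^ 2 = (3 ^ n) ^ 2 + 1 + 2 * 3 ^ n := by ring
        omega
      have h5 : s ∣ 3 * 3 ^ n := by
        have : s ∣ A * B + 3 * 3 ^ n := by
          rw [h4]
          exact dvd_pow h2 (by norm_num)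
        exact (Nat.dvd_add_iff_right h1).2 this
      rw [← pow_succ'] at h5
      exact (Nat.prime_dvd_prime_iff_eq hs Nat.prime_three).1 (hs.dvd_of_dvd_pow h5)
    have hnot3 : ∀ s, s.Prime → s ∣ A * B → s ≠ 3 := by
      rintro s hs h1 rfl
      rcases hs.dvd_or_dvd h1 with h | h
      · exact hA3 h
      · exact hB3 h
    -- Zsigmondy primes of `q - 1` and `q + 1`
    obtain ⟨u, hu, huN, hou⟩ : ∃ r : ℕ, r.Prime ∧ r ∣ 3 ^ n - 1 ∧ orderOf ((3 : ℕ) : ZMod r) = n :=
      zsig (a := 3) (M := 3 ^ n - 1) (g := 1) (by norm_num) (by omega) (by omega) (dvd_refl _) (one_mul _) (one_dvd _)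
    obtain ⟨v, hv, hvN, hov⟩ : ∃ r : ℕ, r.Prime ∧ r ∣ 3 ^ n + 1 ∧ orderOf ((3 : ℕ) : ZMod r) = 2 * n :=
      zsig' (a := 3) (M := 3 ^ n + 1) (g := 1) (by norm_num) (by omega) (by omega) (dvd_refl _) (one_mul _) (one_dvd _)
    have h7 : 7 ∣ A * B := by
      have h1 : 7 ∣ (3 ^ n) ^ 3 + 1 := by
        have := Odd.nat_add_dvd_pow_add_pow (3 ^ 3) 1 hodd
        rw [one_pow, ← pow_mul, mul_comm 3 n, pow_mul] at this
        exact Dvd.dvd.trans (by norm_num) this
      rw [hcube] at h1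
      rcases (by norm_num : Nat.Prime 7).dvd_or_dvd h1 with h | h
      · exfalso
        have h8 : 7 ∣ 3 ^ (2 * n) - 1 := by
          have : 3 ^ (2 * n) - 1 = (3 ^ n + 1) * (3 ^ n - 1) := by
            rw [mul_comm 2 n, pow_mul, ← Nat.sq_sub_sq, one_pow]
          rw [this]
          exact h.mul_right _
        rw [dvd_pow_sub_one_iff (by norm_num)] at h8
        have h9 : orderOf ((3 : ℕ) : ZMod 7) = 6 := by
          refine orderOf_eq_of_pow_and_pow_div_prime (by norm_num) (by decide) ?_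
          intro p hp hd
          have : p = 2 ∨ p = 3 := by
            have h10 : p ∣ 2 * 3 := hd
            rcases (Nat.Prime.dvd_mul hp).1 h10 with h | h
            · exact Or.inl ((Nat.prime_dvd_prime_iff_eq hp Nat.prime_two).1 h)
            · exact Or.inr ((Nat.prime_dvd_prime_iff_eq hp Nat.prime_three).1 h)
          rcases this with rfl | rfl <;> decide
        rw [h9] at h8
        omega
      · exact h
    -- coprimality
    have hcop : ∀ s, s.Prime → s ∣ A → ¬ s ∣ B := by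
      intro s hs h1 h2
      have h4 : B = A + 2 * 3 ^ (m + 1) := by
        rw [hA, hB, hx, Nat.add_sub_cancel]
        ring
      rw [h4] at h2
      have h5 : s ∣ 2 * 3 ^ (m + 1) := (Nat.dvd_add_iff_right h1).2 h2
      rcases hs.dvd_or_dvd h5 with h | h
      · have h8 := (Nat.prime_dvd_prime_iff_eq hs Nat.prime_two).1 h
        subst h8
        refine hsub 2 Nat.prime_two (h1.mul_right _) ?_
        have : Odd (3 ^ n) := Odd.pow (by decide)
        obtain ⟨z, hz⟩ := this
        exact ⟨z, by omega⟩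
      · exact hnot3 s hs (h1.mul_right _) ((Nat.prime_dvd_prime_iff_eq hs Nat.prime_three).1 (hs.dvd_of_dvd_pow h))
    have hpow : (∀ s, s.Prime → s ∣ A → s = 7) ∨ (∀ s, s.Prime → s ∣ B → s = 7) := by
      by_contra hcon
      push Not at hcon
      obtain ⟨⟨s, hs, hsA, hs7⟩, ⟨t, ht, htB, ht7⟩⟩ := hcon
      have hsAB : s ∣ A * B := hsA.mul_right _
      have htAB : t ∣ A * B := htB.mul_left _
      have hst : s ≠ t := by
        rintro rfl
        exact hcop s hs hsA htB
      have h2AB : ¬ 2 ∣ A * B := by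
        intro h
        refine hsub 2 Nat.prime_two h ?_
        have : Odd (3 ^ n) := Odd.pow (by decide)
        obtain ⟨z, hz⟩ := this
        exact ⟨z, by omega⟩
      have hu2 : u ≠ 2 := by
        rintro rfl
        rw [o2] at hou
        omega
      have hv2 : v ≠ 2 := by
        rintro rfl
        rw [o2] at hov
        omega
      have o3 := ord_zero (a := 3) Nat.prime_three (dvd_refl 3)
      have hu3 : u ≠ 3 := by
        rintro rfl
        rw [o3] at hou
        omega
      have hv3 : v ≠ 3 := by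
        rintro rfl
        rw [o3] at hov
        omega
      have huv : u ≠ v := by
        rintro rfl
        omega
      have huAB : ¬ u ∣ A * B := fun h => hsub u hu h huN
      have hvAB : ¬ v ∣ A * B := fun h => hv3 (hadd v hv h hvN)
      have h3AB : ¬ 3 ∣ A * B := fun h => hnot3 3 Nat.prime_three h rfl
      have key : ({2, 3, u, v, 7, s, t} : Finset ℕ).card ≤ N.primeFactors.card := by
        apply Finset.card_le_card
        intro k hk
        simp only [Finset.mem_insert, Finset.mem_singleton] at hk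
        rcases hk with rfl | rfl | rfl | rfl | rfl | rfl | rfl
        · exact Nat.mem_primeFactors.2 ⟨Nat.prime_two, h2N, hN0⟩
        · exact Nat.mem_primeFactors.2 ⟨Nat.prime_three, hp3, hN0⟩
        · exact Nat.mem_primeFactors.2 ⟨hu, huN.trans hd1, hN0⟩
        · exact Nat.mem_primeFactors.2 ⟨hv, hvN.trans hn1, hN0⟩
        · exact Nat.mem_primeFactors.2 ⟨by norm_num, h7.trans hABN, hN0⟩
        · exact Nat.mem_primeFactors.2 ⟨hs, hsAB.trans hABN, hN0⟩
        · exact Nat.mem_primeFactors.2 ⟨ht, htAB.trans hABN, hN0⟩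
      have : ({2, 3, u, v, 7, s, t} : Finset ℕ).card = 7 := by
        have n1 : ∀ w, ¬ w ∣ A * B → w ∉ ({7, s, t} : Finset ℕ) := by
          intro w hw
          simp only [Finset.mem_insert, Finset.mem_singleton, not_or]
          refine ⟨?_, ?_, ?_⟩
          · rintro rfl; exact hw h7
          · rintro rfl; exact hw hsAB
          · rintro rfl; exact hw htAB
        rw [Finset.card_insert_of_notMem, Finset.card_insert_of_notMem, Finset.card_insert_of_notMem,
          Finset.card_insert_of_notMem (n1 v hvAB), Finset.card_insert_of_notMem, Finset.card_insert_of_notMem,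
          Finset.card_singleton]
        · simp only [Finset.mem_singleton]; exact hst
        · simp only [Finset.mem_insert, Finset.mem_singleton, not_or]
          exact ⟨fun h => hs7 h.symm, fun h => ht7 h.symm⟩
        · rw [Finset.mem_insert, not_or]; exact ⟨huv, n1 u huAB⟩
        · rw [Finset.mem_insert, Finset.mem_insert, not_or, not_or]; exact ⟨hu3.symm, hv3.symm, n1 3 h3AB⟩
        · rw [Finset.mem_insert, Finset.mem_insert, Finset.mem_insert, not_or, not_or, not_or]
          exact ⟨by norm_num, hu2.symm, hv2.symm, n1 2 h2AB⟩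
      omega
    have hpp : ∀ C : ℕ, C ≠ 0 → (∀ s, s.Prime → s ∣ C → s = 7) → ∃ k, 7 ^ k = C := by
      intro C hC h
      exact ⟨_, (Nat.eq_prime_pow_of_unique_prime_dvd hC (fun {d} hd hdC => h d hd hdC)).symm⟩
    rcases hpow with h | h
    · obtain ⟨k, hk⟩ := hpp A (by rw [hA]; omega) h
      exact no_seven hm2 (Or.inl hk)
    · obtain ⟨k, hk⟩ := hpp B (by rw [hB]; omega) h
      exact no_seven hm2 (Or.inr hk)

end Cfsg.Agent.H423.PGRee
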