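import Mathlib
import Cfsg.Agent.H423.PGBlk
import Cfsg.Agent.ClassicalGeometry.PSUAutBasic

/-!
`PSU(n, q)`, `n ≥ 4`.
-/

set_option autoImplicit false

namespace Cfsg.Agent.H423.PGSU

open Cfsg.Agent.H423.PG Cfsg.Agent.H423.PGPerf Cfsg.Agent.H423.PGBlk Matrix

universe u

variable {F : Type u} [Field F] {q : ℕ}

/-- the matrix -/
def mat {n : ℕ} (g : Cfsg.SU n F q) : Matrix (Fin n) (Fin n) F := g.1.1

theorem hermForm_sum (k l : ℕ) (u v : Fin (k + l) → F) :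
    Cfsg.hermForm (k + l) F q u v =
      Cfsg.hermForm k F q (fun i => u (finSumFinEquiv (Sum.inl i))) (fun i => v (finSumFinEquiv (Sum.inl i))) +
      Cfsg.hermForm l F q (fun i => u (finSumFinEquiv (Sum.inr i))) (fun i => v (finSumFinEquiv (Sum.inr i))) := by
  unfold Cfsg.hermForm
  rw [← Equiv.sum_comp finSumFinEquiv, Fintype.sum_sum_type]

theorem mem_SU {n : ℕ} (g : SpecialLinearGroup (Fin n) F) :
    g ∈ Cfsg.SU n F q ↔ ∀ u v, Cfsg.hermForm n F q (g.1 *ᵥ u) (g.1 *ᵥ v) = Cfsg.hermForm n F q u v := Iff.rfl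

/-- block matrices in the special unitary group -/
def blkSU (k l : ℕ) : Cfsg.SU k F q × Cfsg.SU l F q →* Cfsg.SU (k + l) F q where
  toFun M := ⟨blkSL finSumFinEquiv (M.1.1, M.2.1), by
    rw [mem_SU]
    intro u v
    have h1 := (mem_SU _).1 M.1.2 (fun i => u (finSumFinEquiv (Sum.inl i))) (fun i => v (finSumFinEquiv (Sum.inl i)))
    have h2 := (mem_SU _).1 M.2.2 (fun i => u (finSumFinEquiv (Sum.inr i))) (fun i => v (finSumFinEquiv (Sum.inr i)))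
    rw [hermForm_sum, hermForm_sum k l u v, ← h1, ← h2]
    have e : ∀ w : Fin (k + l) → F, ∀ i, ((blkSL finSumFinEquiv (M.1.1, M.2.1)).1 *ᵥ w) (finSumFinEquiv i) =
        Sum.elim (M.1.1.1 *ᵥ fun a => w (finSumFinEquiv (Sum.inl a)))
          (M.2.1.1 *ᵥ fun b => w (finSumFinEquiv (Sum.inr b))) i := fun w i =>
      blkM_mulVec finSumFinEquiv (M.1.1.1, M.2.1.1) w i
    simp only [e, Sum.elim_inl, Sum.elim_inr]⟩
  map_one' := by
    apply Subtype.ext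
    exact map_one (blkSL finSumFinEquiv)
  map_mul' M N := by
    apply Subtype.ext
    exact map_mul (blkSL finSumFinEquiv) (M.1.1, M.2.1) (N.1.1, N.2.1)

theorem psu_aux [Fintype F] (hF : Fintype.card F = q ^ 2) {n : ℕ} (hn : 3 ≤ n) {r s t : ℕ}
    (hr : r.Prime) (hs : s.Prime) (ht : t.Prime) (hrs : r ≠ s) (hrt : r ≠ t) (hst : s ≠ t)
    (hAr : r ∣ Nat.card (Cfsg.SU 2 F q)) (hAs : s ∣ Nat.card (Cfsg.SU 2 F q))
    (hBs : s ∣ Nat.card (Cfsg.SU (n - 2) F q)) (hBt : t ∣ Nat.card (Cfsg.SU (n - 2) F q)) :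
    ¬ Five (Cfsg.PSU n F q) := by
  obtain ⟨l, rfl⟩ : ∃ l, n = 2 + l := ⟨n - 2, by omega⟩
  have hl : 2 + l - 2 = l := by omega
  rw [hl] at hBs hBt
  have hl1 : 0 < l := by omega
  refine blk_main (F := F) (Y := Cfsg.SU (2 + l) F q) mat ?_ finSumFinEquiv (blkSU 2 l)
    mat mat (fun a b => rfl) (fun a h => Subtype.ext (Subtype.ext h)) (fun a h => Subtype.ext (Subtype.ext h)) rfl rfl
    0 ⟨0, hl1⟩ hr hs ht hrs hrt hst hAr hAs hBs hBt
  intro z hz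
  obtain ⟨c, -, -, hc⟩ := Cfsg.Agent.ClassicalGeometry.PSUAutBasic.exists_scalar_of_mem_center hF hn hz
  refine ⟨c, ?_⟩
  ext i j
  have := congrFun (hc (Pi.single j 1)) i
  have h2 : Cfsg.Agent.LieClassical.HermSiegel.act z (Pi.single j 1) = mat z *ᵥ Pi.single j 1 := rfl
  rw [h2, Matrix.mulVec_single_one] at this
  rw [Matrix.smul_apply, Matrix.one_apply]
  simpa [Pi.single_apply] using this

/-- divisors of the order of `SU(n, q)` -/
theorem dvd_card_SU [Fintype F] (hF : Fintype.card F = q ^ 2) {n : ℕ} (hn : 2 ≤ n) {x : ℕ}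
    (hx : ∃ i, 1 ≤ i ∧ i < n ∧ x ∣ (if Even i then q ^ (i + 1) + 1 else q ^ (i + 1) - 1)) :
    x ∣ Nat.card (Cfsg.SU n F q) := by
  have hc := Cfsg.Agent.S0278.result hF n (by omega)
  obtain ⟨i, h1, h2, h3⟩ := hx
  obtain ⟨k, rfl⟩ : ∃ k, n = k + 1 := ⟨n - 1, by omega⟩
  rw [Finset.prod_range_succ'] at hc
  simp only [Even.zero, if_true, zero_add, pow_one] at hc
  obtain ⟨j, rfl⟩ : ∃ j, i = j + 1 := ⟨i - 1, by omega⟩
  have h4 := Finset.dvd_prod_of_mem (fun i => if Even (i + 1) then q ^ (i + 1 + 1) + 1 else q ^ (i + 1 + 1) - 1)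
    (Finset.mem_range.2 (show j < k by omega))
  have h5 : (q + 1) * Nat.card (Cfsg.SU (k + 1) F q) = (q + 1) * (q ^ ((k + 1) * (k + 1 - 1) / 2) *
      ∏ i ∈ Finset.range k, (if Even (i + 1) then q ^ (i + 1 + 1) + 1 else q ^ (i + 1 + 1) - 1)) := by
    rw [hc]; ring
  have h6 := Nat.eq_of_mul_eq_mul_left (by omega) h5
  rw [h6]
  exact Dvd.dvd.mul_left (h3.trans h4) _

theorem dvd_card_SU_q [Fintype F] (hF : Fintype.card F = q ^ 2) {n : ℕ} (hn : 2 ≤ n) {x : ℕ} (hx : x.Prime)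
    (h : x ∣ q) : x ∣ Nat.card (Cfsg.SU n F q) := by
  have hc := Cfsg.Agent.S0278.result hF n (by omega)
  have h1 : x ∣ (q + 1) * Nat.card (Cfsg.SU n F q) := by
    rw [hc]
    refine Dvd.dvd.mul_right (dvd_pow h ?_) _
    have : 2 * 1 ≤ n * (n - 1) := Nat.mul_le_mul hn (by omega)
    omega
  rcases hx.dvd_mul.1 h1 with h2 | h2
  · exfalso
    have := (Nat.dvd_add_right h).1 h2
    exact hx.one_lt.ne' (Nat.dvd_one.1 this)
  · exact h2

/-- **`PSU(n, q)`, `n ≥ 4`, `q ≥ 4`** -/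
theorem psu_four [Fintype F] (hF : Fintype.card F = q ^ 2) {n : ℕ} (hn : 4 ≤ n) (h4 : 4 ≤ q) :
    ¬ Five (Cfsg.PSU n F q) := by
  obtain ⟨p, hp⟩ := CharP.exists F
  obtain ⟨k, hpp, hk⟩ := FiniteField.card F p
  have hq0 : ∃ j, q = p ^ j := by
    have h1 : q ∣ p ^ (k : ℕ) := by rw [← hk, hF]; exact dvd_pow_self _ (by norm_num)
    obtain ⟨j, -, hj⟩ := (Nat.dvd_prime_pow hpp).1 h1
    exact ⟨j, hj⟩
  obtain ⟨j, hj⟩ := hq0
  obtain ⟨r, s, t, hr, hs, ht, hrs, hrt, hst, hrq, hsq, htq⟩ := three_primes hpp hj h4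
  have h1 : ∀ x, x ∣ q ^ 2 - 1 → ∀ k, 2 ≤ k → x ∣ Nat.card (Cfsg.SU k F q) := fun x hx k hk =>
    dvd_card_SU hF hk ⟨1, le_rfl, by omega, by simpa using hx⟩
  exact psu_aux hF (by omega) hr hs ht hrs hrt hst (dvd_card_SU_q hF le_rfl hr hrq) (h1 s hsq 2 le_rfl)
    (h1 s hsq _ (by omega)) (h1 t htq _ (by omega))

/-- **`PSU(n, 2)`, `n ≥ 6`** -/
theorem psu_q_two [Fintype F] (hF : Fintype.card F = 2 ^ 2) {n : ℕ} (hn : 6 ≤ n) : ¬ Five (Cfsg.PSU n F 2) :=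
  psu_aux hF (by omega) (r := 2) (s := 3) (t := 5) Nat.prime_two Nat.prime_three Nat.prime_five (by norm_num)
    (by norm_num) (by norm_num) (dvd_card_SU_q hF le_rfl Nat.prime_two (by norm_num))
    (dvd_card_SU hF le_rfl ⟨1, le_rfl, by omega, by norm_num [Nat.even_iff]⟩)
    (dvd_card_SU hF (by omega) ⟨1, le_rfl, by omega, by norm_num [Nat.even_iff]⟩)
    (dvd_card_SU hF (by omega) ⟨3, by omega, by omega, by norm_num [Nat.even_iff]⟩)

/-- **`PSU(n, 3)`, `n ≥ 5`** -/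
theorem psu_q_three [Fintype F] (hF : Fintype.card F = 3 ^ 2) {n : ℕ} (hn : 5 ≤ n) : ¬ Five (Cfsg.PSU n F 3) :=
  psu_aux hF (by omega) (r := 2) (s := 3) (t := 7) Nat.prime_two Nat.prime_three (by norm_num) (by norm_num)
    (by norm_num) (by norm_num) (dvd_card_SU hF le_rfl ⟨1, le_rfl, by omega, by norm_num [Nat.even_iff]⟩)
    (dvd_card_SU_q hF le_rfl Nat.prime_three (by norm_num))
    (dvd_card_SU_q hF (by omega) Nat.prime_three (by norm_num))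
    (dvd_card_SU hF (by omega) ⟨2, by omega, by omega, by norm_num [Nat.even_iff]⟩)

end Cfsg.Agent.H423.PGSU
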