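import Mathlib
import Cfsg.Agent.H423.PG
import Cfsg.Prelude.Def_Classical
import Cfsg.Agent.S0243
import Cfsg.Agent.S0245
import Cfsg.Agent.S0246
import Cfsg.Agent.S0280
import Cfsg.Agent.S0292
import Cfsg.Agent.S0293

/-!
Classical groups with few primes.
-/

set_option autoImplicit false

namespace Cfsg.Agent.H423.PGSmall

open Cfsg.Agent.H423.PG

universe u

theorem mem_of_dvd_prod {L : List (ℕ × ℕ)} (hL : ∀ x ∈ L, x.1.Prime) {p : ℕ} (hp : p.Prime)
    (h : p ∣ (L.map fun x => x.1 ^ x.2).prod) : p ∈ L.map Prod.fst := by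
  induction L with
  | nil =>
    simp only [List.map_nil, List.prod_nil] at h
    exact absurd (Nat.dvd_one.1 h) hp.one_lt.ne'
  | cons x L ih =>
    rw [List.map_cons, List.prod_cons] at h
    rw [List.map_cons, List.mem_cons]
    rcases hp.dvd_mul.1 h with h | h
    · left
      exact (Nat.prime_dvd_prime_iff_eq hp (hL x (by simp))).1 (hp.dvd_of_dvd_pow h)
    · right
      exact ih (fun y hy => hL y (by simp [hy])) h

theorem card_le_of_dvd {n k : ℕ} (L : List (ℕ × ℕ)) (hL : ∀ x ∈ L, x.1.Prime)
    (h : n ∣ (L.map fun x => x.1 ^ x.2).prod) (hk : L.length ≤ k) :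
    n.primeFactors.card ≤ k := by
  classical
  refine (card_primeFactors_le_of_dvd (L := (L.map Prod.fst).toFinset) ?_).trans
    ((List.toFinset_card_le _).trans (by rw [List.length_map]; exact hk))
  intro p hp hpn
  rw [List.mem_toFinset]
  exact mem_of_dvd_prod hL hp (hpn.trans h)

theorem psl_four_two {K : Type u} [Field K] [Fintype K] (h : Fintype.card K = 2) :
    ¬ Five (Matrix.ProjectiveSpecialLinearGroup (Fin 4) K) := by
  apply not_five_of_le_four
  have hc := Cfsg.Agent.S0243.result h 4 (by norm_num)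
  norm_num [Fin.prod_univ_succ] at hc
  have h1 : Nat.card (Matrix.ProjectiveSpecialLinearGroup (Fin 4) K) = 20160 := by omega
  rw [h1]
  exact card_le_of_dvd [(2, 6), (3, 2), (5, 1), (7, 1)] (by decide) (by decide) (by decide)

theorem psl_four_three {K : Type u} [Field K] [Fintype K] (h : Fintype.card K = 3) :
    ¬ Five (Matrix.ProjectiveSpecialLinearGroup (Fin 4) K) := by
  apply not_five_of_le_four
  have hc := Cfsg.Agent.S0243.result h 4 (by norm_num)
  norm_num [Fin.prod_univ_succ] at hc
  have h1 : Nat.card (Matrix.ProjectiveSpecialLinearGroup (Fin 4) K) = 6065280 := by omega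
  rw [h1]
  exact card_le_of_dvd [(2, 7), (3, 6), (5, 1), (13, 1)] (by decide) (by decide) (by decide)

theorem psu_four_two {F : Type u} [Field F] [Fintype F] (h : Fintype.card F = 2 ^ 2) :
    ¬ Five (Cfsg.PSU 4 F 2) := by
  apply not_five_of_le_four
  have hc := Cfsg.Agent.S0280.result h 4 (by norm_num)
  norm_num [Finset.prod_range_succ, Nat.even_iff] at hc
  have h1 : Nat.card (Cfsg.PSU 4 F 2) = 25920 := by omega
  rw [h1]
  exact card_le_of_dvd [(2, 6), (3, 4), (5, 1)] (by decide) (by decide) (by decide)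

theorem psu_five_two {F : Type u} [Field F] [Fintype F] (h : Fintype.card F = 2 ^ 2) :
    ¬ Five (Cfsg.PSU 5 F 2) := by
  apply not_five_of_le_four
  have hc := Cfsg.Agent.S0280.result h 5 (by norm_num)
  norm_num [Finset.prod_range_succ, Nat.even_iff] at hc
  have h1 : Nat.card (Cfsg.PSU 5 F 2) = 13685760 := by omega
  rw [h1]
  exact card_le_of_dvd [(2, 10), (3, 5), (5, 1), (11, 1)] (by decide) (by decide) (by decide)

theorem psu_four_three {F : Type u} [Field F] [Fintype F] (h : Fintype.card F = 3 ^ 2) :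
    ¬ Five (Cfsg.PSU 4 F 3) := by
  apply not_five_of_le_four
  have hc := Cfsg.Agent.S0280.result h 4 (by norm_num)
  norm_num [Finset.prod_range_succ, Nat.even_iff] at hc
  have h1 : Nat.card (Cfsg.PSU 4 F 3) = 3265920 := by omega
  rw [h1]
  exact card_le_of_dvd [(2, 7), (3, 6), (5, 1), (7, 1)] (by decide) (by decide) (by decide)

theorem psp_two_three {F : Type u} [Field F] [Fintype F] (h : Fintype.card F = 3) :
    ¬ Five (Cfsg.PSp 2 F) := by
  apply not_five_of_le_four
  have h1 := Subgroup.card_eq_card_quotient_mul_card_subgroup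
    (Subgroup.center (Matrix.symplecticGroup (Fin 2) F))
  rw [Cfsg.Agent.S0245.result h 2, Cfsg.Agent.S0246.result h 2 (by norm_num)] at h1
  norm_num [Finset.prod_range_succ] at h1
  have h2 : Nat.card (Cfsg.PSp 2 F) = 25920 := by
    show Nat.card (Matrix.symplecticGroup (Fin 2) F ⧸ Subgroup.center (Matrix.symplecticGroup (Fin 2) F)) = 25920
    omega
  rw [h2]
  exact card_le_of_dvd [(2, 6), (3, 4), (5, 1)] (by decide) (by decide) (by decide)

theorem pomega_plus_two {F : Type u} [Field F] [Fintype F] (h : Fintype.card F = 2) :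
    ¬ Five (Cfsg.POmega F (Cfsg.quadFormPlus 4 F)) := by
  apply not_five_of_le_four
  have hc := Cfsg.Agent.S0293.result h 4 (by norm_num)
  norm_num [Finset.prod_range_succ] at hc
  have h1 : Nat.card (Cfsg.POmega F (Cfsg.quadFormPlus 4 F)) = 174182400 := by omega
  rw [h1]
  exact card_le_of_dvd [(2, 12), (3, 5), (5, 2), (7, 1)] (by decide) (by decide) (by decide)

/-- five primes -/
theorem pomega_plus_three {F : Type u} [Field F] [Fintype F] (h : Fintype.card F = 3) :
    (Nat.card (Cfsg.POmega F (Cfsg.quadFormPlus 4 F))).primeFactors.card ≤ 5 := by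
  have hc := Cfsg.Agent.S0293.result h 4 (by norm_num)
  norm_num [Finset.prod_range_succ] at hc
  have h1 : Nat.card (Cfsg.POmega F (Cfsg.quadFormPlus 4 F)) = 4952179814400 := by omega
  rw [h1]
  exact card_le_of_dvd [(2, 12), (3, 12), (5, 2), (7, 1), (13, 1)] (by decide) (by decide) (by decide)

theorem pomega_odd_three {F : Type u} [Field F] [Fintype F] (h : Fintype.card F = 3) :
    (Nat.card (Cfsg.POmega F (Cfsg.quadFormOdd 3 F))).primeFactors.card ≤ 5 := by
  have hc := Cfsg.Agent.S0292.result h (by decide) 3 (by norm_num)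
  norm_num [Finset.prod_range_succ] at hc
  have h1 : Nat.card (Cfsg.POmega F (Cfsg.quadFormOdd 3 F)) = 4585351680 := by omega
  rw [h1]
  exact card_le_of_dvd [(2, 9), (3, 9), (5, 1), (7, 1), (13, 1)] (by decide) (by decide) (by decide)

end Cfsg.Agent.H423.PGSmall
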