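import Cfsg.Agent.H423.PGEppo
import Cfsg.Agent.H545.PQ.Conway
import Cfsg.Agent.H545.PQ.Rudvalis
import Cfsg.Agent.H545.PQ.HaradaNorton
import Cfsg.Agent.H545.PQ.FischerA
import Cfsg.Agent.H545.PQ.Suzuki
import Cfsg.Agent.H413.JOneSpec
import Cfsg.Agent.H94.Sp.Mathieu
import Cfsg.Agent.NotCT.Orders

/-!
# The sporadic groups and the Tits group do not have at most six prime divisors with five of them pairwise
non-adjacent
-/

set_option autoImplicit false

namespace Cfsg.Agent.H423.PGSpor

open Cfsg Cfsg.Agent.H423.PG Cfsg.Agent.H545.PQ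

universe u

theorem adj_of_pair {G : Type u} [Group G] {p q : ℕ} (h : Pair p q G) (hpq : p.Coprime q) : Adj G p q :=
  h.exists_orderOf hpq

theorem triangle {G : Type u} [Group G] [Finite G] (h1 : Pair 2 3 G) (h2 : Pair 2 5 G) (h3 : Pair 3 5 G) : ¬ Five G :=
  not_five_of_triangle (r := 2) (s := 3) (t := 5) (by norm_num) (by norm_num) (by norm_num) (by norm_num)
    (by norm_num) (by norm_num) (adj_of_pair h1 (by norm_num)) (adj_of_pair h2 (by norm_num))
    (adj_of_pair h3 (by norm_num))

theorem le_of_list {n : ℕ} (L : List ℕ) (hL : ∀ p ∈ L, p.Prime) (k : ℕ) (h : n ∣ L.prod ^ k) :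
    n.primeFactors.card ≤ L.toFinset.card :=
  card_primeFactors_le_of_dvd fun p hp hd => List.mem_toFinset.2 (H94.PG.Sp.mem_of_dvd L hL k h hp hd)

theorem five_list {K : Type u} [Group K] [Finite K] [IsSimpleGroup K] (hna : ¬ IsMulCommutative K) {n : ℕ}
    (hn : Nat.card K = n) (L : List ℕ) (hL : ∀ p ∈ L, p.Prime) (k : ℕ) (h : n ∣ L.prod ^ k) (h5 : L.length ≤ 5) :
    ¬ Five K := by
  apply PGEppo.not_five_of_five_primes hna
  rw [hn]
  exact (le_of_list L hL k h).trans ((List.toFinset_card_le L).trans h5)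

theorem seven_list {K : Type u} [Group K] [Finite K] {n : ℕ} (hn : Nat.card K = n) (L : Finset ℕ)
    (hL : ∀ p ∈ L, p.Prime ∧ p ∣ n) (h7 : 7 ≤ L.card) : ¬ Five K := by
  apply not_five_of_seven_le
  rw [hn]
  refine h7.trans (le_card_primeFactors ?_ hL)
  rw [← hn]
  exact Nat.card_pos.ne'

/-! ### The Mathieu groups -/

section Mathieu

open Cfsg.Agent.SporadicA.GolayPerm Cfsg.Agent.KFacts.MM.El Cfsg.Agent.KFacts.MM.Cent Cfsg.Agent.H94.PG.Sp

/-- a packed permutation of order `r * s` -/
def chk2 (r s P : ℕ) : Bool :=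
  isPerm P && (weq (List.replicate (r * s) P) [] && (!weq (List.replicate r P) [] && !weq (List.replicate s P) []))

theorem orderOf_of_prime_mul {G : Type*} [Group G] {g : G} {r s : ℕ} (hr : r.Prime) (hs : s.Prime) (h : g ^ (r * s) = 1)
    (h1 : g ^ r ≠ 1) (h2 : g ^ s ≠ 1) : orderOf g = r * s := by
  refine orderOf_eq_of_pow_and_pow_div_prime (Nat.mul_pos hr.pos hs.pos) h ?_
  intro p hp hd
  rcases (Nat.Prime.dvd_mul hp).1 hd with h' | h'
  · rw [(Nat.prime_dvd_prime_iff_eq hp hr).1 h', Nat.mul_div_cancel_left _ hr.pos]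
    exact h2
  · rw [(Nat.prime_dvd_prime_iff_eq hp hs).1 h', Nat.mul_div_cancel _ hs.pos]
    exact h1

theorem adj_of_chk2 {K : Subgroup (Equiv.Perm GolayPt)} {r s P : ℕ} (hr : r.Prime) (hs : s.Prime)
    (h : chk2 r s P = true) (hP : pm P ∈ K) : Adj K r s := by
  unfold chk2 at h
  simp only [Bool.and_eq_true, Bool.not_eq_true'] at h
  obtain ⟨h0, h1, h2, h3⟩ := h
  have okn : okl [] = true := rfl
  have e1 : pm P ^ (r * s) = 1 := by
    have := pr_of_weq (okl_replicate h0 (r * s)) okn h1
    rwa [pr_replicate, pr_nil] at this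
  have e2 : pm P ^ r ≠ 1 := by
    have := pr_ne (okl_replicate h0 r) okn h2
    rwa [pr_replicate, pr_nil] at this
  have e3 : pm P ^ s ≠ 1 := by
    have := pr_ne (okl_replicate h0 s) okn h3
    rwa [pr_replicate, pr_nil] at this
  refine ⟨⟨pm P, hP⟩, orderOf_of_prime_mul hr hs (Subtype.ext e1) (fun h => e2 (congrArg Subtype.val h))
    (fun h => e3 (congrArg Subtype.val h))⟩

def w14 : ℕ := 958433165127832649012232844291485801
def w15 : ℕ := 967757946574684196784273705387931784

theorem m23_adj : Adj Spor.M23 2 7 ∧ Adj Spor.M23 3 5 :=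
  ⟨adj_of_chk2 (by norm_num) (by norm_num) (P := w14) (by decide +kernel) (mem_of_ok23 (by decide +kernel)),
    adj_of_chk2 (by norm_num) (by norm_num) (P := w15) (by decide +kernel) (mem_of_ok23 (by decide +kernel))⟩

theorem m23 {K : Type u} [Group K] [Finite K] (h : Spor.IsoM23 K) : ¬ Five K := by
  obtain ⟨e⟩ := h
  exact not_five_of_edges (r := 2) (s := 7) (t := 3) (w := 5) (by norm_num) (by norm_num) (by norm_num) (by norm_num)
    (by norm_num) (by norm_num) (by norm_num) (by norm_num) (by norm_num) (by norm_num)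
    ((adj_congr e).2 m23_adj.1) ((adj_congr e).2 m23_adj.2)

theorem m24_adj : Adj M24 2 7 ∧ Adj M24 3 5 :=
  ⟨m23_adj.1.map (Subgroup.inclusion fun _ h => M23_le24 h) (Subgroup.inclusion_injective _),
    m23_adj.2.map (Subgroup.inclusion fun _ h => M23_le24 h) (Subgroup.inclusion_injective _)⟩

theorem m24 {K : Type u} [Group K] [Finite K] (h : Spor.IsoM24 K) : ¬ Five K := by
  obtain ⟨e⟩ := h
  exact not_five_of_edges (r := 2) (s := 7) (t := 3) (w := 5) (by norm_num) (by norm_num) (by norm_num) (by norm_num)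
    (by norm_num) (by norm_num) (by norm_num) (by norm_num) (by norm_num) (by norm_num)
    ((adj_congr e).2 m24_adj.1) ((adj_congr e).2 m24_adj.2)

end Mathieu

theorem j1 {K : Type u} [Group K] [Finite K] (h : Spor.IsoJ1 K) : ¬ Five K := by
  obtain ⟨e⟩ := h
  exact not_five_of_triangle (r := 2) (s := 3) (t := 5) (by norm_num) (by norm_num) (by norm_num) (by norm_num)
    (by norm_num) (by norm_num) ((adj_congr e).2 ((H413.JOneSpec.exists_orderOf_iff (2 * 3)).2 (by decide)))
    ((adj_congr e).2 ((H413.JOneSpec.exists_orderOf_iff (2 * 5)).2 (by decide)))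
    ((adj_congr e).2 ((H413.JOneSpec.exists_orderOf_iff (3 * 5)).2 (by decide)))

theorem fi22 {K : Type u} [Group K] [Finite K] (h : Spor.IsoFi22 K) : ¬ Five K := by
  have h1 := FischerA.pair_two_three h
  obtain ⟨e⟩ := h
  have : Finite Spor.Fi22 := Fischer.Fi22Order.upper.1
  exact triangle h1
    ((FischerA.pair_of_word (by norm_num) (by norm_num) [.a, .b, .c, .d, .f] 8 (by decide +kernel)).equiv e)
    ((FischerA.pair_of_word (by norm_num) (by norm_num) [.a, .b, .c, .d, .f, .g] 8 (by decide +kernel)).equiv e)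

theorem suz {K : Type u} [Group K] [Finite K] (h : Spor.IsoSuz K) : ¬ Five K := by
  have h1 := Suzuki.pair_two_three h
  obtain ⟨e⟩ := h
  have : Finite Cfsg.Spor.Suz := SporadicRecognition.SuzBound.finite_Suz
  exact triangle h1
    ((Suzuki.pair_of_word (by norm_num) (by norm_num) [.a, .b, .d] 4 (by decide +kernel)).equiv e)
    ((Suzuki.pair_of_word (by norm_num) (by norm_num) [.a, .b, .d, .e] 4 (by decide +kernel)).equiv e)

theorem co2 {K : Type u} [Group K] [Finite K] (h : Spor.IsoCo2 K) : ¬ Five K := by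
  obtain ⟨e⟩ := h
  exact triangle (Conway.co2.1.equiv e) (Conway.co2.2.1.equiv e) (Conway.co2.2.2.equiv e)

theorem co3 {K : Type u} [Group K] [Finite K] (h : Spor.IsoCo3 K) : ¬ Five K := by
  obtain ⟨e⟩ := h
  exact triangle (Conway.co3.1.equiv e) (Conway.co3.2.1.equiv e) (Conway.co3.2.2.equiv e)

theorem ru {K : Type u} [Group K] [Finite K] (h : Spor.IsoRu K) : ¬ Five K := by
  obtain ⟨a, b, c⟩ := Rudvalis.pairs h
  exact triangle a b c

theorem hn {K : Type u} [Group K] [Finite K] (h : Spor.IsoHN K) : ¬ Five K := by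
  obtain ⟨e⟩ := h
  exact triangle (HaradaNorton.pair_two_three.equiv e) (HaradaNorton.pair_two_five.equiv e)
    (HaradaNorton.pair_three_five.equiv e)

theorem not_five {K : Type u} [Group K] [Finite K] [IsSimpleGroup K] (hna : ¬ IsMulCommutative K)
    (h : IsSporadicGroup K) : ¬ Five K := by
  unfold IsSporadicGroup at h
  rcases h with h | h | h | h | h | h | h | h | h | h | h | h | h | h | h | h | h | h | h | h | h | h | h | h | h | h
  · exact five_list hna (NotCT.Orders.m11 h) [2, 3, 5, 11] (by simp only [List.forall_mem_cons]; norm_num) 50 (by decide +kernel) (by simp)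
  · exact five_list hna (NotCT.Orders.m12 h) [2, 3, 5, 11] (by simp only [List.forall_mem_cons]; norm_num) 50 (by decide +kernel) (by simp)
  · exact five_list hna (NotCT.Orders.m22 h) [2, 3, 5, 7, 11] (by simp only [List.forall_mem_cons]; norm_num) 50 (by decide +kernel) (by simp)
  · exact m23 h
  · exact m24 h
  · exact j1 h
  · exact five_list hna (NotCT.Orders.j2 h) [2, 3, 5, 7] (by simp only [List.forall_mem_cons]; norm_num) 50 (by decide +kernel) (by simp)
  · exact five_list hna (NotCT.Orders.j3 h) [2, 3, 5, 17, 19] (by simp only [List.forall_mem_cons]; norm_num) 50 (by decide +kernel) (by simp)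
  · exact seven_list (NotCT.Orders.j4 h) {2, 3, 5, 7, 11, 23, 29} (by simp only [Finset.forall_mem_insert, Finset.mem_singleton, forall_eq]; norm_num) (by decide)
  · exact seven_list (NotCT.Orders.co1 h) {2, 3, 5, 7, 11, 13, 23} (by simp only [Finset.forall_mem_insert, Finset.mem_singleton, forall_eq]; norm_num) (by decide)
  · exact co2 h
  · exact co3 h
  · exact five_list hna (NotCT.Orders.mcl h) [2, 3, 5, 7, 11] (by simp only [List.forall_mem_cons]; norm_num) 50 (by decide +kernel) (by simp)
  · exact five_list hna (NotCT.Orders.hs h) [2, 3, 5, 7, 11] (by simp only [List.forall_mem_cons]; norm_num) 50 (by decide +kernel) (by simp)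
  · exact suz h
  · exact five_list hna (NotCT.Orders.he h) [2, 3, 5, 7, 17] (by simp only [List.forall_mem_cons]; norm_num) 50 (by decide +kernel) (by simp)
  · exact ru h
  · exact seven_list (NotCT.Orders.on h) {2, 3, 5, 7, 11, 19, 31} (by simp only [Finset.forall_mem_insert, Finset.mem_singleton, forall_eq]; norm_num) (by decide)
  · exact seven_list (NotCT.Orders.ly h) {2, 3, 5, 7, 11, 31, 37} (by simp only [Finset.forall_mem_insert, Finset.mem_singleton, forall_eq]; norm_num) (by decide)
  · exact fi22 h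
  · exact seven_list (NotCT.Orders.fi23 h) {2, 3, 5, 7, 11, 13, 17} (by simp only [Finset.forall_mem_insert, Finset.mem_singleton, forall_eq]; norm_num) (by decide)
  · exact seven_list (NotCT.Orders.fi24 h) {2, 3, 5, 7, 11, 13, 17} (by simp only [Finset.forall_mem_insert, Finset.mem_singleton, forall_eq]; norm_num) (by decide)
  · exact hn h
  · exact seven_list (NotCT.Orders.th h) {2, 3, 5, 7, 13, 19, 31} (by simp only [Finset.forall_mem_insert, Finset.mem_singleton, forall_eq]; norm_num) (by decide)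
  · exact seven_list (NotCT.Orders.b h) {2, 3, 5, 7, 11, 13, 17} (by simp only [Finset.forall_mem_insert, Finset.mem_singleton, forall_eq]; norm_num) (by decide)
  · exact seven_list (NotCT.Orders.m h) {2, 3, 5, 7, 11, 13, 17} (by simp only [Finset.forall_mem_insert, Finset.mem_singleton, forall_eq]; norm_num) (by decide)

theorem tits {K : Type u} [Group K] [Finite K] (h : Lie.IsoTits K) : ¬ Five K := by
  apply not_five_of_le_four
  rw [NotCT.Orders.tits h]
  exact (le_of_list [2, 3, 5, 13] (by simp only [List.forall_mem_cons]; norm_num) 50 (by decide +kernel)).trans (by decide)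

end Cfsg.Agent.H423.PGSpor
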