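import Cfsg.Agent.H423.PGAlt
import Cfsg.Agent.H423.PGBlk
import Cfsg.Agent.H423.PGSU
import Cfsg.Agent.H423.PGOrthS
import Cfsg.Agent.H423.PGRankOne
import Cfsg.Agent.H423.PGSmall
import Cfsg.Agent.H423.PGRee
import Cfsg.Agent.H423.PGSpor
import Cfsg.Agent.H423.PGG2
import Cfsg.Agent.H423.PGD4
import Cfsg.Agent.H423.PGFTwo

/-!
**Theorem T**: a known finite simple group whose order has at most six prime divisors, five of them pairwise
non-adjacent in the prime graph, is the Ree group over the field with 27 elements.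
-/

set_option autoImplicit false
set_option linter.unusedVariables false

namespace Cfsg.Agent.H423.PGMain

open Cfsg Cfsg.Agent.H423.PG

universe u

theorem psl {F : Type} [Field F] [Fintype F] {n : ℕ} (hn : 2 ≤ n) (h2 : n = 2 → 4 ≤ Fintype.card F) :
    ¬ Five (Matrix.ProjectiveSpecialLinearGroup (Fin n) F) := by
  have h1 := PGExc.two_le_card F
  rcases Nat.lt_or_ge n 3 with h | h
  · obtain rfl : n = 2 := by omega
    exact PGRankOne.psl_two (h2 rfl)
  rcases Nat.lt_or_ge n 4 with h | h
  · obtain rfl : n = 3 := by omega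
    exact PGRankOne.psl_three
  rcases Nat.lt_or_ge (Fintype.card F) 4 with h4 | h4
  · have h23 : Fintype.card F = 2 ∨ Fintype.card F = 3 := by omega
    rcases Nat.lt_or_ge n 5 with h | h
    · obtain rfl : n = 4 := by omega
      rcases h23 with h23 | h23
      · exact PGSmall.psl_four_two h23
      · exact PGSmall.psl_four_three h23
    · exact PGBlk.psl_five h23 h
  · exact PGBlk.psl_four h4 h

theorem psp {F : Type} [Field F] [Fintype F] {m : ℕ} (hm : 2 ≤ m) (h2 : m = 2 → 3 ≤ Fintype.card F) :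
    ¬ Five (PSp m F) := by
  have h1 := PGExc.two_le_card F
  rcases Nat.lt_or_ge (Fintype.card F) 4 with h4 | h4
  · have h23 : Fintype.card F = 2 ∨ Fintype.card F = 3 := by omega
    rcases Nat.lt_or_ge m 3 with h | h
    · obtain rfl : m = 2 := by omega
      have := h2 rfl
      exact PGSmall.psp_two_three (by omega)
    · exact PGBlk.psp_two_three h h23
  · exact PGBlk.psp_four hm h4

theorem psu {F : Type} [Field F] [Fintype F] {n q : ℕ} (hF : Fintype.card F = q ^ 2) (hn : 3 ≤ n) :
    ¬ Five (PSU n F q) := by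
  have h1 := PGExc.two_le_card F
  have hq : 2 ≤ q := by
    by_contra h
    have : q ^ 2 ≤ 1 ^ 2 := Nat.pow_le_pow_left (by omega) 2
    omega
  rcases Nat.lt_or_ge n 4 with h | h
  · obtain rfl : n = 3 := by omega
    exact PGRankOne.psu_three hF
  rcases Nat.lt_or_ge q 4 with h4 | h4
  · have h23 : q = 2 ∨ q = 3 := by omega
    rcases h23 with rfl | rfl
    · rcases Nat.lt_or_ge n 6 with h6 | h6
      · have : n = 4 ∨ n = 5 := by omega
        rcases this with rfl | rfl
        · exact PGSmall.psu_four_two hF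
        · exact PGSmall.psu_five_two hF
      · exact PGSU.psu_q_two hF h6
    · rcases Nat.lt_or_ge n 5 with h6 | h6
      · obtain rfl : n = 4 := by omega
        exact PGSmall.psu_four_three hF
      · exact PGSU.psu_q_three hF h6
  · exact PGSU.psu_four hF h h4

theorem main {S : Type u} [Group S] [Finite S] [IsSimpleGroup S] (hna : ¬ IsMulCommutative S)
    (hK : IsKnownSimple' S) (h : Five S) :
    ∃ (K : Type) (_ : Field K) (_ : Fintype K), Fintype.card K = 27 ∧ Nonempty (S ≃* ↥(Cfsg.Lie.twistedG2 K 3)) := by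
  rcases hK with hK | hK | hK | hK | hK | hK | hK | hK | hK | hK
  · exfalso
    have h1 : Fact (Nat.card S).Prime := ⟨hK⟩
    have h2 : IsCyclic S := isCyclic_of_prime_card (p := Nat.card S) rfl
    exact hna IsCyclic.isMulCommutative
  · obtain ⟨n, -, ⟨e⟩⟩ := hK
    exact absurd ((five_congr e).1 h) PGAlt.not_five
  · obtain ⟨F, _, _, n, h1, h2, ⟨e⟩⟩ := hK
    exact absurd ((five_congr e).1 h) (psl h1 h2)
  · obtain ⟨F, _, _, m, h1, h2, ⟨e⟩⟩ := hK
    exact absurd ((five_congr e).1 h) (psp h1 h2)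
  · obtain ⟨F, _, _, n, q, h1, h2, h3, ⟨e⟩⟩ := hK
    exact absurd ((five_congr e).1 h) (psu h1 h2)
  · obtain ⟨F, _, _, m, h1, h2, ⟨e⟩⟩ := hK
    exfalso
    have h3 := PGExc.two_le_card F
    rcases Nat.lt_or_ge (Fintype.card F) 4 with h4 | h4
    · have h33 : Fintype.card F = 3 := by
        have : Fintype.card F ≠ 2 := by
          intro h
          rw [h] at h2
          exact absurd h2 (by decide)
        omega
      rcases Nat.lt_or_ge m 4 with h5 | h5
      · obtain rfl : m = 3 := by omega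
        refine PGEppo.not_five_of_five_primes hna ?_ h
        rw [Nat.card_congr e.toEquiv]
        exact PGSmall.pomega_odd_three h33
      · exact PGOrthS.pomega_odd h33 h5 ((five_congr e).1 h)
    · exact PGOrth.pomega_four h4 (m := m) (by omega) (PGOrth.Jodd m) (PGOrth.Jodd_injective m) ((five_congr e).1 h)
  · obtain ⟨F, _, _, m, h1, ⟨e⟩⟩ := hK
    exfalso
    have h3 := PGExc.two_le_card F
    rcases Nat.lt_or_ge (Fintype.card F) 4 with h4 | h4
    · have h23 : Fintype.card F = 2 ∨ Fintype.card F = 3 := by omega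
      rcases Nat.lt_or_ge m 5 with h5 | h5
      · obtain rfl : m = 4 := by omega
        rcases h23 with h23 | h23
        · exact PGSmall.pomega_plus_two h23 ((five_congr e).1 h)
        · refine PGEppo.not_five_of_five_primes hna ?_ h
          rw [Nat.card_congr e.toEquiv]
          exact PGSmall.pomega_plus_three h23
      · exact PGOrth.pomega_five h23 h5 (MonoidHom.id _) (fun _ _ h => h) ((five_congr e).1 h)
    · exact PGOrth.pomega_four h4 (m := m) (by omega) (MonoidHom.id _) (fun _ _ h => h) ((five_congr e).1 h)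
  · obtain ⟨F, _, _, m, a, b, h1, h2, ⟨e⟩⟩ := hK
    exfalso
    have h3 := PGExc.two_le_card F
    rcases Nat.lt_or_ge (Fintype.card F) 4 with h4 | h4
    · have h23 : Fintype.card F = 2 ∨ Fintype.card F = 3 := by omega
      exact PGOrthS.pomega_minus h23 (m := m - 1) (by omega) a b h2 ((five_congr e).1 h)
    · exact PGOrth.pomega_four h4 (m := m - 1) (by omega) (PGOrth.Jminus (m - 1) a b)
        (PGOrth.Jminus_injective (m - 1) a b) ((five_congr e).1 h)
  · rcases hK with hK | hK | hK | hK | hK | hK | hK | hK | hK | hK | hK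
    · obtain ⟨F, _, _, h1, ⟨e⟩⟩ := hK
      exact absurd ((five_congr e).1 h) (PGG2.g2 h1)
    · obtain ⟨F, _, _, ⟨e⟩⟩ := hK
      exact absurd ((five_congr e).1 h) PGFTwo.f4
    · obtain ⟨F, _, _, ⟨e⟩⟩ := hK
      exact absurd ((five_congr e).1 h) (not_five_of_seven_le PGExc.e6)
    · obtain ⟨F, _, _, ⟨e⟩⟩ := hK
      exact absurd ((five_congr e).1 h) (not_five_of_seven_le PGExc.e7)
    · obtain ⟨F, _, _, ⟨e⟩⟩ := hK
      exact absurd ((five_congr e).1 h) (not_five_of_seven_le PGExc.e8)
    · obtain ⟨F, _, _, q, h1, h2, ⟨e⟩⟩ := hK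
      exact absurd ((five_congr e).1 h) (not_five_of_seven_le (PGExc.te6 h1 h2))
    · obtain ⟨F, _, _, q, h1, h2, ⟨e⟩⟩ := hK
      exact absurd ((five_congr e).1 h) (PGD4.td4 h1 h2)
    · obtain ⟨F, _, _, m, h1, h2, ⟨e⟩⟩ := hK
      exact absurd ((five_congr e).1 h) (PGRankOne.sz h1 h2)
    · obtain ⟨F, _, _, m, h1, h2, ⟨e⟩⟩ := hK
      have h3 := ((five_congr e).1 h).1
      obtain rfl := PGRee.ree h1 h2 h3
      exact ⟨F, _, _, by rw [h2]; norm_num, ⟨e⟩⟩
    · obtain ⟨F, _, _, m, h1, h2, ⟨e⟩⟩ := hK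
      exact absurd ((five_congr e).1 h) (not_five_of_seven_le (PGRee.tf4 h1 h2))
    · exact absurd h (PGSpor.tits hK)
  · exact absurd h (PGSpor.not_five hna hK)

end Cfsg.Agent.H423.PGMain
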