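import Mathlib
import Cfsg.Agent.H423.GBFin
import Cfsg.Agent.H423.PGMain

/-!
# Six prime divisors, five of them pairwise nonadjacent (helper423)

`main` : the theorem from the classification, the solvability of the outer automorphism groups of the simple groups and
the fact on the fixed points of coprime automorphisms.
-/

set_option autoImplicit false

namespace Cfsg.Agent.H423.GBEnd

open Cfsg.Agent.H423.PG Cfsg.Agent.H423.GBRad

universe u

theorem main (hO : OutSolv.{u}) (hC : CopFix.{u})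
    (hKn : ∀ (T : Type u) [Group T] [Finite T] [IsSimpleGroup T], Cfsg.IsKnownSimple' T)
    {G : Type u} [Group G] [Finite G]
    (h6 : (Nat.card G).primeFactors.card = 6)
    (hv : ∃ v ∈ (Nat.card G).primeFactors, ∀ p ∈ (Nat.card G).primeFactors, ∀ q ∈ (Nat.card G).primeFactors,
      p ≠ v → q ≠ v → p ≠ q → ∀ g : G, orderOf g ≠ p * q)
    {K : Type*} [Field K] [Fintype K] (hK : Fintype.card K = 27) [(Cfsg.pCore 2 G).Normal] :
    (Nat.card G).primeFactors = {2, 3, 7, 13, 19, 37} ∧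
      Nonempty (G ⧸ Cfsg.pCore 2 G ≃* ↥(Cfsg.Lie.twistedG2 K 3)) := by
  obtain ⟨v, hv, hno⟩ := hv
  obtain ⟨R, hRn, S, c⟩ := exists_ctx (G := G) h6 hv rfl (by
    rintro r hr s hs hrs ⟨g, hg⟩
    have h1 := Finset.mem_erase.1 hr
    have h2 := Finset.mem_erase.1 hs
    exact hno r h1.2 s h2.2 h1.1 h2.1 hrs g hg)
  have hfive := c.five hO hC
  have hSs := c.hSs
  obtain ⟨K', _, _, hK', ⟨e⟩⟩ := PGMain.main c.hSna (hKn S) hfive
  have h31 : Cfsg.Lie.twistedG2 K' 3 = Cfsg.Lie.twistedG2 K' (3 ^ 1) := by rw [pow_one]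
  exact c.final hK' (e.trans (MulEquiv.subgroupCongr h31)) hK

end Cfsg.Agent.H423.GBEnd
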