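import Mathlib
import Cfsg.Agent.H423.PG

set_option autoImplicit false

namespace Cfsg.Agent.H423.PGAlt

open Cfsg.Agent.H423.PG Equiv Equiv.Perm

/-- the first nine points -/
def e9 {n : ℕ} (h : 9 ≤ n) : Fin 9 ≃ {i : Fin n // i.val < 9} where
  toFun i := ⟨⟨i.val, by omega⟩, i.isLt⟩
  invFun i := ⟨i.1.val, i.2⟩
  left_inv _ := rfl
  right_inv _ := rfl

/-- embedding of alternating groups -/
noncomputable def emb {n : ℕ} (h : 9 ≤ n) : alternatingGroup (Fin 9) →* alternatingGroup (Fin n) where
  toFun g := ⟨extendDomainHom (e9 h) g.1, by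
    rw [Equiv.Perm.mem_alternatingGroup]
    change sign (g.1.extendDomain (e9 h)) = 1
    rw [sign_extendDomain]
    exact g.2⟩
  map_one' := Subtype.ext (map_one _)
  map_mul' a b := Subtype.ext (map_mul _ _ _)

theorem emb_inj {n : ℕ} (h : 9 ≤ n) : Function.Injective (emb h) := by
  intro a b hab
  apply Subtype.ext
  exact extendDomainHom_injective (e9 h) (congrArg Subtype.val hab)

theorem adj_of_perm {r s : ℕ} (hr : r.Prime) (hs : s.Prime) (hrs : r ≠ s) (x y : Perm (Fin 9))
    (hx : x ^ r = 1) (hx1 : x ≠ 1) (hy : y ^ s = 1) (hy1 : y ≠ 1) (hc : x * y = y * x)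
    (hsx : sign x = 1) (hsy : sign y = 1) : Adj (alternatingGroup (Fin 9)) r s := by
  have : Fact r.Prime := ⟨hr⟩
  have : Fact s.Prime := ⟨hs⟩
  refine adj_of_commute hr hs hrs (x := ⟨x, hsx⟩) (y := ⟨y, hsy⟩) ?_ ?_ (Subtype.ext hc)
  · rw [orderOf_eq_prime_iff]
    exact ⟨Subtype.ext hx, fun h => hx1 (congrArg Subtype.val h)⟩
  · rw [orderOf_eq_prime_iff]
    exact ⟨Subtype.ext hy, fun h => hy1 (congrArg Subtype.val h)⟩

theorem adj23 : Adj (alternatingGroup (Fin 9)) 2 3 :=
  adj_of_perm (by norm_num) (by norm_num) (by norm_num) (swap 0 1 * swap 2 3) (swap 4 5 * swap 5 6)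
    (by decide +kernel) (by decide +kernel) (by decide +kernel) (by decide +kernel) (by decide +kernel)
    (by simp [sign_swap']) (by simp [sign_swap'])

theorem adj25 : Adj (alternatingGroup (Fin 9)) 2 5 :=
  adj_of_perm (by norm_num) (by norm_num) (by norm_num) (swap 0 1 * swap 2 3)
    (swap 4 5 * swap 5 6 * (swap 6 7 * swap 7 8))
    (by decide +kernel) (by decide +kernel) (by decide +kernel) (by decide +kernel) (by decide +kernel)
    (by simp [sign_swap']) (by simp [sign_swap'])

theorem adj35 : Adj (alternatingGroup (Fin 9)) 3 5 :=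
  adj_of_perm (by norm_num) (by norm_num) (by norm_num) (swap 0 1 * swap 1 2)
    (swap 4 5 * swap 5 6 * (swap 6 7 * swap 7 8))
    (by decide +kernel) (by decide +kernel) (by decide +kernel) (by decide +kernel) (by decide +kernel)
    (by simp [sign_swap']) (by simp [sign_swap'])

theorem not_five_big {n : ℕ} (h : 9 ≤ n) : ¬ Five (alternatingGroup (Fin n)) :=
  not_five_of_triangle (r := 2) (s := 3) (t := 5) (by norm_num) (by norm_num) (by norm_num) (by norm_num)
    (by norm_num) (by norm_num) (adj23.map (emb h) (emb_inj h)) (adj25.map (emb h) (emb_inj h))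
    (adj35.map (emb h) (emb_inj h))

theorem not_five_small {n : ℕ} (h : n ≤ 8) : ¬ Five (alternatingGroup (Fin n)) := by
  apply not_five_of_le_four
  have h1 : (Nat.card (alternatingGroup (Fin n))).primeFactors.card ≤ ({2, 3, 5, 7} : Finset ℕ).card := by
    apply card_primeFactors_le_of_dvd
    intro p hp hd
    have h2 : p ∣ Nat.card (Perm (Fin n)) := hd.trans (Subgroup.card_subgroup_dvd_card _)
    rw [Nat.card_perm, Nat.card_eq_fintype_card, Fintype.card_fin] at h2
    have h3 : p ≤ n := (hp.dvd_factorial).1 h2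
    have h4 : p ≤ 8 := h3.trans h
    interval_cases p <;> first | decide | (exfalso; revert hp; norm_num)
  exact h1.trans (by decide)

theorem not_five {n : ℕ} : ¬ Five (alternatingGroup (Fin n)) := by
  rcases Nat.lt_or_ge n 9 with h | h
  · exact not_five_small (by omega)
  · exact not_five_big h

end Cfsg.Agent.H423.PGAlt
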