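import Mathlib
import Cfsg.Agent.H423.PG
import Cfsg.Agent.H423.PGAlt
import Cfsg.Agent.H423.PGRankOne
import Cfsg.Agent.S2497

/-!
A simple group with at most five primes is not `Five`.
-/

set_option autoImplicit false

namespace Cfsg.Agent.H423.PGEppo

open Cfsg.Agent.H423.PG

theorem not_five_of_five_primes {G : Type*} [Group G] [Finite G] [IsSimpleGroup G] (hG : ¬ IsMulCommutative G)
    (h5 : (Nat.card G).primeFactors.card ≤ 5) : ¬ Five G := by
  intro hfive
  have hfive' := hfive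
  obtain ⟨-, ρ, hρ, hρ5, hco⟩ := hfive
  have hρe : ρ = (Nat.card G).primeFactors := Finset.eq_of_subset_of_card_le hρ (by omega)
  have hpp : ∀ g : G, g ≠ 1 → IsPrimePow (orderOf g) := by
    intro g hg
    rw [isPrimePow_iff_card_primeFactors_eq_one]
    by_contra hcon
    have h0 : orderOf g ≠ 0 := (orderOf_pos g).ne'
    have h1 : orderOf g ≠ 1 := by rwa [Ne, orderOf_eq_one_iff]
    have h2 : 1 < (orderOf g).primeFactors.card := by
      have : 0 < (orderOf g).primeFactors.card := by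
        rw [Finset.card_pos, Nat.nonempty_primeFactors]
        have := orderOf_pos g
        omega
      omega
    obtain ⟨r, hr, s, hs, hrs⟩ := Finset.one_lt_card.1 h2
    have hr' := Nat.prime_of_mem_primeFactors hr
    have hs' := Nat.prime_of_mem_primeFactors hs
    have hd : r * s ∣ orderOf g := ((Nat.coprime_primes hr' hs').2 hrs).mul_dvd_of_dvd_of_dvd
      (Nat.dvd_of_mem_primeFactors hr) (Nat.dvd_of_mem_primeFactors hs)
    obtain ⟨k, hk⟩ := exists_pow_orderOf hd
    have hadj : Adj G r s := ⟨_, hk⟩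
    exact hco r (hρe ▸ mem_pf hr' hadj.left_dvd) s (hρe ▸ mem_pf hs' hadj.right_dvd) hrs hadj
  rcases Cfsg.Agent.S2497.result hG hpp with ⟨⟨e⟩⟩ | ⟨F, _, _, hF, ⟨e⟩⟩ | ⟨F, _, _, hF, ⟨e⟩⟩ | ⟨F, _, _, hF⟩
  · exact PGAlt.not_five ((five_congr e).1 hfive')
  · refine PGRankOne.psl_two ?_ ((five_congr e).1 hfive')
    simp only [Finset.mem_insert, Finset.mem_singleton] at hF
    omega
  · exact PGRankOne.psl_three ((five_congr e).1 hfive')
  · rcases hF with ⟨hF, ⟨e⟩⟩ | ⟨hF, ⟨e⟩⟩
    · exact PGRankOne.sz (F := F) (m := 1) le_rfl (by rw [hF]; norm_num) ((five_congr e).1 hfive')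
    · exact PGRankOne.sz (F := F) (m := 2) (by norm_num) (by rw [hF]; norm_num) ((five_congr e).1 hfive')

end Cfsg.Agent.H423.PGEppo
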