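import Cfsg.Agent.H423.PGNum
import Cfsg.Agent.S1059
import Cfsg.Agent.S1062
import Cfsg.Agent.S1063
import Cfsg.Agent.S1064
import Cfsg.Agent.S1065
import Cfsg.Agent.S1066
import Cfsg.Agent.S1067
import Cfsg.Agent.S1068
import Cfsg.Agent.S1069

/-!
The exceptional groups of large rank have at least seven prime divisors; a Ree group `²G₂(q)` with at most six prime
divisors has `q = 27`.
-/

set_option autoImplicit false
set_option linter.unusedVariables false

namespace Cfsg.Agent.H423.PGExc

open Cfsg Cfsg.Agent.H423.PG Cfsg.Agent.H423.PGNum Cfsg.Agent.Lib.Zsigmondy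

theorem sub_dvd {a m n : ℕ} (h : n ∣ m) : a ^ n - 1 ∣ a ^ m - 1 := by
  obtain ⟨k, rfl⟩ := h
  rw [pow_mul]
  simpa using Nat.sub_dvd_pow_sub_pow (a ^ n) 1 k

theorem two_le_card (F : Type*) [Field F] [Fintype F] : 2 ≤ Fintype.card F := Fintype.one_lt_card

theorem exists_char (F : Type*) [Field F] [Fintype F] : ∃ p : ℕ, p.Prime ∧ p ∣ Fintype.card F := by
  obtain ⟨p, hp⟩ := CharP.exists F
  obtain ⟨n, hpp, hn⟩ := FiniteField.card F p
  exact ⟨p, hpp, by rw [hn]; exact dvd_pow_self p n.ne_zero⟩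

section

variable {F : Type*} [Field F] [Fintype F]

theorem f4 (h3 : 3 ≤ Fintype.card F) : 7 ≤ (Nat.card ↥(Cfsg.Lie.chevF4.group F)).primeFactors.card := by
  obtain ⟨p, hp, hpF⟩ := exists_char F
  generalize hq : Fintype.card F = q at h3 hpF
  have hN := S1062.result (F := F) hq
  set N := Nat.card ↥(Cfsg.Lie.chevF4.group F) with hNdef
  have ha : 2 ≤ q := by omega
  have h0 : ∀ n, 0 < n → q ^ n - 1 ≠ 0 := by
    intro n hn
    have : 1 < q ^ n := Nat.one_lt_pow hn.ne' (by omega)
    omega
  have hN0 : N ≠ 0 := by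
    rw [hN]
    have := h0 2 (by norm_num)
    have := h0 6 (by norm_num)
    have := h0 8 (by norm_num)
    have := h0 12 (by norm_num)
    have : q ^ 24 ≠ 0 := pow_ne_zero _ (by omega)
    positivity
  have hg : 1 * N = N := one_mul N
  have h12 : q ^ 12 - 1 ∣ N := by rw [hN]; exact Dvd.intro_left _ rfl
  have h8 : q ^ 8 - 1 ∣ N := by rw [hN]; exact (Dvd.intro_left _ rfl).mul_right _
  have h2 : q ^ 2 - 1 ∣ N := by
    rw [hN]
    exact (((Dvd.intro_left _ rfl).mul_right _).mul_right _).mul_right _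
  have hpN : p ∣ N := by
    rw [hN]
    exact ((((dvd_pow hpF (by norm_num)).mul_right _).mul_right _).mul_right _).mul_right _
  -- a prime divisor of `q ^ 2 - 1`
  obtain ⟨e, he, r0, hr0, hr0N, ho0⟩ : ∃ e, (e = 1 ∨ e = 2) ∧ ∃ r : ℕ, r.Prime ∧ r ∣ N ∧ orderOf (q : ZMod r) = e := by
    obtain ⟨r, hr, hrd⟩ := Nat.exists_prime_and_dvd (n := q ^ 2 - 1) (by
      have : 3 ^ 2 ≤ q ^ 2 := Nat.pow_le_pow_left h3 2
      omega)
    refine ⟨_, ?_, r, hr, hrd.trans h2, rfl⟩
    rw [dvd_pow_sub_one_iff (by omega)] at hrd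
    exact (Nat.dvd_prime Nat.prime_two).1 hrd
  have key : ({0, e, 3, 4, 6, 8, 12} : Finset ℕ).card ≤ N.primeFactors.card := by
    apply card_ge (a := q) hN0
    intro n hn
    simp only [Finset.mem_insert, Finset.mem_singleton] at hn
    rcases hn with rfl | rfl | rfl | rfl | rfl | rfl | rfl
    · exact pchar hp hpF ha hpN hg (one_dvd _)
    · exact ⟨r0, hr0, hr0N, ho0⟩
    · exact zsig ha (by norm_num) (by omega) ((sub_dvd (by norm_num)).trans h12) hg (one_dvd _)
    · exact zsig ha (by norm_num) (by omega) ((sub_dvd (by norm_num)).trans h12) hg (one_dvd _)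
    · exact zsig ha (by norm_num) (by omega) ((sub_dvd (by norm_num)).trans h12) hg (one_dvd _)
    · exact zsig ha (by norm_num) (by omega) h8 hg (one_dvd _)
    · exact zsig ha (by norm_num) (by omega) h12 hg (one_dvd _)
  rcases he with rfl | rfl <;> exact key

theorem e6 : 7 ≤ (Nat.card ↥(Cfsg.Lie.chevE6.group F)).primeFactors.card := by
  obtain ⟨p, hp, hpF⟩ := exists_char F
  have ha := two_le_card F
  generalize hq : Fintype.card F = q at ha hpF
  have hN := S1063.result (F := F) hq
  set N := Nat.card ↥(Cfsg.Lie.chevE6.group F) with hNdef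
  set M := q ^ 36 * (q ^ 2 - 1) * (q ^ 5 - 1) * (q ^ 6 - 1) * (q ^ 8 - 1) * (q ^ 9 - 1) * (q ^ 12 - 1) with hM
  have h0 : ∀ n, 0 < n → q ^ n - 1 ≠ 0 := by
    intro n hn
    have : 1 < q ^ n := Nat.one_lt_pow hn.ne' (by omega)
    omega
  have hM0 : M ≠ 0 := by
    rw [hM]
    have := h0 2 (by norm_num)
    have := h0 5 (by norm_num)
    have := h0 6 (by norm_num)
    have := h0 8 (by norm_num)
    have := h0 9 (by norm_num)
    have := h0 12 (by norm_num)
    have : q ^ 36 ≠ 0 := pow_ne_zero _ (by omega)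
    positivity
  have hN0 : N ≠ 0 := by
    intro h
    rw [h, mul_zero] at hN
    exact hM0 hN.symm
  have hgd : Nat.gcd 3 (q - 1) ∣ q ^ 2 - 1 := (Nat.gcd_dvd_right _ _).trans (by
    have := sub_dvd (a := q) (n := 1) (m := 2) (by norm_num)
    rwa [pow_one] at this)
  have h12 : q ^ 12 - 1 ∣ M := Dvd.intro_left _ rfl
  have h9 : q ^ 9 - 1 ∣ M := (Dvd.intro_left _ rfl).mul_right _
  have h8 : q ^ 8 - 1 ∣ M := ((Dvd.intro_left _ rfl).mul_right _).mul_right _
  have h5 : q ^ 5 - 1 ∣ M := ((((Dvd.intro_left _ rfl).mul_right _).mul_right _).mul_right _).mul_right _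
  have hpM : p ∣ M := ((((((dvd_pow hpF (by norm_num)).mul_right _).mul_right _).mul_right _).mul_right _).mul_right
    _).mul_right _
  have key : ({0, 3, 4, 5, 8, 9, 12} : Finset ℕ).card ≤ N.primeFactors.card := by
    apply card_ge (a := q) hN0
    intro n hn
    simp only [Finset.mem_insert, Finset.mem_singleton] at hn
    rcases hn with rfl | rfl | rfl | rfl | rfl | rfl | rfl
    · exact pchar hp hpF ha hpM hN hgd
    · exact zsig ha (by norm_num) (by omega) ((sub_dvd (by norm_num)).trans h12) hN hgd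
    · exact zsig ha (by norm_num) (by omega) ((sub_dvd (by norm_num)).trans h12) hN hgd
    · exact zsig ha (by norm_num) (by omega) h5 hN hgd
    · exact zsig ha (by norm_num) (by omega) h8 hN hgd
    · exact zsig ha (by norm_num) (by omega) h9 hN hgd
    · exact zsig ha (by norm_num) (by omega) h12 hN hgd
  exact key

theorem e7 : 7 ≤ (Nat.card ↥(Cfsg.Lie.chevE7.group F)).primeFactors.card := by
  obtain ⟨p, hp, hpF⟩ := exists_char F
  have ha := two_le_card F
  generalize hq : Fintype.card F = q at ha hpF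
  have hN := S1064.result (F := F) hq
  set N := Nat.card ↥(Cfsg.Lie.chevE7.group F) with hNdef
  set M := q ^ 63 * (q ^ 2 - 1) * (q ^ 6 - 1) * (q ^ 8 - 1) * (q ^ 10 - 1) * (q ^ 12 - 1) * (q ^ 14 - 1) *
    (q ^ 18 - 1) with hM
  have h0 : ∀ n, 0 < n → q ^ n - 1 ≠ 0 := by
    intro n hn
    have : 1 < q ^ n := Nat.one_lt_pow hn.ne' (by omega)
    omega
  have hM0 : M ≠ 0 := by
    rw [hM]
    have := h0 2 (by norm_num)
    have := h0 6 (by norm_num)
    have := h0 8 (by norm_num)
    have := h0 10 (by norm_num)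
    have := h0 12 (by norm_num)
    have := h0 14 (by norm_num)
    have := h0 18 (by norm_num)
    have : q ^ 63 ≠ 0 := pow_ne_zero _ (by omega)
    positivity
  have hN0 : N ≠ 0 := by
    intro h
    rw [h, mul_zero] at hN
    exact hM0 hN.symm
  have hgd : Nat.gcd 2 (q - 1) ∣ q ^ 2 - 1 := (Nat.gcd_dvd_right _ _).trans (by
    have := sub_dvd (a := q) (n := 1) (m := 2) (by norm_num)
    rwa [pow_one] at this)
  have h18 : q ^ 18 - 1 ∣ M := Dvd.intro_left _ rfl
  have h14 : q ^ 14 - 1 ∣ M := (Dvd.intro_left _ rfl).mul_right _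
  have h12 : q ^ 12 - 1 ∣ M := ((Dvd.intro_left _ rfl).mul_right _).mul_right _
  have h10 : q ^ 10 - 1 ∣ M := (((Dvd.intro_left _ rfl).mul_right _).mul_right _).mul_right _
  have h8 : q ^ 8 - 1 ∣ M := ((((Dvd.intro_left _ rfl).mul_right _).mul_right _).mul_right _).mul_right _
  have hpM : p ∣ M := (((((((dvd_pow hpF (by norm_num)).mul_right _).mul_right _).mul_right _).mul_right _).mul_right
    _).mul_right _).mul_right _
  have key : ({0, 3, 4, 5, 7, 8, 9} : Finset ℕ).card ≤ N.primeFactors.card := by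
    apply card_ge (a := q) hN0
    intro n hn
    simp only [Finset.mem_insert, Finset.mem_singleton] at hn
    rcases hn with rfl | rfl | rfl | rfl | rfl | rfl | rfl
    · exact pchar hp hpF ha hpM hN hgd
    · exact zsig ha (by norm_num) (by omega) ((sub_dvd (by norm_num)).trans h12) hN hgd
    · exact zsig ha (by norm_num) (by omega) ((sub_dvd (by norm_num)).trans h12) hN hgd
    · exact zsig ha (by norm_num) (by omega) ((sub_dvd (by norm_num)).trans h10) hN hgd
    · exact zsig ha (by norm_num) (by omega) ((sub_dvd (by norm_num)).trans h14) hN hgd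
    · exact zsig ha (by norm_num) (by omega) h8 hN hgd
    · exact zsig ha (by norm_num) (by omega) ((sub_dvd (by norm_num)).trans h18) hN hgd
  exact key

theorem e8 : 7 ≤ (Nat.card ↥(Cfsg.Lie.chevE8.group F)).primeFactors.card := by
  obtain ⟨p, hp, hpF⟩ := exists_char F
  have ha := two_le_card F
  generalize hq : Fintype.card F = q at ha hpF
  have hN := S1065.result (F := F) hq
  set N := Nat.card ↥(Cfsg.Lie.chevE8.group F) with hNdef
  have h0 : ∀ n, 0 < n → q ^ n - 1 ≠ 0 := by
    intro n hn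
    have : 1 < q ^ n := Nat.one_lt_pow hn.ne' (by omega)
    omega
  have hN0 : N ≠ 0 := by
    rw [hN]
    have := h0 2 (by norm_num)
    have := h0 8 (by norm_num)
    have := h0 12 (by norm_num)
    have := h0 14 (by norm_num)
    have := h0 18 (by norm_num)
    have := h0 20 (by norm_num)
    have := h0 24 (by norm_num)
    have := h0 30 (by norm_num)
    have : q ^ 120 ≠ 0 := pow_ne_zero _ (by omega)
    positivity
  have hg : 1 * N = N := one_mul N
  have h30 : q ^ 30 - 1 ∣ N := by rw [hN]; exact Dvd.intro_left _ rfl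
  have h24 : q ^ 24 - 1 ∣ N := by rw [hN]; exact (Dvd.intro_left _ rfl).mul_right _
  have h18 : q ^ 18 - 1 ∣ N := by
    rw [hN]; exact (((Dvd.intro_left _ rfl).mul_right _).mul_right _).mul_right _
  have h14 : q ^ 14 - 1 ∣ N := by
    rw [hN]; exact ((((Dvd.intro_left _ rfl).mul_right _).mul_right _).mul_right _).mul_right _
  have hpN : p ∣ N := by
    rw [hN]
    exact ((((((((dvd_pow hpF (by norm_num)).mul_right _).mul_right _).mul_right _).mul_right _).mul_right
      _).mul_right _).mul_right _).mul_right _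
  have key : ({0, 3, 4, 5, 7, 8, 9} : Finset ℕ).card ≤ N.primeFactors.card := by
    apply card_ge (a := q) hN0
    intro n hn
    simp only [Finset.mem_insert, Finset.mem_singleton] at hn
    rcases hn with rfl | rfl | rfl | rfl | rfl | rfl | rfl
    · exact pchar hp hpF ha hpN hg (one_dvd _)
    · exact zsig ha (by norm_num) (by omega) ((sub_dvd (by norm_num)).trans h24) hg (one_dvd _)
    · exact zsig ha (by norm_num) (by omega) ((sub_dvd (by norm_num)).trans h24) hg (one_dvd _)
    · exact zsig ha (by norm_num) (by omega) ((sub_dvd (by norm_num)).trans h30) hg (one_dvd _)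
    · exact zsig ha (by norm_num) (by omega) ((sub_dvd (by norm_num)).trans h14) hg (one_dvd _)
    · exact zsig ha (by norm_num) (by omega) ((sub_dvd (by norm_num)).trans h24) hg (one_dvd _)
    · exact zsig ha (by norm_num) (by omega) ((sub_dvd (by norm_num)).trans h18) hg (one_dvd _)
  exact key

end

section

variable {K : Type*} [Field K] [Fintype K]

theorem te6 {q : ℕ} (hqp : IsPrimePow q) (hK : Fintype.card K = q ^ 2) :
    7 ≤ (Nat.card ↥(Cfsg.Lie.twistedE6 K q)).primeFactors.card := by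
  have hN := S1066.result (K := K) hqp hK
  obtain ⟨p, hp, hpF⟩ : ∃ p : ℕ, p.Prime ∧ p ∣ q := by
    exact Nat.exists_prime_and_dvd hqp.ne_one
  have ha : 2 ≤ q := hqp.two_le
  set N := Nat.card ↥(Cfsg.Lie.twistedE6 K q) with hNdef
  set M := q ^ 36 * (q ^ 2 - 1) * (q ^ 5 + 1) * (q ^ 6 - 1) * (q ^ 8 - 1) * (q ^ 9 + 1) * (q ^ 12 - 1) with hM
  have h0 : ∀ n, 0 < n → q ^ n - 1 ≠ 0 := by
    intro n hn
    have : 1 < q ^ n := Nat.one_lt_pow hn.ne' (by omega)
    omega
  have hM0 : M ≠ 0 := by
    rw [hM]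
    have := h0 2 (by norm_num)
    have := h0 6 (by norm_num)
    have := h0 8 (by norm_num)
    have := h0 12 (by norm_num)
    have : q ^ 36 ≠ 0 := pow_ne_zero _ (by omega)
    positivity
  have hN0 : N ≠ 0 := by
    intro h
    rw [h, mul_zero] at hN
    exact hM0 hN.symm
  have hgd : Nat.gcd 3 (q + 1) ∣ q ^ 2 - 1 := (Nat.gcd_dvd_right _ _).trans (by
    refine ⟨q - 1, ?_⟩
    rw [← Nat.sq_sub_sq, one_pow])
  have h12 : q ^ 12 - 1 ∣ M := Dvd.intro_left _ rfl
  have h9 : q ^ 9 + 1 ∣ M := (Dvd.intro_left _ rfl).mul_right _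
  have h8 : q ^ 8 - 1 ∣ M := ((Dvd.intro_left _ rfl).mul_right _).mul_right _
  have h5 : q ^ 5 + 1 ∣ M := ((((Dvd.intro_left _ rfl).mul_right _).mul_right _).mul_right _).mul_right _
  have hpM : p ∣ M := ((((((dvd_pow hpF (by norm_num)).mul_right _).mul_right _).mul_right _).mul_right _).mul_right
    _).mul_right _
  have key : ({0, 3, 4, 8, 10, 12, 18} : Finset ℕ).card ≤ N.primeFactors.card := by
    apply card_ge (a := q) hN0
    intro n hn
    simp only [Finset.mem_insert, Finset.mem_singleton] at hn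
    rcases hn with rfl | rfl | rfl | rfl | rfl | rfl | rfl
    · exact pchar hp hpF ha hpM hN hgd
    · exact zsig ha (by norm_num) (by omega) ((sub_dvd (by norm_num)).trans h12) hN hgd
    · exact zsig ha (by norm_num) (by omega) ((sub_dvd (by norm_num)).trans h12) hN hgd
    · exact zsig ha (by norm_num) (by omega) h8 hN hgd
    · exact zsig' ha (by norm_num) (by omega) h5 hN hgd
    · exact zsig ha (by norm_num) (by omega) h12 hN hgd
    · exact zsig' ha (by norm_num) (by omega) h9 hN hgd
  exact key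

end

end Cfsg.Agent.H423.PGExc
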