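import Cfsg.Agent.H423.PG
import Cfsg.Agent.Lib.Zsigmondy

/-!
Counting prime divisors by Zsigmondy primes.
-/

set_option autoImplicit false

namespace Cfsg.Agent.H423.PGNum

open Cfsg.Agent.Lib.Zsigmondy

theorem card_ge {a N : ℕ} (hN : N ≠ 0) (T : Finset ℕ)
    (h : ∀ n ∈ T, ∃ r : ℕ, r.Prime ∧ r ∣ N ∧ orderOf (a : ZMod r) = n) : T.card ≤ N.primeFactors.card := by
  classical
  refine Finset.card_le_card_of_surjOn (fun r => orderOf (a : ZMod r)) ?_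
  intro n hn
  obtain ⟨r, hr, hrN, ho⟩ := h n hn
  exact ⟨r, Nat.mem_primeFactors.2 ⟨hr, hrN, hN⟩, ho⟩

theorem ord_zero {a p : ℕ} (hp : p.Prime) (h : p ∣ a) : orderOf (a : ZMod p) = 0 := by
  have := Fact.mk hp
  rw [(ZMod.natCast_eq_zero_iff a p).2 h, orderOf_eq_zero_iff']
  intro n hn
  rw [zero_pow hn.ne']
  exact zero_ne_one

theorem zsig {a n M N g : ℕ} (ha : 2 ≤ a) (hn : 3 ≤ n) (h6 : ¬ (a = 2 ∧ n = 6)) (hM : a ^ n - 1 ∣ M)
    (hg : g * N = M) (hgd : g ∣ a ^ 2 - 1) : ∃ r : ℕ, r.Prime ∧ r ∣ N ∧ orderOf (a : ZMod r) = n := by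
  obtain ⟨r, hr, ho⟩ := exists_prime_orderOf ha (by omega) (by omega) h6
  refine ⟨r, hr, ?_, ho⟩
  have h1 : r ∣ g * N := by
    rw [hg]
    refine Dvd.dvd.trans ?_ hM
    rw [dvd_pow_sub_one_iff (by omega), ho]
  rcases hr.dvd_or_dvd h1 with h | h
  · exfalso
    have h2 := h.trans hgd
    rw [dvd_pow_sub_one_iff (by omega), ho] at h2
    have := Nat.le_of_dvd (by norm_num) h2
    omega
  · exact h

theorem zsig' {a k M N g : ℕ} (ha : 2 ≤ a) (hk : 2 ≤ k) (h6 : ¬ (a = 2 ∧ k = 3)) (hM : a ^ k + 1 ∣ M)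
    (hg : g * N = M) (hgd : g ∣ a ^ 2 - 1) : ∃ r : ℕ, r.Prime ∧ r ∣ N ∧ orderOf (a : ZMod r) = 2 * k := by
  obtain ⟨r, hr, ho⟩ := exists_prime_orderOf (a := a) (n := 2 * k) ha (by omega) (by omega) (by omega)
  refine ⟨r, hr, ?_, ho⟩
  have h0 : r ∣ a ^ (2 * k) - 1 := by rw [dvd_pow_sub_one_iff (by omega), ho]
  have h00 : a ^ (2 * k) - 1 = (a ^ k + 1) * (a ^ k - 1) := by
    rw [mul_comm 2 k, pow_mul, ← Nat.sq_sub_sq, one_pow]
  have h01 : r ∣ a ^ k + 1 := by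
    rw [h00] at h0
    rcases hr.dvd_or_dvd h0 with h | h
    · exact h
    · exfalso
      rw [dvd_pow_sub_one_iff (by omega), ho] at h
      have := Nat.le_of_dvd (by omega) h
      omega
  have h1 : r ∣ g * N := by
    rw [hg]
    exact h01.trans hM
  rcases hr.dvd_or_dvd h1 with h | h
  · exfalso
    have h2 := h.trans hgd
    rw [dvd_pow_sub_one_iff (by omega), ho] at h2
    have := Nat.le_of_dvd (by norm_num) h2
    omega
  · exact h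

theorem pchar {a M N g p : ℕ} (hp : p.Prime) (hpa : p ∣ a) (ha : 2 ≤ a) (hM : p ∣ M) (hg : g * N = M)
    (hgd : g ∣ a ^ 2 - 1) : ∃ r : ℕ, r.Prime ∧ r ∣ N ∧ orderOf (a : ZMod r) = 0 := by
  refine ⟨p, hp, ?_, ord_zero hp hpa⟩
  rw [← hg] at hM
  rcases hp.dvd_or_dvd hM with h | h
  · exfalso
    have h2 := h.trans hgd
    have h3 : p ∣ a ^ 2 := dvd_pow hpa (by norm_num)
    have h4 : 1 ≤ a ^ 2 := Nat.one_le_pow _ _ (by omega)
    have h5 : p ∣ a ^ 2 - (a ^ 2 - 1) := Nat.dvd_sub h3 h2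
    have h6 : a ^ 2 - (a ^ 2 - 1) = 1 := by omega
    rw [h6] at h5
    exact hp.one_lt.ne' (Nat.dvd_one.1 h5)
  · exact h

end Cfsg.Agent.H423.PGNum
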