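import Mathlib

/-!
The prime graph with vertices 2, 3, 5, 7, 13 and edges 2-3, 2-5, 2-7, 3-5.
-/

set_option autoImplicit false

namespace Cfsg.Agent.H423.Pattern

universe u

/-- the prime graph of `PSp_6(3)` -/
def Pat (G : Type u) [Group G] : Prop :=
  (∀ p : ℕ, p.Prime → (p ∣ Nat.card G ↔ (p = 2 ∨ p = 3 ∨ p = 5 ∨ p = 7 ∨ p = 13))) ∧
  (∀ p q : ℕ, p.Prime → q.Prime → p ≠ q →
    ((∃ g : G, orderOf g = p * q) ↔ (p * q = 6 ∨ p * q = 10 ∨ p * q = 14 ∨ p * q = 15)))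

theorem pat_of {G : Type u} [Group G] [Finite G]
    (hp : ∀ p : ℕ, p.Prime → (∃ g : G, orderOf g = p) → (p = 2 ∨ p = 3 ∨ p = 5 ∨ p = 7 ∨ p = 13))
    (h13 : ∃ g : G, orderOf g = 13)
    (h6 : ∃ g : G, orderOf g = 6) (h10 : ∃ g : G, orderOf g = 10) (h14 : ∃ g : G, orderOf g = 14)
    (h15 : ∃ g : G, orderOf g = 15)
    (h21 : ∀ g : G, orderOf g ≠ 21) (h26 : ∀ g : G, orderOf g ≠ 26) (h35 : ∀ g : G, orderOf g ≠ 35)
    (h39 : ∀ g : G, orderOf g ≠ 39) (h65 : ∀ g : G, orderOf g ≠ 65) (h91 : ∀ g : G, orderOf g ≠ 91) : Pat G := by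
  have hdvd : ∀ m : ℕ, (∃ g : G, orderOf g = m) → m ∣ Nat.card G := by
    rintro m ⟨g, rfl⟩
    exact orderOf_dvd_natCard g
  have hprime : ∀ p : ℕ, p.Prime → p ∣ Nat.card G → (p = 2 ∨ p = 3 ∨ p = 5 ∨ p = 7 ∨ p = 13) := by
    intro p hpp hd
    have : Fact p.Prime := ⟨hpp⟩
    exact hp p hpp (exists_prime_orderOf_dvd_card' p hd)
  constructor
  · intro p hpp
    refine ⟨hprime p hpp, ?_⟩
    rintro (rfl | rfl | rfl | rfl | rfl)
    · exact (show (2 : ℕ) ∣ 6 by norm_num).trans (hdvd 6 h6)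
    · exact (show (3 : ℕ) ∣ 6 by norm_num).trans (hdvd 6 h6)
    · exact (show (5 : ℕ) ∣ 10 by norm_num).trans (hdvd 10 h10)
    · exact (show (7 : ℕ) ∣ 14 by norm_num).trans (hdvd 14 h14)
    · exact hdvd 13 h13
  · intro p q hpp hqp hne
    constructor
    · rintro ⟨g, hg⟩
      have hd : p * q ∣ Nat.card G := hdvd _ ⟨g, hg⟩
      have h1 := hprime p hpp ((Dvd.intro _ rfl).trans hd)
      have h2 := hprime q hqp ((Dvd.intro_left _ rfl).trans hd)
      rcases h1 with rfl | rfl | rfl | rfl | rfl <;> rcases h2 with rfl | rfl | rfl | rfl | rfl <;>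
        first
        | exact absurd rfl hne
        | exact absurd hg (h21 g)
        | exact absurd hg (h26 g)
        | exact absurd hg (h35 g)
        | exact absurd hg (h39 g)
        | exact absurd hg (h65 g)
        | exact absurd hg (h91 g)
        | norm_num
    · rintro (h | h | h | h)
      · rw [h]; exact h6
      · rw [h]; exact h10
      · rw [h]; exact h14
      · rw [h]; exact h15

theorem Pat.iff {G : Type u} {H : Type} [Group G] [Group H] (hG : Pat G) (hH : Pat H) :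
    (∀ p : ℕ, p.Prime → (p ∣ Nat.card G ↔ p ∣ Nat.card H)) ∧
      (∀ p q : ℕ, p.Prime → q.Prime → p ≠ q →
        ((∃ g : G, orderOf g = p * q) ↔ (∃ g : H, orderOf g = p * q))) :=
  ⟨fun p hp => (hG.1 p hp).trans (hH.1 p hp).symm,
    fun p q hp hq hne => (hG.2 p q hp hq hne).trans (hH.2 p q hp hq hne).symm⟩

end Cfsg.Agent.H423.Pattern
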