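import Mathlib
import Cfsg.Agent.H423.SzGroup
import Cfsg.Agent.H423.Pattern

set_option autoImplicit false

namespace Cfsg.Agent.H423.SzPat

open Cfsg.Agent.H423.SzGroup Cfsg.Agent.H423.SzEight Cfsg.Agent.H423.Pattern

/-- the field with eight elements -/
abbrev K8 : Type := GaloisField 2 3

theorem card_K8 : Nat.card K8 = 8 := by
  rw [GaloisField.card 2 3 (by norm_num)]
  norm_num

theorem h8 (x : K8) : x ^ 8 = x := by
  have := Fintype.ofFinite K8
  have h := FiniteField.pow_card x
  rwa [← Nat.card_eq_fintype_card, card_K8] at h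

theorem exists_gen : ∃ k : K8, k ^ 3 = k + 1 := by
  classical
  have := Fintype.ofFinite K8
  have h0 : (2 : K8) = 0 := SzEight.two_eq_zero
  obtain ⟨a, ha⟩ : ∃ a : K8, a ∉ ({0, 1} : Finset K8) := by
    by_contra h
    push Not at h
    have h1 : Fintype.card K8 ≤ ({0, 1} : Finset K8).card := by
      rw [← Finset.card_univ]
      exact Finset.card_le_card fun x _ => h x
    rw [← Nat.card_eq_fintype_card, card_K8] at h1
    have h2 : ({0, 1} : Finset K8).card ≤ 2 := Finset.card_le_two
    omega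
  simp only [Finset.mem_insert, Finset.mem_singleton, not_or] at ha
  rcases cases8 h8 a with h | h | h | h
  · exact absurd h ha.1
  · exact absurd h ha.2
  · exact ⟨a, h⟩
  · refine ⟨a⁻¹, ?_⟩
    have h1 : a⁻¹ * a = 1 := inv_mul_cancel₀ ha.1
    have e : a⁻¹ = a ^ 2 + a := by
      refine inv_eq_of_mul_eq_one_right ?_
      linear_combination h + a ^ 2 * h0
    rw [e]
    grind

theorem exists_group (N : ℕ) : ∃ (H : Type) (_ : Group H) (_ : Finite H), N < Nat.card H ∧ Pat H := by
  obtain ⟨k, hk⟩ := exists_gen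
  refine ⟨HH K8 h8 (N + 1), inferInstance, inferInstance, (Nat.lt_succ_self N).trans (card_gt h8), ?_⟩
  refine pat_of ?_ (exists_thirteen h8 hk) (exists_six h8 hk) (exists_ten h8) (exists_fourteen h8 hk)
    (exists_fifteen h8 hk) (fun g => no_three h8 g (Or.inl rfl)) (fun g => no_twentysix h8 g)
    (fun g => no_odd h8 g (Or.inl rfl)) (fun g => no_three h8 g (Or.inr rfl))
    (fun g => no_odd h8 g (Or.inr (Or.inl rfl))) (fun g => no_odd h8 g (Or.inr (Or.inr rfl)))
  rintro p hp ⟨g, hg⟩
  exact prime_order h8 hp g hg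

end Cfsg.Agent.H423.SzPat
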